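import Mathlib
import Cfsg.Agent.Lib.H51.BauBlock
import Cfsg.Agent.Lib.H1.Coprime2

set_option autoImplicit false
set_option linter.all false

namespace H56.BmP

open Subgroup Cfsg H51.FF H51.OG H52.PRes H52.PCore H51.Bau H1.Coprime2
open scoped commutatorElement

variable {G : Type*} [Group G] [Finite G] {p : ℕ} [hp : Fact p.Prime]

/-- the residual of `E Y`, `Y` a `p`-group normalizing `E = O^p(E)`. -/
theorem res_sup {E Y : Subgroup G} (h1 : pResidualOf p E = E) (hY : IsPGroup p Y)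
    (hYE : Y ≤ normalizer (E : Set G)) : pResidualOf p (E ⊔ Y) = E := by
  apply le_antisymm
  · apply resOf_le_of_pMod
    rw [sup_comm]
    exact pMod_of_sup hY hYE
  · conv_lhs => rw [← h1]
    exact resOf_mono le_sup_left

theorem nz_omegaOneCenter {E : Subgroup G} : normalizer (E : Set G) ≤
    normalizer (omegaOneCenter p (pCoreOf p E) : Set G) := by
  intro g hg
  rw [mem_nz_iff]
  show cg g (omegaOne p _) = _
  rw [omegaOne_cg, cg_inf, map_centralizer]
  have : cg g (pCoreOf p E) = pCoreOf p E := by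
    rw [← mem_nz_iff]; exact normalizer_le_normalizer_pCoreOf E hg
  rw [this]
  rfl

theorem nz_WE {E : Subgroup G} : normalizer (E : Set G) ≤
    normalizer ((⁅omegaOneCenter p (pCoreOf p E), E⁆ : Subgroup G) : Set G) :=
  le_normalizer_commutator nz_omegaOneCenter le_rfl

variable {T : Sylow p G} {E : Subgroup G}

theorem of_pgroup (hE : IsBaumannBlock p (T : Subgroup G) E)
    (h : IsPGroup p (⁅centralizer ((⁅omegaOneCenter p (pCoreOf p E), E⁆ : Subgroup G) : Set G), E⁆ :
      Subgroup G)) :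
    centralizer ((⁅omegaOneCenter p (pCoreOf p E), E⁆ : Subgroup G) : Set G) ≤
      normalizer (E : Set G) := by
  set W := ⁅omegaOneCenter p (pCoreOf p E), E⁆ with hW
  set C := centralizer (W : Set G) with hC
  set Y := ⁅C, E⁆ with hY
  have hBE : baumannSubgroupOf p (T : Subgroup G) ≤ normalizer (E : Set G) := le_nz_of_comm hE.2.1
  have hnC : normalizer (E : Set G) ≤ normalizer (C : Set G) := le_normalizer_centralizer nz_WE
  have hnY : normalizer (E : Set G) ≤ normalizer (Y : Set G) := le_normalizer_commutator hnC le_rfl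
  have hYE : Y ≤ normalizer (E : Set G) :=
    nz_of T hE.1 hE.2.1 h (hBE.trans hnY) (Subgroup.le_normalizer.trans hnY)
  have hres := res_sup hE.1 h hYE
  have hCY : C ≤ normalizer (Y : Set G) := le_normalizer_commutator_left C E
  have hCEY : C ≤ normalizer ((E ⊔ Y : Subgroup G) : Set G) := by
    apply H1.Coprime.le_normalizer_of_conj_mem
    intro c hc x hx
    obtain ⟨e, he, y, hy, rfl⟩ := (H13.Norm.mem_sup_of_le_normalizer' hYE).1 hx
    have e1 : c * (e * y) * c⁻¹ = ⁅c, e⁆ * e * (c * y * c⁻¹) := by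
      rw [commutatorElement_def]; group
    rw [e1]
    refine mul_mem (mul_mem ?_ ?_) ?_
    · exact Subgroup.mem_sup_right (Subgroup.commutator_mem_commutator hc he)
    · exact Subgroup.mem_sup_left he
    · exact Subgroup.mem_sup_right ((mem_normalizer_iff.1 (hCY hc) y).1 hy)
  have h2 := hCEY.trans (normalizer_le_normalizer_resOf (p := p) (E ⊔ Y))
  have h3 : resOf p (E ⊔ Y) = E := hres
  rwa [h3] at h2

theorem nonexc (hG : centralizer (pCore p G : Set G) ≤ pCore p G)
    (hE : IsBaumannBlock p (T : Subgroup G) E)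
    (hNE : ⁅pCore p G, E⁆ ≤ ⁅omegaOneCenter p (pCoreOf p E), E⁆) :
    centralizer ((⁅omegaOneCenter p (pCoreOf p E), E⁆ : Subgroup G) : Set G) ≤
      normalizer (E : Set G) := by
  apply of_pgroup hE
  set W := ⁅omegaOneCenter p (pCoreOf p E), E⁆ with hW
  set C := centralizer (W : Set G) with hC
  set N := pCore p G with hN
  have hnC : normalizer (E : Set G) ≤ normalizer (C : Set G) := le_normalizer_centralizer nz_WE
  have hEW : E ≤ normalizer (W : Set G) := Subgroup.le_normalizer.trans nz_WE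
  have hNn : ∀ g : G, ∀ n ∈ N, g * n * g⁻¹ ∈ N := fun g n hn =>
    (inferInstance : (pCore p G).Normal).conj_mem n hn g
  let X : Subgroup G :=
    { carrier := {x | x ∈ normalizer (W : Set G) ∧ ∀ n ∈ N, x * n * x⁻¹ * n⁻¹ ∈ W}
      one_mem' := ⟨one_mem _, fun n _ => by
        have : 1 * n * 1⁻¹ * n⁻¹ = 1 := by group
        rw [this]; exact one_mem _⟩
      mul_mem' := by
        rintro x y ⟨hx, hx'⟩ ⟨hy, hy'⟩
        refine ⟨mul_mem hx hy, fun n hn => ?_⟩
        have e : (x * y) * n * (x * y)⁻¹ * n⁻¹ = (x * (y * n * y⁻¹ * n⁻¹) * x⁻¹) * (x * n * x⁻¹ * n⁻¹) := by group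
        rw [e]
        exact mul_mem ((mem_normalizer_iff.1 hx _).1 (hy' n hn)) (hx' n hn)
      inv_mem' := by
        rintro x ⟨hx, hx'⟩
        refine ⟨inv_mem hx, fun n hn => ?_⟩
        have e : x⁻¹ * n * x⁻¹⁻¹ * n⁻¹ = x⁻¹ * (x * n * x⁻¹ * n⁻¹)⁻¹ * x⁻¹⁻¹ := by group
        rw [e]
        exact (mem_normalizer_iff.1 (inv_mem hx) _).1 (inv_mem (hx' n hn)) }
  have hEX : E ≤ X := by
    intro e he
    refine ⟨hEW he, fun n hn => ?_⟩
    have h1 : ⁅n, e⁆ ∈ W := hNE (Subgroup.commutator_mem_commutator hn he)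
    have e1 : e * n * e⁻¹ * n⁻¹ = ⁅n, e⁆⁻¹ := by rw [commutatorElement_def]; group
    rw [e1]
    exact inv_mem h1
  have hCnW : C ≤ normalizer (W : Set G) := Subgroup.centralizer_le_normalizer _
  have hYX : ⁅C, E⁆ ≤ X := by
    rw [Subgroup.commutator_le]
    intro c hc e he
    rw [commutatorElement_def]
    refine mul_mem ?_ (inv_mem (hEX he))
    have h1 := hEX he
    refine ⟨mul_mem (mul_mem (hCnW hc) (hEW he)) (inv_mem (hCnW hc)), fun n hn => ?_⟩
    have h2 := h1.2 (c⁻¹ * n * c) (by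
      have := hNn c⁻¹ n hn
      rwa [inv_inv] at this)
    have e1 : (c * e * c⁻¹) * n * (c * e * c⁻¹)⁻¹ * n⁻¹ =
        c * (e * (c⁻¹ * n * c) * e⁻¹ * (c⁻¹ * n * c)⁻¹) * c⁻¹ := by group
    rw [e1]
    exact (mem_normalizer_iff.1 (hCnW hc) _).1 h2
  have hYC : ⁅C, E⁆ ≤ C := by
    rw [Subgroup.commutator_le]
    intro c hc e he
    rw [commutatorElement_def]
    have e1 : c * e * c⁻¹ * e⁻¹ = c * (e * c⁻¹ * e⁻¹) := by group
    rw [e1]
    exact mul_mem hc ((mem_normalizer_iff.1 (hnC (Subgroup.le_normalizer he)) _).1 (inv_mem hc))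
  rw [← resOf_eq_bot_iff, eq_bot_iff]
  rw [resOf_eq_closure, closure_le]
  rintro y ⟨hy, hyc⟩
  have hyX := hYX hy
  have hyC := hYC hy
  have hyN : zpowers y ≤ normalizer (N : Set G) := by
    rw [Subgroup.normalizer_eq_top]; exact le_top
  have hNp : IsPGroup p N := isPGroup_pCore
  have hcop : (Nat.card (zpowers y)).Coprime (Nat.card N) := by
    rw [Nat.card_zpowers]
    obtain ⟨m, hm⟩ := IsPGroup.iff_card.1 hNp
    rw [hm]
    exact Nat.Coprime.pow_right m hyc
  have hsolv : Group.IsSolvable (zpowers y) := by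
    have : IsMulCommutative (zpowers y) := inferInstance
    exact isSolvable_of_comm (fun a b => this.is_comm.comm a b)
  have h1 : ⁅N, zpowers y⁆ ≤ W := by
    rw [Subgroup.commutator_le]
    intro n hn z hz
    obtain ⟨m, rfl⟩ := mem_zpowers_iff.1 hz
    have h2 := (X.zpow_mem hyX m).2 n hn
    have e1 : ⁅n, y ^ m⁆ = (y ^ m * n * (y ^ m)⁻¹ * n⁻¹)⁻¹ := by
      rw [commutatorElement_def]; group
    rw [e1]
    exact inv_mem h2
  have h2 : ⁅W, zpowers y⁆ = ⊥ := by
    rw [Subgroup.commutator_comm, Subgroup.commutator_eq_bot_iff_le_centralizer, zpowers_le]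
    exact hyC
  have h3 := le_centralizer_of_series (zpowers y) N W hyN hcop (Or.inl hsolv) h1 h2
  have h4 : y ∈ N := hG (h3 (mem_zpowers y))
  obtain ⟨k, hk⟩ := hNp ⟨y, h4⟩
  have hk' : y ^ p ^ k = 1 := congrArg Subtype.val hk
  have h5 : orderOf y ∣ p ^ k := orderOf_dvd_of_pow_eq_one hk'
  have h6 := Nat.Coprime.eq_one_of_dvd (Nat.Coprime.pow_right k hyc) h5
  exact orderOf_eq_one_iff.1 h6

end H56.BmP
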