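import Mathlib
import Cfsg.Agent.Lib.H56.BmP
import Cfsg.Agent.Lib.H82.GagAct

set_option autoImplicit false
set_option linter.all false

namespace H56.BmQ

open Subgroup Cfsg H51.FF H51.OG H52.PRes H52.PCore H51.Bau H1.Coprime2 H56.BmP
open scoped commutatorElement

variable {G : Type*} [Group G] [Finite G] {p : ℕ} [hp : Fact p.Prime]

/-- `W_E` -/
abbrev WB (p : ℕ) (E : Subgroup G) : Subgroup G := ⁅omegaOneCenter p (pCoreOf p E), E⁆

/-- if `F = O^p(F)` and `[E, F]` lies in a `p`-group centralized by `F` then `[E, F] = 1` -/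
theorem comm_bot {E F P : Subgroup G} (hF : resOf p F = F) (hP : IsPGroup p P)
    (h1 : ⁅E, F⁆ ≤ P) (h2 : ⁅P, F⁆ = ⊥) : ⁅E, F⁆ = ⊥ := by
  rw [Subgroup.commutator_comm, Subgroup.commutator_eq_bot_iff_le_centralizer, ← hF,
    resOf_eq_closure, closure_le]
  rintro f ⟨hf, hfc⟩
  show f ∈ centralizer (E : Set G)
  rw [mem_centralizer_iff]
  intro e he
  have hc : ⁅e, f⁆ ∈ P := h1 (Subgroup.commutator_mem_commutator he hf)
  have hcf : Commute ⁅e, f⁆ f := H26.Basic.commute_of_commutator_eq_bot h2 hc hf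
  have e1 : e * f * e⁻¹ = ⁅e, f⁆ * f := by rw [commutatorElement_def]; group
  have e2 : (e * f * e⁻¹) ^ (orderOf f) = 1 := by
    rw [conj_pow, pow_orderOf_eq_one]; group
  rw [e1, hcf.mul_pow, pow_orderOf_eq_one, mul_one] at e2
  obtain ⟨k, hk⟩ := hP ⟨_, hc⟩
  have hk' : ⁅e, f⁆ ^ p ^ k = 1 := congrArg Subtype.val hk
  have h3 := Nat.dvd_gcd (orderOf_dvd_of_pow_eq_one e2) (orderOf_dvd_of_pow_eq_one hk')
  rw [(Nat.Coprime.pow_right k hfc).gcd_eq_one] at h3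
  have h4 : ⁅e, f⁆ = 1 := orderOf_eq_one_iff.1 (Nat.dvd_one.1 h3)
  exact commutatorElement_eq_one_iff_mul_comm.1 h4

/-- conjugation on a section -/
noncomputable def sec {X Y : Subgroup G} (hYX : Y ≤ X) [(Y.subgroupOf X).Normal] (g : G)
    (hX : g ∈ normalizer (X : Set G)) (hY : g ∈ normalizer (Y : Set G)) :
    MulAut (↥X ⧸ Y.subgroupOf X) :=
  QuotientGroup.congr (Y.subgroupOf X) (Y.subgroupOf X) (X.normalizerMonoidHom ⟨g, hX⟩) (by
    ext x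
    constructor
    · rintro ⟨y, hy, rfl⟩
      have hy' : (y : G) ∈ Y := hy
      show g * (y : G) * g⁻¹ ∈ Y
      exact (mem_normalizer_iff.1 hY _).1 hy'
    · intro hx
      have hx' : (x : G) ∈ Y := hx
      have h1 : g⁻¹ * (x : G) * g ∈ Y := by
        have := (mem_normalizer_iff.1 (inv_mem hY) (x : G)).1 hx'
        rwa [inv_inv] at this
      refine ⟨⟨g⁻¹ * x * g, hYX h1⟩, h1, ?_⟩
      apply Subtype.ext
      show g * (g⁻¹ * (x : G) * g) * g⁻¹ = x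
      group)

theorem sec_mk {X Y : Subgroup G} (hYX : Y ≤ X) [(Y.subgroupOf X).Normal] (g : G)
    (hX : g ∈ normalizer (X : Set G)) (hY : g ∈ normalizer (Y : Set G)) (x : X) :
    sec hYX g hX hY (QuotientGroup.mk x) =
      QuotientGroup.mk (⟨g * x * g⁻¹, (mem_normalizer_iff.1 hX _).1 x.2⟩ : X) := rfl

theorem mk_eq {X Y : Subgroup G} [(Y.subgroupOf X).Normal] {x y : X} :
    (QuotientGroup.mk x : ↥X ⧸ Y.subgroupOf X) = QuotientGroup.mk y ↔ (x : G)⁻¹ * y ∈ Y := by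
  rw [QuotientGroup.eq, mem_subgroupOf]; rfl

/-- Schur-Wedderburn on a section -/
theorem schur {E F X Y : Subgroup G} (hYX : Y ≤ X) (hXX : ⁅X, X⁆ ≤ Y)
    (hEX : E ≤ normalizer (X : Set G)) (hEY : E ≤ normalizer (Y : Set G))
    (hFX : F ≤ normalizer (X : Set G)) (hFY : F ≤ normalizer (Y : Set G))
    (hirr : SecIrr F X Y) (hne : Y ≠ X)
    (hcomm : ∀ e ∈ E, ∀ f ∈ F, ∀ x ∈ X, x * (⁅e, f⁆ * x * ⁅e, f⁆⁻¹)⁻¹ ∈ Y) :
    ∀ e₁ ∈ E, ∀ e₂ ∈ E, ∀ x ∈ X, x⁻¹ * (⁅e₁, e₂⁆ * x * ⁅e₁, e₂⁆⁻¹) ∈ Y := by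
  classical
  have hn : (Y.subgroupOf X).Normal := by
    constructor
    rintro ⟨y, hy⟩ hy' ⟨x, hx⟩
    rw [mem_subgroupOf] at hy' ⊢
    show x * y * x⁻¹ ∈ Y
    have h1 : ⁅x, y⁆ ∈ Y := hXX (Subgroup.commutator_mem_commutator hx hy)
    have h2 : x * y * x⁻¹ = ⁅x, y⁆ * y := by rw [commutatorElement_def]; group
    rw [h2]; exact mul_mem h1 hy'
  letI : CommGroup (↥X ⧸ Y.subgroupOf X) :=
    { (inferInstance : Group (↥X ⧸ Y.subgroupOf X)) with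
      mul_comm := by
        intro a b
        induction a using QuotientGroup.induction_on with | _ a => ?_
        induction b using QuotientGroup.induction_on with | _ b => ?_
        rw [← QuotientGroup.mk_mul, ← QuotientGroup.mk_mul, mk_eq]
        have : ((a * b : X) : G)⁻¹ * ((b * a : X) : G) = ⁅(b : G)⁻¹, (a : G)⁻¹⁆ := by
          rw [commutatorElement_def]; push_cast; group
        rw [this]
        exact hXX (Subgroup.commutator_mem_commutator (inv_mem b.2) (inv_mem a.2)) }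
  have hnt : Nontrivial (↥X ⧸ Y.subgroupOf X) := by
    obtain ⟨x, hx, hxY⟩ : ∃ x ∈ X, x ∉ Y := by
      by_contra h
      push Not at h
      exact hne (le_antisymm hYX h)
    refine ⟨⟨QuotientGroup.mk ⟨x, hx⟩, 1, ?_⟩⟩
    intro h
    rw [QuotientGroup.eq_one_iff, mem_subgroupOf] at h
    exact hxY h
  let S : Set (MulAut (↥X ⧸ Y.subgroupOf X)) :=
    {c | ∃ (f : G) (hf : f ∈ F), c = sec hYX f (hFX hf) (hFY hf)}
  have hS : ∀ W : Subgroup (↥X ⧸ Y.subgroupOf X), (∀ c ∈ S, ∀ w ∈ W, c w ∈ W) →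
      W = ⊥ ∨ W = ⊤ := by
    intro W hW
    let N : Subgroup G := (W.comap (QuotientGroup.mk' (Y.subgroupOf X))).map X.subtype
    have hNmem : ∀ x : X, (x : G) ∈ N ↔ (QuotientGroup.mk x : ↥X ⧸ Y.subgroupOf X) ∈ W := by
      intro x
      constructor
      · rintro ⟨y, hy, hyx⟩
        have : y = x := Subtype.ext hyx
        rw [← this]; exact hy
      · intro h; exact ⟨x, h, rfl⟩
    have hNX : N ≤ X := Subgroup.map_subtype_le _
    have hFN : F ≤ normalizer (N : Set G) := by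
      apply H1.Coprime.le_normalizer_of_conj_mem
      intro f hf x hx
      obtain ⟨y, hy, rfl⟩ := hx
      have h1 : sec hYX f (hFX hf) (hFY hf) (QuotientGroup.mk y) ∈ W :=
        hW _ ⟨f, hf, rfl⟩ _ hy
      rw [sec_mk] at h1
      exact (hNmem _).2 h1
    by_cases hNY : N ≤ Y
    · left
      rw [eq_bot_iff]
      intro a ha
      induction a using QuotientGroup.induction_on with | _ a => ?_
      rw [Subgroup.mem_bot, QuotientGroup.eq_one_iff, mem_subgroupOf]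
      exact hNY ((hNmem a).2 ha)
    · right
      rw [eq_top_iff]
      intro a _
      induction a using QuotientGroup.induction_on with | _ a => ?_
      obtain ⟨n, hn', z, hz, hnz⟩ := hirr N hNX hFN hNY a a.2
      have h1 : (QuotientGroup.mk a : ↥X ⧸ Y.subgroupOf X) = QuotientGroup.mk ⟨n, hNX hn'⟩ := by
        rw [mk_eq, hnz]
        have h3 : (n * z)⁻¹ * n = z⁻¹ := by group
        have h4 : ((n * z)⁻¹ * ((⟨n, hNX hn'⟩ : X) : G)) = z⁻¹ * n⁻¹ * n := by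
          show (n * z)⁻¹ * n = _
          group
        rw [h4]
        have h5 : z⁻¹ * n⁻¹ * n = z⁻¹ := by group
        rw [h5]; exact inv_mem hz
      rw [h1]
      exact (hNmem ⟨n, hNX hn'⟩).1 hn'
  have hco : ∀ e, ∀ he : e ∈ E, ∀ c ∈ S, sec hYX e (hEX he) (hEY he) * c =
      c * sec hYX e (hEX he) (hEY he) := by
    rintro e he _ ⟨f, hf, rfl⟩
    ext a
    induction a using QuotientGroup.induction_on with | _ a => ?_
    rw [MulAut.mul_apply, MulAut.mul_apply, sec_mk, sec_mk, sec_mk, sec_mk, mk_eq]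
    have hx : f * (e * a * e⁻¹) * f⁻¹ ∈ X :=
      (mem_normalizer_iff.1 (hFX hf) _).1 ((mem_normalizer_iff.1 (hEX he) _).1 a.2)
    have h1 := hcomm e he f hf _ hx
    have h2 : (e * (f * (a : G) * f⁻¹) * e⁻¹)⁻¹ * (f * (e * a * e⁻¹) * f⁻¹) ∈ Y := by
      have e1 : ⁅e, f⁆ * (f * (e * a * e⁻¹) * f⁻¹) * ⁅e, f⁆⁻¹ = e * (f * a * f⁻¹) * e⁻¹ := by
        rw [commutatorElement_def]; group
      rw [e1] at h1
      have hz : e * (f * (a : G) * f⁻¹) * e⁻¹ ∈ X :=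
        (mem_normalizer_iff.1 (hEX he) _).1 ((mem_normalizer_iff.1 (hFX hf) _).1 a.2)
      have := hn.conj_mem ⟨_, hYX h1⟩ (by rw [mem_subgroupOf]; exact h1) ⟨_, inv_mem hz⟩
      rw [mem_subgroupOf] at this
      have e2 : (e * (f * (a : G) * f⁻¹) * e⁻¹)⁻¹ * (f * (e * a * e⁻¹) * f⁻¹ * (e * (f * a * f⁻¹) * e⁻¹)⁻¹) *
          (e * (f * (a : G) * f⁻¹) * e⁻¹)⁻¹⁻¹ =
          (e * (f * (a : G) * f⁻¹) * e⁻¹)⁻¹ * (f * (e * a * e⁻¹) * f⁻¹) := by group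
      rw [← e2]
      exact this
    exact h2
  intro e₁ h₁ e₂ h₂ x hx
  have h3 := H82.GagAct.comm_of_irred S hS (sec hYX e₁ (hEX h₁) (hEY h₁))
    (sec hYX e₂ (hEX h₂) (hEY h₂)) (hco e₁ h₁) (hco e₂ h₂)
  have hy : (e₂ * e₁)⁻¹ * x * (e₂ * e₁) ∈ X := by
    have := (mem_normalizer_iff.1 (hEX (inv_mem (mul_mem h₂ h₁))) x).1 hx
    rwa [inv_inv] at this
  have h4 := DFunLike.congr_fun h3 (QuotientGroup.mk ⟨_, hy⟩)
  rw [MulAut.mul_apply, MulAut.mul_apply, sec_mk, sec_mk, sec_mk, sec_mk, mk_eq] at h4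
  have h5 : (e₁ * (e₂ * ((e₂ * e₁)⁻¹ * x * (e₂ * e₁)) * e₂⁻¹) * e₁⁻¹)⁻¹ *
    (e₂ * (e₁ * ((e₂ * e₁)⁻¹ * x * (e₂ * e₁)) * e₁⁻¹) * e₂⁻¹) ∈ Y := h4
  have e1 : e₂ * (e₁ * ((e₂ * e₁)⁻¹ * x * (e₂ * e₁)) * e₁⁻¹) * e₂⁻¹ = x := by group
  have e2 : e₁ * (e₂ * ((e₂ * e₁)⁻¹ * x * (e₂ * e₁)) * e₂⁻¹) * e₁⁻¹ = ⁅e₁, e₂⁆ * x * ⁅e₁, e₂⁆⁻¹ := by
    rw [commutatorElement_def]; group
  rw [e1, e2] at h5
  have h6 := inv_mem h5
  have e3 : ((⁅e₁, e₂⁆ * x * ⁅e₁, e₂⁆⁻¹)⁻¹ * x)⁻¹ = x⁻¹ * (⁅e₁, e₂⁆ * x * ⁅e₁, e₂⁆⁻¹) := by group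
  rwa [e3] at h6

end H56.BmQ
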