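import Mathlib
import Cfsg.Agent.Lib.H56.BmQ1

set_option autoImplicit false
set_option linter.all false

namespace H56.BmQ

open Subgroup Cfsg H51.FF H51.OG H52.PRes H52.PCore H51.Bau H1.Coprime2 H56.BmP
open scoped commutatorElement

variable {G : Type*} [Group G] [Finite G] {p : ℕ} [hp : Fact p.Prime]

variable {T T₁ T₂ : Sylow p G} {E F : Subgroup G}

theorem wb_irr (hE : IsBaumannBlock p (T : Subgroup G) E) {U : Subgroup G} (hU : U ≤ WB p E)
    (hEU : E ≤ normalizer (U : Set G)) : U ≤ centralizer (E : Set G) ∨ WB p E ≤ U := by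
  by_cases h : U ≤ centralizer (E : Set G)
  · exact Or.inl h
  · right
    have hEW : E ≤ normalizer (omegaOneCenter p (pCoreOf p E) : Set G) :=
      Subgroup.le_normalizer.trans nz_omegaOneCenter
    have h1 : WB p E ≤ omegaOneCenter p (pCoreOf p E) := commutator_le_left hEW
    exact (block_irr hE).1.comm_le (hU.trans h1) hEU h

theorem nz_of_core (hE : IsBaumannBlock p (T : Subgroup G) E) (hc : ⁅E, F⁆ ≤ pCore p G) :
    F ≤ normalizer (E : Set G) := by
  have h1 : F ≤ normalizer ((E ⊔ pCore p G : Subgroup G) : Set G) := by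
    apply H1.Coprime.le_normalizer_of_conj_mem
    intro f hf x hx
    obtain ⟨e, he, n, hn, rfl⟩ := (H13.Norm.mem_sup_of_le_normalizer' (core_nz hE)).1 hx
    have e1 : f * (e * n) * f⁻¹ = ⁅e, f⁆⁻¹ * e * (f * n * f⁻¹) := by
      rw [commutatorElement_def]; group
    rw [e1]
    refine mul_mem (mul_mem ?_ (Subgroup.mem_sup_left he)) ?_
    · exact Subgroup.mem_sup_right (inv_mem (hc (Subgroup.commutator_mem_commutator he hf)))
    · exact Subgroup.mem_sup_right ((inferInstance : (pCore p G).Normal).conj_mem n hn f)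
  have h2 := h1.trans (normalizer_le_normalizer_resOf (p := p) _)
  have h3 : resOf p (E ⊔ pCore p G) = E := block_res hE
  rwa [h3] at h2

/-- elements of `V` commute with `O_p(G)` -/
theorem core_comm {x n : G} (hx : x ∈ omegaOneCenter p (pCore p G)) (hn : n ∈ pCore p G) :
    n * x = x * n :=
  mem_centralizer_iff.1 (H13.Omega.omegaZ_le_centralizer (p := p) (pCore p G) hx) n hn

theorem wb_ne (hG : centralizer (pCore p G : Set G) ≤ pCore p G)
    (hE : IsBaumannBlock p (T : Subgroup G) E) : ¬ WB p E ≤ centralizer (E : Set G) := by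
  intro h
  obtain ⟨_, h2, h3⟩ := block_main hG hE
  apply h2
  rw [← h3, Subgroup.commutator_eq_bot_iff_le_centralizer]
  exact h

theorem half (hG : centralizer (pCore p G : Set G) ≤ pCore p G)
    (hE : IsBaumannBlock p (T₁ : Subgroup G) E) (hF : IsBaumannBlock p (T₂ : Subgroup G) F)
    (hc : ⁅E, F⁆ ≤ pCore p G) : ⁅WB p E, F⁆ = ⊥ ∨ WB p E ≤ WB p F := by
  have hFE := nz_of_core hE hc
  have hEF := nz_of_core hF (by rwa [Subgroup.commutator_comm] : ⁅F, E⁆ ≤ pCore p G)
  have hV := block_le hG hE
  have h1 : F ≤ normalizer (WB p E : Set G) := hFE.trans nz_WE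
  have h2 : E ≤ normalizer (WB p E : Set G) := Subgroup.le_normalizer.trans nz_WE
  have h3 : E ≤ normalizer ((⁅WB p E, F⁆ : Subgroup G) : Set G) := le_normalizer_commutator h2 hEF
  rcases wb_irr hE (commutator_le_left h1) h3 with h | h
  · left
    have e1 : ⁅⁅WB p E, F⁆, E⁆ = ⊥ := by
      rw [Subgroup.commutator_eq_bot_iff_le_centralizer]; exact h
    have e2 : ⁅⁅F, E⁆, WB p E⁆ = ⊥ := by
      rw [H26.Basic.commutator_eq_bot_iff_forall]
      intro n hn x hx
      have hn' : n ∈ pCore p G := by
        rw [Subgroup.commutator_comm] at hn; exact hc hn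
      exact core_comm (hV hx) hn'
    have e3 : ⁅⁅E, WB p E⁆, F⁆ = ⊥ := Subgroup.commutator_commutator_eq_bot_of_rotate e1 e2
    rw [Subgroup.commutator_comm E, (block_main hG hE).2.2] at e3
    exact e3
  · right
    refine h.trans ?_
    show _ ≤ ⁅omegaOneCenter p (pCoreOf p F), F⁆
    rw [← (block_main hG hF).1]
    exact Subgroup.commutator_mono hV le_rfl

theorem partII (hG : centralizer (pCore p G : Set G) ≤ pCore p G)
    (hE : IsBaumannBlock p (T₁ : Subgroup G) E) (hF : IsBaumannBlock p (T₂ : Subgroup G) F)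
    (hc : ⁅E, F⁆ ≤ pCore p G) (hperf : ⁅E, E⁆ ⊔ pCoreOf p E = E) :
    ⁅WB p E, F⁆ = ⊥ ∧ ⁅WB p F, E⁆ = ⊥ := by
  have hc' : ⁅F, E⁆ ≤ pCore p G := by rwa [Subgroup.commutator_comm]
  obtain ⟨_, hE2, hE3⟩ := block_main hG hE
  obtain ⟨_, hF2, hF3⟩ := block_main hG hF
  have hFE := nz_of_core hE hc
  have hEF := nz_of_core hF hc'
  rcases half hG hE hF hc with h1 | h1
  · rcases half hG hF hE hc' with h2 | h2
    · exact ⟨h1, h2⟩
    · exfalso
      apply hF2
      rw [eq_bot_iff, ← hF3, ← h1]
      exact Subgroup.commutator_mono h2 le_rfl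
  · rcases half hG hF hE hc' with h2 | h2
    · exfalso
      apply hE2
      rw [eq_bot_iff, ← hE3, ← h2]
      exact Subgroup.commutator_mono h1 le_rfl
    · exfalso
      have heq : WB p E = WB p F := le_antisymm h1 h2
      set X := WB p E with hX
      have hV : X ≤ omegaOneCenter p (pCore p G) := block_le hG hE
      have hVe : IsElementaryAbelian p (omegaOneCenter p (pCore p G)) :=
        H13.Omega.isElementaryAbelian_omegaZ _
      have hEX : E ≤ normalizer (X : Set G) := Subgroup.le_normalizer.trans nz_WE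
      have hFX : F ≤ normalizer (X : Set G) := hFE.trans nz_WE
      set A := X ⊓ centralizer (E : Set G) with hA
      have hEA : E ≤ normalizer (A : Set G) :=
        le_normalizer_inf hEX (le_normalizer_centralizer Subgroup.le_normalizer)
      have hFA : F ≤ normalizer (A : Set G) :=
        le_normalizer_inf hFX (le_normalizer_centralizer hFE)
      have hB : X ⊓ centralizer (F : Set G) ≤ A := by
        refine le_inf inf_le_left ?_
        have hEB : E ≤ normalizer ((X ⊓ centralizer (F : Set G) : Subgroup G) : Set G) :=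
          le_normalizer_inf hEX (le_normalizer_centralizer hEF)
        rcases wb_irr hE (inf_le_left : X ⊓ centralizer (F : Set G) ≤ X) hEB with h | h
        · exact h
        · exfalso
          apply wb_ne hG hF
          rw [← heq]
          exact h.trans inf_le_right
      have hirr : SecIrr F X A := by
        intro N hN hFN hne u hu
        rcases wb_irr hF (by rw [← heq]; exact hN) hFN with h | h
        · exact absurd ((le_inf hN h).trans hB) hne
        · exact ⟨u, h (by rw [← heq]; exact hu), 1, one_mem _, by rw [mul_one]⟩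
      have hAX : A ≠ X := by
        intro h
        apply wb_ne hG hE
        show X ≤ _
        rw [← h]; exact inf_le_right
      have hXX : ⁅X, X⁆ ≤ A := by
        have : ⁅X, X⁆ = ⊥ := by
          rw [H26.Basic.commutator_eq_bot_iff_forall]
          intro a ha b hb
          have := hVe.1.is_comm.comm (⟨a, hV ha⟩ : omegaOneCenter p (pCore p G)) ⟨b, hV hb⟩
          exact congrArg Subtype.val this
        rw [this]; exact bot_le
      have hsch := schur inf_le_left hXX hEX hEA hFX hFA hirr hAX (by
        intro e he f hf x hx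
        have h3 : ⁅e, f⁆ ∈ pCore p G := hc (Subgroup.commutator_mem_commutator he hf)
        have h4 := core_comm (hV hx) h3
        rw [h4]
        have : x * (x * ⁅e, f⁆ * ⁅e, f⁆⁻¹)⁻¹ = 1 := by group
        rw [this]; exact one_mem _)
      let K : Subgroup G :=
        { carrier := {g | g ∈ normalizer (X : Set G) ∧ ∀ x ∈ X, x⁻¹ * (g * x * g⁻¹) ∈ A}
          one_mem' := ⟨one_mem _, fun x _ => by
            have : x⁻¹ * (1 * x * 1⁻¹) = 1 := by group
            rw [this]; exact one_mem _⟩
          mul_mem' := by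
            rintro a b ⟨ha, ha'⟩ ⟨hb, hb'⟩
            refine ⟨mul_mem ha hb, fun x hx => ?_⟩
            have h3 : b * x * b⁻¹ ∈ X := (mem_normalizer_iff.1 hb x).1 hx
            have e1 : x⁻¹ * (a * b * x * (a * b)⁻¹) =
              (x⁻¹ * (b * x * b⁻¹)) * ((b * x * b⁻¹)⁻¹ * (a * (b * x * b⁻¹) * a⁻¹)) := by group
            rw [e1]
            exact mul_mem (hb' x hx) (ha' _ h3)
          inv_mem' := by
            rintro a ⟨ha, ha'⟩
            refine ⟨inv_mem ha, fun x hx => ?_⟩
            have h3 : a⁻¹ * x * a ∈ X := by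
              have := (mem_normalizer_iff.1 (inv_mem ha) x).1 hx
              rwa [inv_inv] at this
            have h4 := inv_mem (ha' _ h3)
            have e1 : ((a⁻¹ * x * a)⁻¹ * (a * (a⁻¹ * x * a) * a⁻¹))⁻¹ =
              x⁻¹ * (a⁻¹ * x * a⁻¹⁻¹) := by group
            rwa [e1] at h4 }
      have hEK : E ≤ K := by
        rw [← hperf]
        refine sup_le ?_ ?_
        · rw [Subgroup.commutator_le]
          intro a ha b hb
          refine ⟨?_, fun x hx => hsch a ha b hb x hx⟩
          exact hEX (Subgroup.commutator_le_self E (Subgroup.commutator_mem_commutator ha hb))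
        · intro q hq
          refine ⟨hEX (pCoreOf_le E hq), fun x hx => ?_⟩
          have hXW : X ≤ omegaOneCenter p (pCoreOf p E) :=
            commutator_le_left (Subgroup.le_normalizer.trans nz_omegaOneCenter)
          have h3 : q * x = x * q :=
            mem_centralizer_iff.1 (H13.Omega.omegaZ_le_centralizer (p := p) _ (hXW hx)) q hq
          rw [h3]
          have : x⁻¹ * (x * q * q⁻¹) = 1 := by group
          rw [this]; exact one_mem _
      apply wb_ne hG hE
      have h5 : ⁅X, E⁆ ≤ A := by
        rw [Subgroup.commutator_le]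
        intro x hx e he
        have h6 := (hEK he).2 _ (inv_mem hx)
        have e1 : (x⁻¹)⁻¹ * (e * x⁻¹ * e⁻¹) = ⁅x, e⁆ := by rw [commutatorElement_def]; group
        rwa [e1] at h6
      rw [hE3] at h5
      exact h5.trans inf_le_right

end H56.BmQ
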