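import Mathlib
import Cfsg.Agent.Lib.H56.BmQ2

set_option autoImplicit false
set_option linter.all false

namespace H56.BmQ

open Subgroup Cfsg H51.FF H51.OG H52.PRes H52.PCore H51.Bau H1.Coprime2 H56.BmP
open scoped commutatorElement

section sl
open Matrix

variable {F : Type*} [Field F]

theorem comm_eq {H : Type*} [Group H] {a b c : H} (h : c * b * a = a * b) : ⁅a, b⁆ = c := by
  rw [commutatorElement_def, ← h]; group

theorem sl_nonab (h2 : (2 : F) ≠ 0) : ∃ a ∈ commutator (SpecialLinearGroup (Fin 2) F),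
    ∃ b ∈ commutator (SpecialLinearGroup (Fin 2) F), a * b ≠ b * a := by
  obtain ⟨t, ht⟩ : ∃ t : SpecialLinearGroup (Fin 2) F, t.1 = !![1, 1; 0, 1] :=
    ⟨⟨!![1, 1; 0, 1], by simp [Matrix.det_fin_two]⟩, rfl⟩
  obtain ⟨u, hu⟩ : ∃ t : SpecialLinearGroup (Fin 2) F, t.1 = !![1, 0; 1, 1] :=
    ⟨⟨!![1, 0; 1, 1], by simp [Matrix.det_fin_two]⟩, rfl⟩
  obtain ⟨i, hi⟩ : ∃ t : SpecialLinearGroup (Fin 2) F, t.1 = !![0, 1; -1, 0] :=
    ⟨⟨!![0, 1; -1, 0], by simp [Matrix.det_fin_two]⟩, rfl⟩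
  obtain ⟨c, hc⟩ : ∃ t : SpecialLinearGroup (Fin 2) F, t.1 = !![2, 1; 1, 1] :=
    ⟨⟨!![2, 1; 1, 1], by simp [Matrix.det_fin_two]; norm_num⟩, rfl⟩
  obtain ⟨d, hd⟩ : ∃ t : SpecialLinearGroup (Fin 2) F, t.1 = !![1, 1; 1, 2] :=
    ⟨⟨!![1, 1; 1, 2], by simp [Matrix.det_fin_two]; norm_num⟩, rfl⟩
  have e1 : ⁅t, i⁆ = c := by
    apply comm_eq
    apply Subtype.ext
    show c.1 * i.1 * t.1 = t.1 * i.1
    rw [hc, hi, ht]
    ext a b
    fin_cases a <;> fin_cases b <;> simp [Matrix.mul_apply, Fin.sum_univ_two] <;> norm_num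
  have e2 : ⁅u, i⁆ = d := by
    apply comm_eq
    apply Subtype.ext
    show d.1 * i.1 * u.1 = u.1 * i.1
    rw [hd, hi, hu]
    ext a b
    fin_cases a <;> fin_cases b <;> simp [Matrix.mul_apply, Fin.sum_univ_two] <;> norm_num
  refine ⟨c, ?_, d, ?_, ?_⟩
  · rw [← e1]
    exact Subgroup.commutator_mem_commutator (Subgroup.mem_top _) (Subgroup.mem_top _)
  · rw [← e2]
    exact Subgroup.commutator_mem_commutator (Subgroup.mem_top _) (Subgroup.mem_top _)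
  intro h
  have h3 : c.1 * d.1 = d.1 * c.1 := congrArg Subtype.val h
  rw [hc, hd] at h3
  have h4 := congrFun (congrFun h3 0) 1
  simp [Matrix.mul_apply, Fin.sum_univ_two] at h4
  apply h2
  linear_combination h4

end sl

variable {G : Type*} [Group G] [Finite G] {p : ℕ} [hp : Fact p.Prime]

/-- the exceptional data -/
structure Exc (p : ℕ) (E : Subgroup G) : Prop where
  three : p = 3
  irr : SecIrr E (pCoreOf p E) (omegaOneCenter p (pCoreOf p E))
  ab : ⁅pCoreOf p E, pCoreOf p E⁆ = omegaOneCenter p (pCoreOf p E) ⊓ centralizer (E : Set G)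
  ne : ⁅pCoreOf p E, pCoreOf p E⁆ ≠ ⊥
  nonab : ¬ (∀ e₁ ∈ E, ∀ e₂ ∈ E, ∀ x ∈ pCoreOf p E,
    x⁻¹ * (⁅e₁, e₂⁆ * x * ⁅e₁, e₂⁆⁻¹) ∈ omegaOneCenter p (pCoreOf p E))

variable {T T₁ T₂ : Sylow p G} {E F : Subgroup G}

theorem exc_of (hE : IsBaumannBlock p (T : Subgroup G) E)
    (h : ¬ pCoreOf p E = omegaOneCenter p (pCoreOf p E)) : Exc p E := by
  have hirr := (block_irr hE).2.resolve_left h
  obtain ⟨-, -, -, -, h1 | h1⟩ := hE
  · obtain ⟨K, i1, i2, n, hK, -, -, h2⟩ := h1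
    obtain ⟨h3, h4, h5, -, -, -, -⟩ := h2.resolve_left h
    refine ⟨h3, hirr.1, h5, hirr.2, ?_⟩
    intro hcon
    have h20 : (2 : K) ≠ 0 := by
      intro h0
      have hc2 : CharP K 2 := by
        refine CharTwo.of_one_ne_zero_of_two_eq_zero one_ne_zero h0
      have h6 : (2 : ℕ) ∣ Fintype.card K := by
        have := FiniteField.card K 2
        obtain ⟨m, _, hm⟩ := this
        rw [hm]; exact dvd_pow_self 2 m.ne_zero
      rw [hK, h3] at h6
      have := Nat.Prime.dvd_of_dvd_pow Nat.prime_two h6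
      omega
    obtain ⟨a, ha, b, hb, hab⟩ := sl_nonab h20
    obtain ⟨hEQ, hWQ, ρ, ψ, hρ, hψ, hker, hact⟩ := h4
    rw [← hρ] at ha hb
    obtain ⟨e₁, he₁⟩ := ha
    obtain ⟨e₂, he₂⟩ := hb
    have hg : ρ ⁅e₁, e₂⁆ ≠ 1 := by
      rw [map_commutatorElement, he₁, he₂]
      intro h6
      exact hab (commutatorElement_eq_one_iff_mul_comm.1 h6)
    obtain ⟨v, hv⟩ : ∃ v : Fin 2 → K, ((ρ ⁅e₁, e₂⁆ : Matrix.SpecialLinearGroup (Fin 2) K) :
        Matrix (Fin 2) (Fin 2) K).mulVec v ≠ v := by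
      by_contra hc
      push Not at hc
      apply hg
      apply Subtype.ext
      ext i j
      have h6 := congrFun (hc (Pi.single j 1)) i
      simpa [Matrix.mulVec_single, Matrix.one_apply, Pi.single_apply] using h6
    obtain ⟨x, hx⟩ := hψ (Multiplicative.ofAdd v)
    obtain ⟨w, hw1, hw2⟩ := hact ⁅e₁, e₂⁆ x
    rw [hx] at hw2
    have h6 := hcon e₁ e₁.2 e₂ e₂.2 x x.2
    have h7 : ((x⁻¹ * w : ↥(pCoreOf p E)) : G) ∈ omegaOneCenter p (pCoreOf p E) := by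
      have : ((x⁻¹ * w : ↥(pCoreOf p E)) : G) = (x : G)⁻¹ * (⁅(e₁ : G), (e₂ : G)⁆ * x * ⁅(e₁ : G), (e₂ : G)⁆⁻¹) := by
        push_cast
        rw [hw1]
        rfl
      rw [this]; exact h6
    have h8 := (hker _).2 h7
    rw [map_mul, map_inv, inv_mul_eq_one] at h8
    apply hv
    rw [← hx] at hw2
    have h9 := congrArg Multiplicative.toAdd h8
    rw [hx] at h9 hw2
    rw [← h9] at hw2
    exact hw2.symm
  · obtain ⟨-, m, -, -, h2⟩ := h1
    exact absurd h2 h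

/-- in the nonexceptional case `Q = W_E` -/
theorem nonexc_eq (hE : IsBaumannBlock p (T : Subgroup G) E)
    (h : pCoreOf p E = omegaOneCenter p (pCoreOf p E)) : WB p E = pCoreOf p E := by
  show ⁅omegaOneCenter p (pCoreOf p E), E⁆ = _
  rw [← h]; exact hE.2.2.1

end H56.BmQ
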