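import Mathlib
import Cfsg.Agent.Lib.H56.BmQ3

set_option autoImplicit false
set_option linter.all false

namespace H56.BmQ

open Subgroup Cfsg H51.FF H51.OG H52.PRes H52.PCore H51.Bau H1.Coprime2 H56.BmP
open scoped commutatorElement

variable {G : Type*} [Group G] [Finite G] {p : ℕ} [hp : Fact p.Prime]
variable {T T₁ T₂ : Sylow p G} {E F : Subgroup G}

theorem omega_cent {Q : Subgroup G} {w q : G} (hw : w ∈ omegaOneCenter p Q) (hq : q ∈ Q) :
    q * w = w * q :=
  mem_centralizer_iff.1 (H13.Omega.omegaZ_le_centralizer (p := p) Q hw) q hq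

theorem claim (hG : centralizer (pCore p G : Set G) ≤ pCore p G)
    (xE : Exc p E) (xF : Exc p F)
    (hFE : F ≤ normalizer (E : Set G)) (hEF : E ≤ normalizer (F : Set G))
    (hQE : ⁅E, F⁆ ≤ pCoreOf p E) (hQF : ⁅E, F⁆ ≤ pCoreOf p F) :
    ⁅pCoreOf p E, F⁆ ≤ omegaOneCenter p (pCoreOf p E) := by
  set Q := pCoreOf p E with hQ
  set W := omegaOneCenter p Q with hW
  set R := pCoreOf p F with hR
  set Y := omegaOneCenter p R with hY
  have hWQ : W ≤ Q := H13.Omega.omegaZ_le _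
  have hYR : Y ≤ R := H13.Omega.omegaZ_le _
  have hFQ : F ≤ normalizer (Q : Set G) := hFE.trans (normalizer_le_normalizer_pCoreOf E)
  have hFW : F ≤ normalizer (W : Set G) := hFE.trans nz_omegaOneCenter
  have hER : E ≤ normalizer (R : Set G) := hEF.trans (normalizer_le_normalizer_pCoreOf F)
  have hEY : E ≤ normalizer (Y : Set G) := hEF.trans nz_omegaOneCenter
  have hEQ : E ≤ normalizer (Q : Set G) := le_normalizer_pCoreOf E
  have hEW : E ≤ normalizer (W : Set G) := Subgroup.le_normalizer.trans nz_omegaOneCenter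
  have hFR : F ≤ normalizer (R : Set G) := le_normalizer_pCoreOf F
  have hFY : F ≤ normalizer (Y : Set G) := Subgroup.le_normalizer.trans nz_omegaOneCenter
  have hQle : Q ≤ E := pCoreOf_le E
  by_contra hcon
  have hNQ : ⁅Q, F⁆ ≤ Q := commutator_le_left hFQ
  have hNR : ⁅Q, F⁆ ≤ R := (Subgroup.commutator_mono hQle le_rfl).trans hQF
  have hEN : E ≤ normalizer ((⁅Q, F⁆ : Subgroup G) : Set G) := le_normalizer_commutator hEQ hEF
  have hcov := xE.irr ⁅Q, F⁆ hNQ hEN hcon
  have hI0 : Q ⊓ Y ≤ W := by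
    by_contra hc
    have hcov' := xE.irr (Q ⊓ Y) inf_le_left (le_normalizer_inf hEQ hEY) hc
    apply xE.ne
    rw [H26.Basic.commutator_eq_bot_iff_forall]
    intro u hu v hv
    obtain ⟨n, hn, z, hz, rfl⟩ := hcov' u hu
    obtain ⟨n', hn', z', hz', rfl⟩ := hcov' v hv
    have c1 : n * n' = n' * n := omega_cent hn'.2 (hYR hn.2)
    have c2 : n * z' = z' * n := omega_cent hz' hn.1
    have c3 : n' * z = z * n' := omega_cent hz hn'.1
    have c4 : z * z' = z' * z := omega_cent hz' (hWQ hz)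
    calc n * z * (n' * z') = n * (z * n') * z' := by group
      _ = (n * n') * (z * z') := by rw [← c3]; group
      _ = n' * (n * z') * z := by rw [c1, c4]; group
      _ = n' * z' * (n * z) := by rw [c2]; group
  have hRR : ⁅R, R⁆ ≤ Y := by
    rw [xF.ab]; exact inf_le_left
  have hYne : Y ≠ R := by
    intro h
    apply xF.ne
    rw [H26.Basic.commutator_eq_bot_iff_forall]
    intro u hu v hv
    have hv' : v ∈ Y := by rw [h]; exact hv
    exact omega_cent hv' hu
  have hsch := schur hYR hRR hER hEY hFR hFY xF.irr hYne (by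
    intro e he f hf x hx
    have h1 : ⁅e, f⁆ ∈ R := hQF (Subgroup.commutator_mem_commutator he hf)
    have e1 : x * (⁅e, f⁆ * x * ⁅e, f⁆⁻¹)⁻¹ = ⁅x, ⁅e, f⁆⁆ := by
      rw [commutatorElement_def x]; group
    rw [e1]
    exact hRR (Subgroup.commutator_mem_commutator hx h1))
  apply xE.nonab
  intro e₁ h₁ e₂ h₂ x hx
  obtain ⟨n, hn, z, hz, rfl⟩ := hcov x hx
  have hg : ⁅e₁, e₂⁆ ∈ E := Subgroup.commutator_le_self E (Subgroup.commutator_mem_commutator h₁ h₂)
  set g := ⁅e₁, e₂⁆ with hgdef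
  have e1 : (n * z)⁻¹ * (g * (n * z) * g⁻¹) = z⁻¹ * (n⁻¹ * (g * n * g⁻¹)) * (g * z * g⁻¹) := by group
  rw [e1]
  have h3 : n⁻¹ * (g * n * g⁻¹) ∈ Y := hsch e₁ h₁ e₂ h₂ n (hNR hn)
  have h4 : n⁻¹ * (g * n * g⁻¹) ∈ Q :=
    mul_mem (inv_mem (hNQ hn)) ((mem_normalizer_iff.1 (hEQ hg) n).1 (hNQ hn))
  exact mul_mem (mul_mem (inv_mem hz) (hI0 ⟨h4, h3⟩)) ((mem_normalizer_iff.1 (hEW hg) z).1 hz)

theorem partIII (hG : centralizer (pCore p G : Set G) ≤ pCore p G)
    (hE : IsBaumannBlock p (T₁ : Subgroup G) E) (hF : IsBaumannBlock p (T₂ : Subgroup G) F)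
    (hSE : centralizer (WB p E : Set G) ≤ normalizer (E : Set G))
    (hSF : centralizer (WB p F : Set G) ≤ normalizer (F : Set G))
    (hcE : E ⊓ centralizer (WB p E : Set G) = pCoreOf p E)
    (hcF : F ⊓ centralizer (WB p F : Set G) = pCoreOf p F)
    (h1 : ⁅WB p E, F⁆ = ⊥) (h2 : ⁅WB p F, E⁆ = ⊥) : ⁅E, F⁆ = ⊥ := by
  have k1 : F ≤ centralizer (WB p E : Set G) := by
    rw [← Subgroup.commutator_eq_bot_iff_le_centralizer, Subgroup.commutator_comm]; exact h1
  have k2 : E ≤ centralizer (WB p F : Set G) := by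
    rw [← Subgroup.commutator_eq_bot_iff_le_centralizer, Subgroup.commutator_comm]; exact h2
  have hFE : F ≤ normalizer (E : Set G) := k1.trans hSE
  have hEF : E ≤ normalizer (F : Set G) := k2.trans hSF
  have l1 : ⁅E, F⁆ ≤ E := commutator_le_left hFE
  have l2 : ⁅E, F⁆ ≤ F := commutator_le_right hEF
  have hQE : ⁅E, F⁆ ≤ pCoreOf p E := by rw [← hcE]; exact le_inf l1 (l2.trans k1)
  have hQF : ⁅E, F⁆ ≤ pCoreOf p F := by rw [← hcF]; exact le_inf l2 (l1.trans k2)
  by_cases xE : pCoreOf p E = omegaOneCenter p (pCoreOf p E)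
  · exact comm_bot hF.1 (isPGroup_pCoreOf E) hQE (by rw [← nonexc_eq hE xE]; exact h1)
  by_cases xF : pCoreOf p F = omegaOneCenter p (pCoreOf p F)
  · rw [Subgroup.commutator_comm]
    exact comm_bot hE.1 (isPGroup_pCoreOf F) (by rwa [Subgroup.commutator_comm])
      (by rw [← nonexc_eq hF xF]; exact h2)
  have xE := exc_of hE xE
  have xF := exc_of hF xF
  have hcl := claim hG xE xF hFE hEF hQE hQF
  have hQQ : ⁅⁅pCoreOf p E, pCoreOf p E⁆, F⁆ = ⊥ := by
    have key : ⁅⁅pCoreOf p E, F⁆, pCoreOf p E⁆ = ⊥ := by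
      rw [H26.Basic.commutator_eq_bot_iff_forall]
      intro w hw q hq
      exact (omega_cent (hcl hw) hq).symm
    apply Subgroup.commutator_commutator_eq_bot_of_rotate key
    rw [Subgroup.commutator_comm F]; exact key
  have hWF : ⁅omegaOneCenter p (pCoreOf p E), F⁆ = ⊥ := by
    rw [H26.Basic.commutator_eq_bot_iff_forall]
    intro w hw f hf
    have hEW : E ≤ normalizer (omegaOneCenter p (pCoreOf p E) : Set G) :=
      Subgroup.le_normalizer.trans nz_omegaOneCenter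
    obtain ⟨n, hn, z, hz, rfl⟩ := (block_irr hE).1 (WB p E) (commutator_le_left hEW)
      (Subgroup.le_normalizer.trans nz_WE) (fun h => wb_ne hG hE (h.trans inf_le_right)) w hw
    have c1 : n * f = f * n := H26.Basic.commute_of_commutator_eq_bot h1 hn hf
    rw [← xE.ab] at hz
    have c2 : z * f = f * z := H26.Basic.commute_of_commutator_eq_bot hQQ hz hf
    rw [mul_assoc, c2, ← mul_assoc, c1, mul_assoc]
  have hQF' : ⁅pCoreOf p E, F⁆ = ⊥ :=
    comm_bot hF.1 ((isPGroup_pCoreOf E).to_le (H13.Omega.omegaZ_le _)) hcl hWF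
  exact comm_bot hF.1 (isPGroup_pCoreOf E) hQE hQF'

end H56.BmQ
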