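import Mathlib
import Cfsg.Agent.Lib.H56.BmQ4
import Cfsg.Agent.Lib.H56.BmL3
import Cfsg.Agent.Lib.H52.BB1

set_option autoImplicit false
set_option linter.all false

namespace H56.BmV

open Subgroup Cfsg H51.FF H51.OG H52.PRes H52.PCore H51.Bau H1.Coprime2 H56.BmP H56.BmQ H56.BmL
open scoped commutatorElement

variable {G : Type*} [Group G] [Finite G] {p : ℕ} [hp : Fact p.Prime]
variable {T T₁ T₂ : Sylow p G} {E F : Subgroup G}

/-- `V` -/
abbrev VG (p : ℕ) (G : Type*) [Group G] : Subgroup G := omegaOneCenter p (pCore p G)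

theorem VG_normal : (VG p G).Normal := by
  constructor
  intro v hv g
  have h1 : g ∈ normalizer (VG p G : Set G) := by
    rw [mem_nz_iff]
    show cg g (omegaOne p _) = _
    rw [omegaOne_cg, cg_inf, map_centralizer]
    have : cg g (pCore p G) = pCore p G := by
      rw [← mem_nz_iff, Subgroup.normalizer_eq_top]; exact mem_top _
    rw [this]
    rfl
  exact (mem_normalizer_iff.1 h1 v).1 hv

theorem sg (hG : centralizer (pCore p G : Set G) ≤ pCore p G)
    (hE : IsBaumannBlock p (T : Subgroup G) E) (hEs : E.IsSubnormal) (hs : Group.IsSolvable E)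
    (hx : p = 3 → ∀ e ∈ E, e ^ 4 ∈ pCoreOf p E) [hV : (VG p G).Normal] :
    Sg (E.map (MulAut.conjNormal : G →* MulAut (VG p G))) ((WB p E).subgroupOf (VG p G)) := by
  obtain ⟨h1, h2, h3, h4⟩ := H52.BB.small hE hs
  obtain ⟨b1, b2, b3⟩ := block_main hG hE
  have hWV : WB p E ≤ VG p G := block_le hG hE
  have hQ : pCoreOf p E ≤ pCore p G := pCoreOf_le_pCore_of_subnormal hEs
  have hN : ∀ n ∈ pCore p G, (MulAut.conjNormal n : MulAut (VG p G)) = 1 := by
    intro n hn
    ext v
    rw [MulAut.conjNormal_apply, core_comm v.2 hn, mul_inv_cancel_right]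
    rfl
  refine ⟨?_, ?_, ?_, ?_⟩
  · rintro _ ⟨x, hx, rfl⟩ a
    rw [mem_subgroupOf]
    show ((MulAut.conjNormal x a : VG p G) : G) * (a : G)⁻¹ ∈ _
    rw [MulAut.conjNormal_apply]
    show x * (a : G) * x⁻¹ * (a : G)⁻¹ ∈ ⁅omegaOneCenter p (pCoreOf p E), E⁆
    rw [← b1, Subgroup.commutator_comm]
    exact Subgroup.commutator_mem_commutator hx a.2
  · rintro _ ⟨x, hx, rfl⟩ hx1 w hw hxw
    by_contra hw1
    apply hx1
    apply hN
    apply hQ
    apply h3 x hx w hw (fun h => hw1 (Subtype.ext h))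
    have := congrArg Subtype.val hxw
    rw [MulAut.conjNormal_apply] at this
    exact this
  · intro U hU hinv
    have hU' : U.map (VG p G).subtype ≤ WB p E := by
      rintro _ ⟨u, hu, rfl⟩
      exact hU hu
    have hEU : E ≤ normalizer (U.map (VG p G).subtype : Set G) := by
      apply H1.Coprime.le_normalizer_of_conj_mem
      rintro e he _ ⟨u, hu, rfl⟩
      refine ⟨MulAut.conjNormal e u, hinv _ ⟨e, he, rfl⟩ u hu, ?_⟩
      show ((MulAut.conjNormal e u : VG p G) : G) = _
      rw [MulAut.conjNormal_apply]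
      rfl
    rcases wb_irr hE hU' hEU with h | h
    · left
      rw [eq_bot_iff]
      intro u hu
      have h5 : (u : G) ∈ WB p E ⊓ centralizer (E : Set G) :=
        ⟨hU hu, h ⟨u, hu, rfl⟩⟩
      have h6 : WB p E ⊓ centralizer (E : Set G) = ⊥ := h2
      rw [h6, mem_bot] at h5
      rw [mem_bot]
      exact Subtype.ext h5
    · right
      apply le_antisymm hU
      intro w hw
      obtain ⟨u, hu, huw⟩ := h hw
      have : u = w := Subtype.ext huw
      rw [← this]; exact hu
  · have hker : (MulAut.conjNormal : G →* MulAut (VG p G)).ker.relIndex E = (pCoreOf p E).relIndex E := by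
      rw [← Subgroup.inf_relIndex_right]
      congr 1
      apply le_antisymm
      · rintro x ⟨hx, hxE⟩
        rw [← H52.BB.cent hE]
        refine ⟨hxE, ?_⟩
        apply mem_centralizer_iff.2
        intro w hw
        have h5 : (MulAut.conjNormal x : MulAut (VG p G)) ⟨w, hWV hw⟩ = ⟨w, hWV hw⟩ := by
          rw [show (MulAut.conjNormal x : MulAut (VG p G)) = 1 from hx]; rfl
        have h6 := congrArg Subtype.val h5
        rw [MulAut.conjNormal_apply] at h6
        exact (mul_inv_eq_iff_eq_mul.1 h6).symm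
      · intro q hq
        exact ⟨hN q (hQ hq), pCoreOf_le E hq⟩
    rw [Subgroup.relIndex_ker] at hker
    have hcW : Nat.card ((WB p E).subgroupOf (VG p G)) = Nat.card (WB p E) :=
      Nat.card_congr (Subgroup.subgroupOfEquivOfLe hWV).toEquiv
    rw [hcW, hker]
    have h1' : Nat.card (WB p E) = p ^ 2 := h1
    rw [h1']
    rcases h4 with ⟨h5, h6⟩ | ⟨h5, h6⟩
    · left
      refine ⟨by rw [h5]; norm_num, h6⟩
    · right
      refine ⟨by rw [h5]; norm_num, h6, ?_⟩
      rintro _ ⟨x, hxE, rfl⟩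
      rw [← map_pow]
      exact hN _ (hQ (hx h5 x hxE))

/-- the dichotomy -/
theorem dich (hG : centralizer (pCore p G : Set G) ≤ pCore p G)
    (hE : IsBaumannBlock p (T₁ : Subgroup G) E) (hF : IsBaumannBlock p (T₂ : Subgroup G) F)
    (hEs : E.IsSubnormal) (hFs : F.IsSubnormal)
    (hsE : Group.IsSolvable E) (hsF : Group.IsSolvable F)
    (hxE : p = 3 → ∀ e ∈ E, e ^ 4 ∈ pCoreOf p E) (hxF : p = 3 → ∀ e ∈ F, e ^ 4 ∈ pCoreOf p F) :
    (F ≤ E ⊔ centralizer (VG p G : Set G) ∧ E ≤ F ⊔ centralizer (VG p G : Set G)) ∨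
      (⁅WB p E, F⁆ = ⊥ ∧ ⁅WB p F, E⁆ = ⊥) := by
  haveI hV : (VG p G).Normal := VG_normal
  have sE := sg hG hE hEs hsE hxE
  have sF := sg hG hF hFs hsF hxF
  have hVe : IsElementaryAbelian p (VG p G) := H13.Omega.isElementaryAbelian_omegaZ _
  set φ := (MulAut.conjNormal : G →* MulAut (VG p G)) with hφ
  have hkerC : φ.ker = centralizer (VG p G : Set G) := by
    ext x
    rw [mem_centralizer_iff, MonoidHom.mem_ker]
    constructor
    · intro hx w hw
      have h5 : (MulAut.conjNormal x : MulAut (VG p G)) ⟨w, hw⟩ = ⟨w, hw⟩ := by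
        rw [show (MulAut.conjNormal x : MulAut (VG p G)) = 1 from hx]; rfl
      have h6 := congrArg Subtype.val h5
      rw [MulAut.conjNormal_apply] at h6
      exact (mul_inv_eq_iff_eq_mul.1 h6).symm
    · intro hx
      ext v
      rw [hφ, MulAut.conjNormal_apply, ← hx v v.2, mul_inv_cancel_right]
      rfl
  -- the prime `r`
  obtain ⟨r, hr, hrp, hrE, hrF⟩ : ∃ r : ℕ, r.Prime ∧ r ≠ p ∧
      (∃ k, Nat.card (E.map φ) = r ^ k) ∧ (∃ k, Nat.card (F.map φ) = r ^ k) := by
    have hp2 : ∀ {K : Subgroup G}, IsBaumannBlock p (T₁ : Subgroup G) K ∨ IsBaumannBlock p (T₂ : Subgroup G) K →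
      Group.IsSolvable K → Sg (K.map φ) ((WB p K).subgroupOf (VG p G)) → (p = 2 ∧ Nat.card (K.map φ) = 3 ^ 1) ∨
        (p = 3 ∧ Nat.card (K.map φ) = 2 ^ 3) := by
      intro K hK hs hsg
      have hWV : WB p K ≤ VG p G := by
        rcases hK with hK | hK
        · exact block_le hG hK
        · exact block_le hG hK
      have h1 : Nat.card (WB p K) = p ^ 2 := by
        rcases hK with hK | hK
        · exact (H52.BB.small hK hs).1
        · exact (H52.BB.small hK hs).1
      have hcW : Nat.card ((WB p K).subgroupOf (VG p G)) = Nat.card (WB p K) :=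
        Nat.card_congr (Subgroup.subgroupOfEquivOfLe hWV).toEquiv
      rcases hsg.kind with ⟨h2, h3⟩ | ⟨h2, h3, -⟩
      · left
        rw [hcW, h1] at h2
        exact ⟨by nlinarith [h2, hp.out.two_le], h3⟩
      · right
        rw [hcW, h1] at h2
        exact ⟨by nlinarith [h2, hp.out.two_le], h3⟩
    rcases hp2 (Or.inl hE) hsE sE with ⟨h1, h2⟩ | ⟨h1, h2⟩
    · rcases hp2 (Or.inr hF) hsF sF with ⟨h3, h4⟩ | ⟨h3, h4⟩
      · exact ⟨3, Nat.prime_three, by omega, ⟨1, h2⟩, ⟨1, h4⟩⟩
      · omega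
    · rcases hp2 (Or.inr hF) hsF sF with ⟨h3, h4⟩ | ⟨h3, h4⟩
      · omega
      · exact ⟨2, Nat.prime_two, by omega, ⟨3, h2⟩, ⟨3, h4⟩⟩
  haveI hrf : Fact r.Prime := ⟨hr⟩
  set P : Subgroup (MulAut (VG p G)) := (pCore r φ.range).map φ.range.subtype with hP
  have hPp : IsPGroup r P := (isPGroup_pCore (p := r) (G := φ.range)).map _
  have hle : ∀ {K : Subgroup G}, K.IsSubnormal → (∃ k, Nat.card (K.map φ) = r ^ k) → K.map φ ≤ P := by
    intro K hK ⟨k, hk⟩
    have h1 : (K.map φ.rangeRestrict).IsSubnormal := hK.map φ.rangeRestrict_surjective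
    have h2 : (K.map φ.rangeRestrict).map φ.range.subtype = K.map φ := by
      rw [Subgroup.map_map]; rfl
    have h3 : IsPGroup r (K.map φ.rangeRestrict) := by
      apply IsPGroup.of_card (n := k)
      rw [← hk, ← h2]
      exact (Subgroup.card_map_of_injective φ.range.subtype_injective).symm
    rw [← h2]
    exact Subgroup.map_mono (le_pCore_of_subnormal h1 h3)
  have hcop : (Nat.card P).Coprime (Nat.card (VG p G)) := by
    obtain ⟨a, ha⟩ := IsPGroup.iff_card.1 hPp
    have hVp : IsPGroup p (VG p G) := (isPGroup_pCore (G := G) (p := p)).to_le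
      (H13.Omega.omegaZ_le _)
    obtain ⟨b, hb⟩ := IsPGroup.iff_card.1 hVp
    rw [ha, hb]
    exact Nat.Coprime.pow a b ((Nat.coprime_primes hr hp.out).2 hrp)
  have hWE : WB p E ≤ VG p G := block_le hG hE
  have hWF : WB p F ≤ VG p G := block_le hG hF
  have hc : Nat.card ((WB p E).subgroupOf (VG p G)) = Nat.card ((WB p F).subgroupOf (VG p G)) := by
    rw [Nat.card_congr (Subgroup.subgroupOfEquivOfLe hWE).toEquiv,
      Nat.card_congr (Subgroup.subgroupOfEquivOfLe hWF).toEquiv]
    exact (H52.BB.small hE hsE).1.trans (H52.BB.small hF hsF).1.symm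
  rcases fullG (fun a b => hVe.1.is_comm.comm a b) P hPp hcop (hle hEs hrE) (hle hFs hrF) sE sF hc
    with h | ⟨h1, h2⟩
  · left
    have key : ∀ {K L : Subgroup G}, K.map φ = L.map φ → L ≤ K ⊔ centralizer (VG p G : Set G) := by
      intro K L hKL x hx
      have h1 : φ x ∈ K.map φ := by rw [hKL]; exact ⟨x, hx, rfl⟩
      obtain ⟨y, hy, hyx⟩ := h1
      have h2 : y⁻¹ * x ∈ φ.ker := by
        rw [MonoidHom.mem_ker, map_mul, map_inv, hyx, inv_mul_cancel]
      rw [hkerC] at h2
      have h3 : x = y * (y⁻¹ * x) := by group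
      rw [h3]
      exact mul_mem (Subgroup.mem_sup_left hy) (Subgroup.mem_sup_right h2)
    exact ⟨key h, key h.symm⟩
  · right
    have key : ∀ {K L : Subgroup G}, (∀ f ∈ L.map φ, ∀ w ∈ (WB p K).subgroupOf (VG p G), f w = w) →
      WB p K ≤ VG p G → ⁅WB p K, L⁆ = ⊥ := by
      intro K L h hK
      rw [H26.Basic.commutator_eq_bot_iff_forall]
      intro w hw x hx
      have h3 := congrArg Subtype.val (h (φ x) ⟨x, hx, rfl⟩ ⟨w, hK hw⟩ hw)
      rw [hφ, MulAut.conjNormal_apply] at h3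
      exact (mul_inv_eq_iff_eq_mul.1 h3).symm
    exact ⟨key h1 hWE, key h2 hWF⟩

end H56.BmV
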