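import Mathlib
import Cfsg.Agent.Lib.H56.BmV
import Cfsg.Agent.Lib.H52.BB2
import Cfsg.Agent.Lib.H52.BB3
import Cfsg.Agent.Lib.H51.BauMain

set_option autoImplicit false
set_option linter.all false

namespace H56.BmZ

open Subgroup Cfsg H51.FF H51.OG H52.PRes H52.PCore H51.Bau H1.Coprime2 H56.BmP H56.BmQ H56.BmV
open scoped commutatorElement

variable {G : Type*} [Group G] [Finite G] {p : ℕ} [hp : Fact p.Prime]
variable {T T₁ T₂ : Sylow p G} {E F : Subgroup G}

theorem last (hG : centralizer (pCore p G : Set G) ≤ pCore p G)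
    (hE : IsBaumannBlock p (T₁ : Subgroup G) E) (hF : IsBaumannBlock p (T₂ : Subgroup G) F)
    (h1 : ⁅WB p E, F⁆ = ⊥) (h2 : ⁅WB p F, E⁆ = ⊥) : ⁅E, F⁆ = ⊥ :=
  partIII hG hE hF (cent_le_nz hG T₁ E hE) (cent_le_nz hG T₂ F hF) (H52.BB.cent hE) (H52.BB.cent hF) h1 h2

theorem main
    (hfin : ∀ {T1 T2 : Sylow p G} {E F : Subgroup G}, IsBaumannBlock p (T1 : Subgroup G) E →
      IsBaumannBlock p (T2 : Subgroup G) F → E.IsSubnormal → F.IsSubnormal →
      F ≤ E ⊔ centralizer (omegaOneCenter p (pCore p G) : Set G) →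
      E ≤ F ⊔ centralizer (omegaOneCenter p (pCore p G) : Set G) → F ≤ E)
    (hG : centralizer (pCore p G : Set G) ≤ pCore p G)
    (hE : IsBaumannBlock p (T₁ : Subgroup G) E) (hF : IsBaumannBlock p (T₂ : Subgroup G) F)
    (hEs : E.IsSubnormal) (hFs : F.IsSubnormal) : E = F ∨ ⁅E, F⁆ = ⊥ := by
  by_cases hs : Group.IsSolvable E
  · by_cases hs' : Group.IsSolvable F
    · rcases dich hG hE hF hEs hFs hs hs' (fun h3 => H52.BB.exp4 hE hs h3)
        (fun h3 => H52.BB.exp4 hF hs' h3) with ⟨h1, h2⟩ | ⟨h1, h2⟩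
      · left
        exact le_antisymm (hfin hF hE hFs hEs h2 h1) (hfin hE hF hEs hFs h1 h2)
      · right
        exact last hG hE hF h1 h2
    · rcases H52.BB.big hG hF hE hFs hEs hs' with h | h
      · exact Or.inl h.symm
      · right
        obtain ⟨h1, h2⟩ := partII hG hF hE h (H52.BB.perf hF hs')
        exact last hG hE hF h2 h1
  · rcases H52.BB.big hG hE hF hEs hFs hs with h | h
    · exact Or.inl h
    · right
      obtain ⟨h1, h2⟩ := partII hG hE hF h (H52.BB.perf hE hs)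
      exact last hG hE hF h1 h2

end H56.BmZ
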