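import Mathlib
import Cfsg.Agent.Lib.H56.BmZ
import Cfsg.Agent.Lib.H52.BB4

set_option autoImplicit false
set_option linter.all false

namespace H56.BZ

open Subgroup Cfsg H51.FF H51.OG H52.PRes H52.PCore H51.Bau H1.Coprime2 H56.BmP H56.BmQ H56.BmV
open scoped commutatorElement MatrixGroups

variable {G : Type*} [Group G] [Finite G] {p : ℕ} [hp : Fact p.Prime]
variable {T : Sylow p G} {E : Subgroup G}

def HP (p : ℕ) (T : Subgroup G) (E : Subgroup G) : Prop :=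
  ∃ H : Subgroup G, E ≤ H ∧ H ≤ normalizer (E : Set G) ∧ normalizer (E : Set G) ≤ normalizer (H : Set G) ∧
    baumannSubgroupOf p T ≤ H ∧ ∀ h ∈ H, ∃ k, h ^ (p ^ k) ∈ E ⊔ centralizer (WB p E : Set G)

def FP (p : ℕ) (T : Subgroup G) (E : Subgroup G) : Prop :=
  ∀ R : Subgroup G, IsPGroup p R → R ≤ normalizer (E : Set G) → thompsonSubgroupOf p T ≤ R →
    R ≤ normalizer (thompsonSubgroupOf p T : Set G) →
    ¬ (WB p E ⊓ centralizer (R : Set G) ≤ centralizer (E : Set G))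

theorem ts (hG : centralizer (pCore p G : Set G) ≤ pCore p G) (hE : IsBaumannBlock p (T : Subgroup G) E)
    {c : G} (hc : c ∈ normalizer (E : Set G))
    (h : ∀ w ∈ WB p E, c * w * c⁻¹ * w⁻¹ ∈ centralizer (E : Set G)) :
    c ∈ centralizer (WB p E : Set G) := by
  have hcW : c ∈ normalizer (WB p E : Set G) := nz_WE hc
  have hcC : c ∈ normalizer (centralizer (E : Set G) : Set G) :=
    le_normalizer_centralizer (le_refl (normalizer (E : Set G))) hc
  have hEW : E ≤ normalizer (WB p E : Set G) := Subgroup.le_normalizer.trans nz_WE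
  have hWU : WB p E ≤ omegaOneCenter p (pCoreOf p E) :=
    commutator_le_left (Subgroup.le_normalizer.trans nz_omegaOneCenter)
  have hWV : WB p E ≤ VG p G := block_le hG hE
  have hVe : IsElementaryAbelian p (VG p G) := H13.Omega.isElementaryAbelian_omegaZ _
  have hab : ∀ a ∈ WB p E, ∀ b ∈ WB p E, a * b = b * a := by
    intro a ha b hb
    have := hVe.1.is_comm.comm (⟨a, hWV ha⟩ : VG p G) ⟨b, hWV hb⟩
    exact congrArg Subtype.val this
  have hcm : ∀ w ∈ WB p E, c * w * c⁻¹ ∈ WB p E := fun w hw => (mem_normalizer_iff.1 hcW w).1 hw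
  -- the elements `e⁻¹ c e c⁻¹`
  have key : ∀ e ∈ E, ∀ w ∈ WB p E, (c * e * c⁻¹) * w * (c * e * c⁻¹)⁻¹ = e * w * e⁻¹ := by
    intro e he
    have he' : c * e * c⁻¹ ∈ E := (mem_normalizer_iff.1 hc e).1 he
    have hg : e⁻¹ * (c * e * c⁻¹) ∈ pCoreOf p E := by
      have hgE : e⁻¹ * (c * e * c⁻¹) ∈ E := mul_mem (inv_mem he) he'
      apply H52.BB.ker_sec hE hgE
      intro u hu
      obtain ⟨a, ha, z, hz, rfl⟩ := H52.BB.Wdec hE hu
      have hz' : ∀ x ∈ E, x * z = z * x := fun x hx => mem_centralizer_iff.1 (Subgroup.mem_inf.1 hz).2 x hx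
      have e1 : (e⁻¹ * (c * e * c⁻¹)) * (a * z) * (e⁻¹ * (c * e * c⁻¹))⁻¹ * (a * z)⁻¹ =
          (e⁻¹ * (c * e * c⁻¹)) * a * (e⁻¹ * (c * e * c⁻¹))⁻¹ * a⁻¹ := by
        have h2 := hz' _ hgE
        generalize (e⁻¹ * (c * e * c⁻¹)) = g at *
        calc g * (a * z) * g⁻¹ * (a * z)⁻¹ = g * a * (z * g⁻¹) * z⁻¹ * a⁻¹ := by group
          _ = g * a * (g⁻¹ * z) * z⁻¹ * a⁻¹ := by
            have : z * g⁻¹ = g⁻¹ * z := by
              rw [eq_inv_mul_iff_mul_eq, ← mul_assoc, h2, mul_inv_cancel_right]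
            rw [this]
          _ = g * a * g⁻¹ * a⁻¹ := by group
      rw [e1]
      have haW : a ∈ WB p E := ha
      -- c⁻¹ a c = y * a
      have h1 : c⁻¹ * a * c ∈ WB p E := by
        have := (mem_normalizer_iff.1 (inv_mem hcW) a).1 haW
        rwa [inv_inv] at this
      have hy : a * (c⁻¹ * a * c)⁻¹ ∈ centralizer (E : Set G) := by
        have := h _ h1
        have e2 : c * (c⁻¹ * a * c) * c⁻¹ * (c⁻¹ * a * c)⁻¹ = a * (c⁻¹ * a * c)⁻¹ := by group
        rwa [e2] at this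
      set y := a * (c⁻¹ * a * c)⁻¹ with hydef
      have hyW : y ∈ WB p E := mul_mem haW (inv_mem h1)
      have hye : ∀ x ∈ E, x * y = y * x := fun x hx => mem_centralizer_iff.1 hy x hx
      -- b = e a e⁻¹
      have hb : e * a * e⁻¹ ∈ WB p E := (mem_normalizer_iff.1 (hEW he) a).1 haW
      have hz2 : c * (e * a * e⁻¹) * c⁻¹ * (e * a * e⁻¹)⁻¹ ∈ centralizer (E : Set G) := h _ hb
      have hyc : c * y⁻¹ * c⁻¹ ∈ centralizer (E : Set G) := (mem_normalizer_iff.1 hcC _).1 (inv_mem hy)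
      have hycW : c * y⁻¹ * c⁻¹ ∈ WB p E := hcm _ (inv_mem hyW)
      set s := (c * y⁻¹ * c⁻¹) * (c * (e * a * e⁻¹) * c⁻¹ * (e * a * e⁻¹)⁻¹) with hs
      have hsC : s ∈ centralizer (E : Set G) := mul_mem hyc hz2
      have hsW : s ∈ WB p E := mul_mem hycW (mul_mem (hcm _ hb) (inv_mem hb))
      have e3 : (e⁻¹ * (c * e * c⁻¹)) * a * (e⁻¹ * (c * e * c⁻¹))⁻¹ * a⁻¹ = s := by
        have e4 : c⁻¹ * a * c = y⁻¹ * a := by
          rw [hydef]
          have := hab _ h1 _ haW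
          calc c⁻¹ * a * c = (c⁻¹ * a * c) * a⁻¹ * a := by group
            _ = (a * (c⁻¹ * a * c)⁻¹)⁻¹ * a := by group
        have e5 : e * (y⁻¹ * a) * e⁻¹ = y⁻¹ * (e * a * e⁻¹) := by
          have h5 := hye e he
          have : e * y⁻¹ = y⁻¹ * e := by
            rw [eq_inv_mul_iff_mul_eq, ← mul_assoc, ← h5, mul_inv_cancel_right]
          calc e * (y⁻¹ * a) * e⁻¹ = (e * y⁻¹) * a * e⁻¹ := by group
            _ = y⁻¹ * (e * a * e⁻¹) := by rw [this]; group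
        have h6 : e⁻¹ * s = s * e⁻¹ := mem_centralizer_iff.1 hsC e⁻¹ (inv_mem he)
        calc (e⁻¹ * (c * e * c⁻¹)) * a * (e⁻¹ * (c * e * c⁻¹))⁻¹ * a⁻¹
            = e⁻¹ * (c * (e * (c⁻¹ * a * c) * e⁻¹) * c⁻¹) * e * a⁻¹ := by group
          _ = e⁻¹ * (c * (y⁻¹ * (e * a * e⁻¹)) * c⁻¹) * e * a⁻¹ := by rw [e4, e5]
          _ = e⁻¹ * s * (e * a * e⁻¹) * e * a⁻¹ := by rw [hs]; group
          _ = s * e⁻¹ * (e * a * e⁻¹) * e * a⁻¹ := by rw [h6]
          _ = s := by group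
      rw [e3]
      exact ⟨hWU hsW, hsC⟩
    intro w hw
    have h3 := H52.BB.QWc hg (hWU hw)
    have h4 : (e⁻¹ * (c * e * c⁻¹)) * w * (e⁻¹ * (c * e * c⁻¹))⁻¹ = w := by
      rw [h3, mul_inv_cancel_right]
    calc (c * e * c⁻¹) * w * (c * e * c⁻¹)⁻¹ =
        e * ((e⁻¹ * (c * e * c⁻¹)) * w * (e⁻¹ * (c * e * c⁻¹))⁻¹) * e⁻¹ := by group
      _ = e * w * e⁻¹ := by rw [h4]
  -- c centralizes [W, E] = W
  have hb3 : ⁅WB p E, E⁆ = WB p E := (block_main hG hE).2.2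
  have hsub : ⁅WB p E, E⁆ ≤ centralizer (Subgroup.zpowers c : Set G) := by
    rw [Subgroup.commutator_le]
    intro w hw e he
    rw [mem_centralizer_iff]
    have hcomm : c * ⁅w, e⁆ = ⁅w, e⁆ * c := by
      have hz := h w hw
      set z := c * w * c⁻¹ * w⁻¹ with hzdef
      have hzW : z ∈ WB p E := mul_mem (hcm _ hw) (inv_mem hw)
      have he' : c * e * c⁻¹ ∈ E := (mem_normalizer_iff.1 hc e).1 he
      have e1 : c * w * c⁻¹ = z * w := by rw [hzdef]; group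
      have e2 : (c * e * c⁻¹) * z = z * (c * e * c⁻¹) := mem_centralizer_iff.1 hz _ he'
      have hk := key e he w hw
      have e3 : c * ⁅w, e⁆ * c⁻¹ = ⁅w, e⁆ := by
        have hx : w * (e * w * e⁻¹)⁻¹ ∈ WB p E := mul_mem hw (inv_mem ((mem_normalizer_iff.1 (hEW he) w).1 hw))
        have h7 := hab _ hzW _ hx
        calc c * ⁅w, e⁆ * c⁻¹ = (c * w * c⁻¹) * ((c * e * c⁻¹) * (c * w * c⁻¹) * (c * e * c⁻¹)⁻¹)⁻¹ := by
              rw [commutatorElement_def]; group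
          _ = (z * w) * ((c * e * c⁻¹) * (z * w) * (c * e * c⁻¹)⁻¹)⁻¹ := by rw [e1]
          _ = (z * w) * (((c * e * c⁻¹) * z) * w * (c * e * c⁻¹)⁻¹)⁻¹ := by group
          _ = (z * w) * (z * ((c * e * c⁻¹) * w * (c * e * c⁻¹)⁻¹))⁻¹ := by rw [e2]; group
          _ = (z * w) * (z * (e * w * e⁻¹))⁻¹ := by rw [hk]
          _ = z * (w * (e * w * e⁻¹)⁻¹) * z⁻¹ := by group
          _ = w * (e * w * e⁻¹)⁻¹ := by rw [h7]; group
          _ = ⁅w, e⁆ := by rw [commutatorElement_def]; group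
      exact mul_inv_eq_iff_eq_mul.1 e3
    intro x hx
    have hcc : c ∈ centralizer ({⁅w, e⁆} : Set G) := by
      rw [mem_centralizer_iff]
      rintro y rfl
      exact hcomm.symm
    have hxx : x ∈ centralizer ({⁅w, e⁆} : Set G) := (Subgroup.zpowers_le.2 hcc) hx
    exact (mem_centralizer_iff.1 hxx _ rfl).symm
  rw [hb3] at hsub
  rw [mem_centralizer_iff]
  intro w hw
  exact (mem_centralizer_iff.1 (hsub hw) c (Subgroup.mem_zpowers c)).symm

end H56.BZ
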