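import Mathlib
import Cfsg.Agent.Lib.H14.ZJ4
import Cfsg.Agent.Lib.H14.ZJ2
import Cfsg.Agent.Lib.H39.PStab
import Cfsg.Prelude.Def_TwoFusion

/-! Glauberman's ZJ theorem for strongly closed subgroups -/

set_option autoImplicit false

namespace H56.ZJD

open Subgroup H14.MaxIn H14.ZJ Cfsg
open scoped commutatorElement

section basic

variable {G : Type*} [Group G]

theorem le_normalizer_of_scl [Finite G] {D P : Subgroup G} (hD : IsStronglyClosed D P) :
    P ≤ normalizer (D : Set G) := by
  intro x hx
  apply mem_normalizer_fintype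
  intro y hy
  exact hD.2 y hy x (mul_mem (mul_mem hx (hD.1 hy)) (inv_mem hx))

/-- normalizers of intersections with normal subgroups -/
theorem normalizer_inf_le_of_scl [Finite G] {D P L : Subgroup G} [hL : L.Normal] (hD : IsStronglyClosed D P) :
    normalizer ((P ⊓ L : Subgroup G) : Set G) ≤ normalizer ((D ⊓ L : Subgroup G) : Set G) := by
  intro x hx
  apply mem_normalizer_fintype
  intro y hy
  obtain ⟨hy1, hy2⟩ := mem_inf.mp hy
  have h1 : x * y * x⁻¹ ∈ P ⊓ L := (mem_normalizer_iff.mp hx y).mp (mem_inf.mpr ⟨hD.1 hy1, hy2⟩)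
  exact mem_inf.mpr ⟨hD.2 y hy1 x (mem_inf.mp h1).1, hL.conj_mem y hy2 x⟩

end basic

/-- replacement inside a normal subgroup `D` of `P` -/
theorem replacement_in' {G : Type*} [Group G] [Finite G] {p : ℕ} [Fact p.Prime] {P : Subgroup G}
    (hP : IsPGroup p P) (hp : p ≠ 2) (e : Bool) (D : Subgroup G) (hDP : D ≤ P) (hDn : P ≤ normalizer (D : Set G))
    (B : Subgroup G) (hBP : B ≤ P) (hBn : P ≤ normalizer (B : Set G))
    (hex : ∃ U ∈ maxIn e p D, ⁅B, B⁆ ≤ U ∧ ¬ B ≤ U) :
    ∃ A ∈ maxIn e p D, ⁅B, B⁆ ≤ A ∧ ¬ B ≤ A ∧ B ≤ normalizer (A : Set G) := by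
  have hinj := P.subtype_injective
  have hB : (B.subgroupOf P).map P.subtype = B := by rw [subgroupOf_map_subtype, inf_eq_left]; exact hBP
  have hD : (D.subgroupOf P).map P.subtype = D := by rw [subgroupOf_map_subtype, inf_eq_left]; exact hDP
  have : (B.subgroupOf P).Normal := normal_subgroupOf_of_le_normalizer hBn
  have : (D.subgroupOf P).Normal := normal_subgroupOf_of_le_normalizer hDn
  have hmax := maxIn_map e p hinj (D.subgroupOf P)
  rw [hD] at hmax
  have hcomm : ⁅B.subgroupOf P, B.subgroupOf P⁆.map P.subtype = ⁅B, B⁆ := by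
    rw [map_commutator, hB]
  obtain ⟨U, hU, hU1, hU2⟩ := hex
  rw [hmax] at hU
  obtain ⟨U, hU, rfl⟩ := hU
  obtain ⟨A, hA, hA1, hA2, hA3⟩ := replacement hP hp e (D.subgroupOf P) (B.subgroupOf P)
    ⟨U, hU, by
      rw [← map_le_map_iff_of_injective hinj, hcomm]; exact hU1, fun h => hU2 (by
      rw [← hB]; exact map_mono h)⟩
  refine ⟨A.map P.subtype, ?_, ?_, ?_, ?_⟩
  · rw [hmax]; exact ⟨A, hA, rfl⟩
  · rw [← hcomm]; exact map_mono hA1
  · intro h
    apply hA2
    rw [← map_le_map_iff_of_injective hinj, hB]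
    exact h
  · rw [← hB]
    exact (map_mono hA3).trans (le_normalizer_map _)

variable {G : Type*} [Group G] [Finite G] {p : ℕ} [Fact p.Prime]

theorem zjd_aux (hp : p ≠ 2) (e : Bool) (P : Sylow p G) {D : Subgroup G} (hD : IsStronglyClosed D (P : Subgroup G))
    (hst : ∀ V : Subgroup G, V.Normal → IsPGroup p V → Stab (P : Subgroup G) V) :
    ∀ (n : ℕ) (B : Subgroup G), B.Normal → IsPGroup p B → Nat.card B ≤ n →
      (WW e p D ⊓ B).Normal := by
  intro n
  have hPD := le_normalizer_of_scl hD
  induction n with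
  | zero =>
    intro B _ _ hn
    have := Nat.card_pos (α := B)
    omega
  | succ n ih =>
    intro B hBn hB hn
    by_contra hcon
    set W := WW e p D with hW
    set T := W ⊓ B with hT
    have hBP : B ≤ (P : Subgroup G) := (H1.Cores.le_pCore hBn hB).trans (H1.Cores.pCore_le_sylow P)
    have hPW : (P : Subgroup G) ≤ normalizer (W : Set G) :=
      hPD.trans (normalizer_le_normalizer_WW e p _)
    have hWP : W ≤ (P : Subgroup G) := (WW_le e p _).trans hD.1
    have hWpr : PrE e p W := prE_WW e p _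
    have hBtop : normalizer (B : Set G) = ⊤ := normalizer_eq_top B
    have hnT : normalizer (W : Set G) ≤ normalizer (T : Set G) := by
      intro x hx
      rw [mem_normalizer_iff] at hx ⊢
      intro y
      change y ∈ W ⊓ B ↔ x * y * x⁻¹ ∈ W ⊓ B
      rw [mem_inf, mem_inf]
      have h1 := mem_normalizer_iff.mp (show x ∈ normalizer (B : Set G) by rw [hBtop]; trivial) y
      exact and_congr (hx y) h1
    -- step 1
    have hcl : normalClosure (T : Set G) = B := by
      by_contra hne
      have hle : normalClosure (T : Set G) ≤ B := normalClosure_le_normal inf_le_right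
      have hlt := card_lt_of_lt (lt_of_le_of_ne hle hne)
      have h1 := ih (normalClosure (T : Set G)) inferInstance
        (hB.to_le hle) (by omega)
      apply hcon
      have h2 : W ⊓ normalClosure (T : Set G) = T := by
        apply le_antisymm
        · exact inf_le_inf_left _ hle
        · exact le_inf inf_le_left subset_normalClosure
      rwa [h2] at h1
    have hBne : B ≠ ⊥ := by
      rintro rfl
      apply hcon
      rw [hT, inf_bot_eq]; infer_instance
    -- step 2
    have hlt := commutator_lt_of_isPGroup hB hBne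
    have hN : (W ⊓ ⁅B, B⁆).Normal := ih ⁅B, B⁆ inferInstance (hB.to_le hlt.le)
      (by have := card_lt_of_lt hlt; omega)
    have hTB : ⁅T, B⁆ ≤ W ⊓ ⁅B, B⁆ := by
      refine le_inf ?_ (commutator_mono inf_le_right le_rfl)
      exact (commutator_mono inf_le_left le_rfl).trans
        (le_normalizer_iff_commutator_le_left.mp (hBP.trans hPW))
    have hBB : ⁅B, B⁆ ≤ W := by
      have h1 := commutator_normalClosure_le hTB
      rw [hcl] at h1
      exact h1.trans inf_le_left
    -- step 4
    set L := (normalizer (T : Set G)).normalCore with hL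
    have : L.Normal := normalCore_normal _
    have hLT : L ≤ normalizer (T : Set G) := normalCore_le _
    have hstep : ∀ A ∈ maxIn e p D, ⁅⁅B, A⁆, A⁆ = ⊥ → A ≤ L := by
      intro A hA hq
      obtain ⟨M, hM1, hM2, hM3⟩ := hst B hBn hB A (hA.1.trans hD.1) hq
      refine hM2.trans ?_
      have := hM1
      rw [hL, normal_le_normalCore]
      refine hM3.trans (sup_le ?_ (hPW.trans hnT))
      refine (centralizer_le ?_).trans (centralizer_le_normalizer _)
      exact (inf_le_right : T ≤ B)
    have hfrat : normalizer ((D ⊓ L : Subgroup G) : Set G) ⊔ L = ⊤ := by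
      rw [eq_top_iff, ← H13.SylowN.frattini P L]
      exact sup_le_sup_right (normalizer_inf_le_of_scl hD) L
    have hnPL : normalizer ((D ⊓ L : Subgroup G) : Set G) ≤ normalizer (WW e p (D ⊓ L) : Set G) :=
      normalizer_le_normalizer_WW e p _
    by_cases hall : ∀ A ∈ maxIn e p D, A ≤ L
    · have h1 : maxIn e p (D ⊓ L) = maxIn e p D := by
        ext A
        constructor
        · intro hA
          obtain ⟨A₀, hA₀⟩ := maxIn_nonempty e p D
          refine ⟨hA.1.trans inf_le_left, hA.2.1, fun C hC hC2 => ?_⟩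
          exact (hA₀.2.2 C hC hC2).trans (hA.2.2 A₀ (le_inf hA₀.1 (hall A₀ hA₀)) hA₀.2.1)
        · intro hA
          exact ⟨le_inf hA.1 (hall A hA), hA.2.1, fun C hC hC2 =>
            hA.2.2 C (hC.trans inf_le_left) hC2⟩
      have h2 : WW e p (D ⊓ L) = W := by rw [WW, h1]; rfl
      rw [h2] at hnPL
      apply hcon
      rw [← normalizer_eq_top_iff, eq_top_iff, ← hfrat]
      exact sup_le (hnPL.trans hnT) hLT
    · push Not at hall
      obtain ⟨A, hA, hAL⟩ := hall
      have hBA : ¬ B ≤ A := by
        intro hBA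
        apply hAL
        apply hstep A hA
        have h1 : ⁅B, A⁆ = ⊥ := by
          rw [commutator_eq_bot_iff_le_centralizer]
          intro x hx
          rw [mem_centralizer_iff]
          intro y hy
          exact hA.2.1.comm hy (hBA hx)
        rw [h1, commutator_bot_left]
      obtain ⟨A₁, hA₁, h1, h2, h3⟩ := replacement_in' P.2 hp e D hD.1 hPD B hBP (by rw [hBtop]; exact le_top)
        ⟨A, hA, hBB.trans (WW_le_of_mem hA), hBA⟩
      have hA₁L : A₁ ≤ L := by
        apply hstep A₁ hA₁
        have h4 : ⁅B, A₁⁆ ≤ A₁ := by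
          rw [commutator_comm]
          exact le_normalizer_iff_commutator_le_left.mp h3
        rw [eq_bot_iff]
        refine (commutator_mono h4 le_rfl).trans ?_
        rw [commutator_self_eq_bot_iff.mpr hA₁.2.1.1]
      have hA₁' : A₁ ∈ maxIn e p (D ⊓ L) :=
        ⟨le_inf hA₁.1 hA₁L, hA₁.2.1, fun C hC hC2 => hA₁.2.2 C (hC.trans inf_le_left) hC2⟩
      have hsub : ∀ C ∈ maxIn e p (D ⊓ L), C ∈ maxIn e p D := by
        intro C hC
        refine ⟨hC.1.trans inf_le_left, hC.2.1, fun C' hC' hC2 => ?_⟩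
        exact (hA₁.2.2 C' hC' hC2).trans (hC.2.2 A₁ hA₁'.1 hA₁.2.1)
      have hWW : W ≤ WW e p (D ⊓ L) := le_sInf fun C hC => sInf_le (hsub C hC)
      apply h2
      rw [← hcl]
      refine le_trans ?_ (WW_le_of_mem hA₁')
      -- conjugates of T
      rw [normalClosure, closure_le]
      intro y hy
      rw [Group.mem_conjugatesOfSet_iff] at hy
      obtain ⟨t, ht, hty⟩ := hy
      obtain ⟨g, rfl⟩ := isConj_iff.mp hty
      have hg : g ∈ normalizer ((D ⊓ L : Subgroup G) : Set G) ⊔ L := by
        rw [hfrat]; trivial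
      obtain ⟨m, hm, l, hl, rfl⟩ := mem_sup_of_normal_right.mp hg
      have h6 : l * t * l⁻¹ ∈ T := (mem_normalizer_iff.mp (hLT hl) t).mp ht
      have h7 : l * t * l⁻¹ ∈ WW e p (D ⊓ L) := hWW (mem_inf.mp h6).1
      have h8 := (mem_normalizer_iff.mp (hnPL hm) _).mp h7
      have h9 : m * l * t * (m * l)⁻¹ = m * (l * t * l⁻¹) * m⁻¹ := by group
      rw [h9]; exact h8

theorem zjd_inf (hp : p ≠ 2) (e : Bool) (P : Sylow p G) {D : Subgroup G} (hD : IsStronglyClosed D (P : Subgroup G))
    (hst : ∀ V : Subgroup G, V.Normal → IsPGroup p V → Stab (P : Subgroup G) V)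
    (B : Subgroup G) (hBn : B.Normal) (hB : IsPGroup p B) :
    (WW e p D ⊓ B).Normal := zjd_aux hp e P hD hst _ B hBn hB le_rfl

/-- the ZJ theorem for strongly closed subgroups -/
theorem zjd_normal (hp : p ≠ 2) (e : Bool) (P : Sylow p G) {D : Subgroup G}
    (hD : IsStronglyClosed D (P : Subgroup G))
    (hst : ∀ V : Subgroup G, V.Normal → IsPGroup p V → Stab (P : Subgroup G) V)
    (hc : centralizer (pCore p G : Set G) ≤ pCore p G) : (WW e p D).Normal := by
  have := H1.Cores.pCore_normal (G := G) p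
  have hO := H1.Cores.isPGroup_pCore (G := G) p
  have hOP := H1.Cores.pCore_le_sylow P
  set W := WW e p D with hW
  have hPW : (P : Subgroup G) ≤ normalizer (W : Set G) :=
    (le_normalizer_of_scl hD).trans (normalizer_le_normalizer_WW e p _)
  have hWP : W ≤ (P : Subgroup G) := (WW_le e p _).trans hD.1
  have hWpr : PrE e p W := prE_WW e p _
  have h1 : ⁅⁅pCore p G, W⁆, W⁆ = ⊥ := by
    have h4 : ⁅pCore p G, W⁆ ≤ W := by
      rw [commutator_comm]
      exact le_normalizer_iff_commutator_le_left.mp (hOP.trans hPW)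
    rw [eq_bot_iff]
    refine (commutator_mono h4 le_rfl).trans ?_
    rw [commutator_self_eq_bot_iff.mpr hWpr.1]
  obtain ⟨M, hM1, hM2, hM3⟩ := hst (pCore p G) inferInstance hO W hWP h1
  have hMP : M ≤ (P : Subgroup G) := hM3.trans (sup_le (hc.trans hOP) le_rfl)
  have hMO : M ≤ pCore p G := H1.Cores.le_pCore hM1 (P.2.to_le hMP)
  have h2 := zjd_inf hp e P hD hst (pCore p G) inferInstance hO
  rwa [inf_eq_left.mpr (hM2.trans hMO)] at h2

/-- `p`-stability in the normalizer form gives the stability used above -/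
theorem stab_of_nps (hst : IsNormalizerPStable p G) (P : Sylow p G) (V : Subgroup G) [hVn : V.Normal] (hV : IsPGroup p V) :
    Stab (P : Subgroup G) V := by
  rw [H39.PStab.pstab_iff] at hst
  apply H14.ZJ3.stab_of
  intro A hA hq a ha
  have htop : normalizer (V : Set G) = ⊤ := normalizer_eq_top V
  obtain ⟨K, hK1, -, hK3, hK4⟩ := hst V hV a (by rw [htop]; trivial) (by
    rw [eq_bot_iff, ← hq]
    have h1 : zpowers a ≤ A := by rwa [zpowers_le]
    exact commutator_mono (commutator_mono le_rfl h1) h1)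
  have hKn : K.Normal := by
    rw [← normalizer_eq_top_iff, eq_top_iff, ← htop]; exact hK3
  have hKc : (K.map (QuotientGroup.mk' (centralizer (V : Set G)))).Normal :=
    hKn.map _ (QuotientGroup.mk'_surjective _)
  have h2 : K.map (QuotientGroup.mk' (centralizer (V : Set G))) ≤ pCore p (G ⧸ centralizer (V : Set G)) := by
    apply H1.Cores.le_pCore hKc
    rintro ⟨_, k, hk, rfl⟩
    obtain ⟨j, hj⟩ := hK4 k hk
    refine ⟨j, Subtype.ext ?_⟩
    show (QuotientGroup.mk' (centralizer (V : Set G)) k) ^ p ^ j = 1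
    rw [← map_pow, QuotientGroup.mk'_apply, QuotientGroup.eq_one_iff]
    exact hj
  exact h2 ⟨a, hK1, rfl⟩

/-- the elementary version of `Z(J(D))` -/
theorem thompson_eq {G : Type*} [Group G] (p : ℕ) (P : Subgroup G) : thompsonSubgroupOf p P = sSup (maxIn true p P) := by
  have h1 : maxElementaryAbelianSubgroups p ↥P = maxIn true p (⊤ : Subgroup P) := by
    ext A
    simp only [maxElementaryAbelianSubgroups, maxIn, Set.mem_setOf_eq, prE_true, le_top, true_and,
      forall_true_left]
  have h2 : maxIn true p P = maxIn true p ((⊤ : Subgroup P).map P.subtype) := by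
    rw [← MonoidHom.range_eq_map, range_subtype]
  rw [thompsonSubgroupOf, thompsonSubgroup, h1, h2, maxIn_map true p P.subtype_injective, sSup_image, sSup_eq_iSup]
  exact (gc_map_comap P.subtype).l_iSup₂

theorem omega_centerThompson_eq {G : Type*} [Group G] [Finite G] (p : ℕ) (P : Subgroup G) :
    omegaOne p (centerThompsonOf p P) = WW true p P := by
  rw [centerThompsonOf, thompson_eq p]
  apply le_antisymm
  · rw [omegaOne, closure_le]
    rintro x ⟨hx, hxp⟩
    obtain ⟨hx1, hx2⟩ := mem_inf.mp hx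
    change x ∈ WW true p P
    rw [mem_WW]
    intro A hA
    have hxP : x ∈ P := (sSup_le (fun A hA => hA.1) : sSup (maxIn true p P) ≤ P) hx1
    have hcomm : ∀ a ∈ A, a * x = x * a := fun a ha =>
      mem_centralizer_iff.mp hx2 a ((le_sSup hA : A ≤ _) ha)
    have h1 := H14.PBasic.isElementaryAbelian_closure_insert (prE_true.mp hA.2.1) (x := x)
      (mem_centralizer_iff.mpr hcomm) hxp
    have h2 := hA.2.2 _ ?_ (prE_true.mpr h1)
    · have h3 := Subgroup.eq_of_le_of_card_ge (H14.PBasic.le_closure_insert A x) h2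
      rw [h3]
      exact H14.PBasic.mem_closure_insert A x
    · rw [closure_le]
      rintro y (rfl | hy)
      · exact hxP
      · exact hA.1 hy
  · intro x hx
    apply Subgroup.subset_closure
    refine ⟨mem_inf.mpr ⟨?_, ?_⟩, (prE_WW true p P).2 rfl x hx⟩
    · obtain ⟨A, hA⟩ := maxIn_nonempty true p P
      exact (le_sSup hA : A ≤ _) (WW_le_of_mem hA hx)
    · have h1 : sSup (maxIn true p P) ≤ centralizer {x} := by
        apply sSup_le
        intro A hA a ha
        rw [mem_centralizer_singleton_iff]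
        exact (hA.2.1.comm ha (mem_WW.mp hx A hA))
      rw [mem_centralizer_iff]
      intro y hy
      exact mem_centralizer_singleton_iff.mp (h1 hy)

end H56.ZJD
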