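import Mathlib
import Cfsg.Agent.Lib.H55.SharedCent
import Cfsg.Agent.Lib.H54.ExtraNine1
import Cfsg.Agent.Lib.H1.Coprime2
import Cfsg.Agent.Lib.H26.Basic

set_option autoImplicit false
set_option linter.all false

namespace H56.BmM

open Subgroup Cfsg
open scoped commutatorElement

section Step1

variable {A : Type*} [Group A]

/-- an involutory automorphism of a group of exponent 3 is determined by its fixed points and commutators -/
theorem ext_of {A : Type*} [Group A] (hc : ∀ a b : A, a * b = b * a) (h3 : ∀ a : A, a ^ 3 = 1)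
    {z x : MulAut A} (hz : z * z = 1) (h1 : ∀ a, z a = a → x a = a)
    (h2 : ∀ a, x (z a * a⁻¹) = z a * a⁻¹) : x = 1 := by
  have hzz : ∀ a, z (z a) = a := fun a => by
    rw [← MulAut.mul_apply, hz]; rfl
  have hx2 : ∀ a, x (a * a) = a * a := by
    intro a
    have e1 : z (a * z a) = a * z a := by rw [map_mul, hzz, hc]
    have e2 := h1 _ e1
    have e3 := h2 a
    have e4 : a * a = (a * z a) * (z a * a⁻¹)⁻¹ := by
      rw [mul_inv_rev, inv_inv, hc a (z a), mul_assoc, ← mul_assoc a a, hc (a * a), ← mul_assoc,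
        mul_inv_cancel, one_mul]
    rw [e4, map_mul, map_inv, e2, e3]
  ext a
  have e5 : a = (a * a) * (a * a) := by
    have := h3 a
    calc a = a ^ 3 * a := by rw [this, one_mul]
      _ = (a * a) * (a * a) := by simp only [pow_succ, pow_zero, one_mul, mul_assoc]
  show x a = a
  conv_lhs => rw [e5]
  rw [map_mul, hx2, ← e5]

theorem conj_eq {A : Type*} [Group A] [Finite A] (hc : ∀ a b : A, a * b = b * a)
    (h3 : ∀ a : A, a ^ 3 = 1) {D : Subgroup (MulAut A)} {z d : MulAut A} (hz : z * z = 1)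
    (hzD : ∀ d ∈ D, z * d * z⁻¹ ∈ D)
    (hD : ∀ x ∈ D, x * z = z * x → ∀ a, x (z a * a⁻¹) = z a * a⁻¹) (hd : d ∈ D)
    (hy : (d * z * d⁻¹) * z = z * (d * z * d⁻¹)) : d * z * d⁻¹ = z := by
  have hzi : z⁻¹ = z := inv_eq_of_mul_eq_one_left hz
  have hzz : ∀ a, z (z a) = a := fun a => by
    rw [← MulAut.mul_apply, hz]; rfl
  set y := d * z * d⁻¹ with hyd
  have hyy : y * y = 1 := by
    have : y * y = d * (z * z) * d⁻¹ := by rw [hyd]; group
    rw [this, hz]; group
  have hyy' : ∀ a, y (y a) = a := fun a => by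
    rw [← MulAut.mul_apply, hyy]; rfl
  have hxD : z * y ∈ D := by
    have : z * y = (z * d * z⁻¹) * d⁻¹ := by rw [hyd, hzi]; group
    rw [this]
    exact D.mul_mem (hzD d hd) (D.inv_mem hd)
  have hxz : (z * y) * z = z * (z * y) := by rw [mul_assoc, hy]
  have hx := hD _ hxD hxz
  have hyc : ∀ a, y (z a * a⁻¹) = z (z a * a⁻¹) := by
    intro a
    have := hx a
    rw [MulAut.mul_apply] at this
    rw [← hzz (y (z a * a⁻¹)), this]
  -- inverted elements
  have hinv : ∀ a, z a = a⁻¹ → y a = a⁻¹ := by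
    intro a ha
    have e1 : z a * a⁻¹ = a := by
      rw [ha]
      have := h3 a
      calc a⁻¹ * a⁻¹ = a⁻¹ * a⁻¹ * a ^ 3 := by rw [this, mul_one]
        _ = a := by group
    have := hyc a
    rw [e1, ha] at this
    exact this
  let Iz : Set A := {a | z a = a⁻¹}
  let Iy : Set A := {a | y a = a⁻¹}
  have hsub : Iz ⊆ Iy := fun a ha => hinv a ha
  have himg : (fun a => d a) '' Iz = Iy := by
    ext a
    constructor
    · rintro ⟨b, hb, rfl⟩
      show y (d b) = (d b)⁻¹
      have hb' : z b = b⁻¹ := hb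
      rw [hyd, MulAut.mul_apply, MulAut.mul_apply, MulAut.inv_apply_self, hb', map_inv]
    · intro ha
      have ha' : y a = a⁻¹ := ha
      refine ⟨d⁻¹ a, ?_, MulAut.apply_inv_self _ _ _⟩
      show z (d⁻¹ a) = (d⁻¹ a)⁻¹
      have : d (z (d⁻¹ a)) = a⁻¹ := ha'
      have h5 := congrArg (fun t => d⁻¹ t) this
      simp only [MulAut.inv_apply_self, map_inv] at h5
      exact h5
  have heq : Iz = Iy := by
    apply Set.eq_of_subset_of_ncard_le hsub
    rw [← himg, Set.ncard_image_of_injective _ d.injective]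
  have hfix : ∀ b, z b = b → y b = b := by
    intro b hb
    have e1 : z (y b) = y b := by
      have : (y * z) b = (z * y) b := by rw [hy]
      rw [MulAut.mul_apply, MulAut.mul_apply, hb] at this
      exact this.symm
    have e2 : y (y b * b⁻¹) = (y b * b⁻¹)⁻¹ := by
      rw [map_mul, hyy', map_inv, mul_inv_rev, inv_inv]
    have e3 : z (y b * b⁻¹) = (y b * b⁻¹)⁻¹ := by
      have : y b * b⁻¹ ∈ Iz := by rw [heq]; exact e2
      exact this
    have e4 : z (y b * b⁻¹) = y b * b⁻¹ := by rw [map_mul, map_inv, e1, hb]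
    rw [e4] at e3
    have e5 : (y b * b⁻¹) * (y b * b⁻¹) = 1 := by
      nth_rw 2 [e3]
      rw [mul_inv_cancel]
    have e6 := h3 (y b * b⁻¹)
    rw [pow_succ, pow_two, e5, one_mul] at e6
    exact mul_inv_eq_one.1 e6
  have hx1 : z * y = 1 := by
    apply ext_of hc h3 hz
    · intro a ha
      rw [MulAut.mul_apply, hfix a ha, ha]
    · intro a
      exact hx a
  have := eq_inv_of_mul_eq_one_right hx1
  rw [this, hzi]

end Step1

end H56.BmM
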