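import Mathlib
import Cfsg.Agent.Lib.H56.BmM1
import Cfsg.Agent.Lib.H65.PBasic

set_option autoImplicit false
set_option linter.all false

namespace H56.BmM

open Subgroup Cfsg
open scoped commutatorElement

universe u

/-- the odd core of a subgroup -/
noncomputable def oD {G : Type*} [Group G] (D : Subgroup G) : Subgroup G :=
  (pPrimeCore 2 D).map D.subtype

theorem oD_le {G : Type*} [Group G] (D : Subgroup G) : oD D ≤ D := Subgroup.map_subtype_le _

theorem step2 {A : Type u} [Group A] [Finite A] (hc : ∀ a b : A, a * b = b * a)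
    (h3 : ∀ a : A, a ^ 3 = 1) {D : Subgroup (MulAut A)} {z : MulAut A} (hz : z * z = 1)
    (hzD : ∀ d ∈ D, z * d * z⁻¹ ∈ D)
    (hD : ∀ x ∈ D, x * z = z * x → ∀ a, x (z a * a⁻¹) = z a * a⁻¹) (hz1 : z ≠ 1) :
    ∀ d ∈ D, d * z * d⁻¹ * z⁻¹ ∈ oD D := by
  have hzi : z⁻¹ = z := inv_eq_of_mul_eq_one_left hz
  have hzN : zpowers z ≤ normalizer (D : Set (MulAut A)) := by
    rw [zpowers_le, mem_normalizer_iff]
    intro h
    refine ⟨hzD h, fun hh => ?_⟩
    have := hzD _ hh
    have e : z * (z * h * z⁻¹) * z⁻¹ = (z * z) * h * (z * z)⁻¹ := by group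
    rw [e, hz] at this
    simpa using this
  set X : Subgroup (MulAut A) := D ⊔ zpowers z with hX
  have hzX : z ∈ X := (le_sup_right : zpowers z ≤ X) (mem_zpowers z)
  have hDX : D ≤ X := le_sup_left
  let zX : X := ⟨z, hzX⟩
  have hiso : IsIsolatedInvolution zX := by
    refine ⟨?_, ?_⟩
    · apply orderOf_eq_prime
      · apply Subtype.ext
        show z ^ 2 = 1
        rw [pow_two, hz]
      · intro e
        exact hz1 (congrArg Subtype.val e)
    · rintro ⟨g, hg⟩ hcomm
      obtain ⟨d, hd, b, hb, rfl⟩ := (H26.Basic.mem_sup_of_le_normalizer' hzN).1 hg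
      have hbz : b * z * b⁻¹ = z := by
        obtain ⟨k, rfl⟩ := mem_zpowers_iff.1 hb
        group
      have e1 : (d * b) * z * (d * b)⁻¹ = d * z * d⁻¹ := by
        have : (d * b) * z * (d * b)⁻¹ = d * (b * z * b⁻¹) * d⁻¹ := by group
        rw [this, hbz]
      have h1 : z * ((d * b) * z * (d * b)⁻¹) = ((d * b) * z * (d * b)⁻¹) * z :=
        congrArg Subtype.val hcomm.eq
      rw [e1] at h1
      apply Subtype.ext
      show (d * b) * z * (d * b)⁻¹ = z
      rw [e1]
      exact conj_eq hc h3 hz hzD hD hd h1.symm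
  have hcore := H26.ZStarUse.zstar_core H55.SharedCent.zstarHyp.{u} hiso
  intro d hd
  have h1 := hcore ⟨d, hDX hd⟩
  -- the intersection with D
  have hmem : d * z * d⁻¹ * z⁻¹ ∈ D := by
    have : d * z * d⁻¹ * z⁻¹ = d * (z * d⁻¹ * z⁻¹) := by group
    rw [this]
    exact D.mul_mem hd (hzD _ (D.inv_mem hd))
  have hle : ((pPrimeCore 2 X).map X.subtype).subgroupOf D ≤ pPrimeCore 2 D := by
    have hn : (((pPrimeCore 2 X).map X.subtype).subgroupOf D).Normal := by
      constructor
      rintro ⟨n, hn⟩ hn' ⟨g, hg⟩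
      rw [mem_subgroupOf] at hn' ⊢
      obtain ⟨m, hm, hmn⟩ := hn'
      have hmn : (m : MulAut A) = n := hmn
      refine ⟨⟨g, hDX hg⟩ * m * ⟨g, hDX hg⟩⁻¹, ?_, ?_⟩
      · exact (inferInstance : (pPrimeCore 2 X).Normal).conj_mem m hm _
      · show g * (m : MulAut A) * g⁻¹ = g * n * g⁻¹
        rw [hmn]
    apply H1.Cores.le_pPrimeCore hn
    have hodd := H1.Cores.coprime_card_pPrimeCore (G := X) 2
    have h2 : Nat.card ((pPrimeCore 2 X).map X.subtype) = Nat.card (pPrimeCore 2 X) :=
      card_map_of_injective X.subtype_injective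
    have h3 : Nat.card (((pPrimeCore 2 X).map X.subtype).subgroupOf D) ∣
        Nat.card ((pPrimeCore 2 X).map X.subtype) := by
      have e : Nat.card (((pPrimeCore 2 X).map X.subtype).subgroupOf D) =
          Nat.card ((((pPrimeCore 2 X).map X.subtype).subgroupOf D).map D.subtype) :=
        (card_map_of_injective D.subtype_injective).symm
      rw [e]
      apply card_dvd_of_le
      rw [subgroupOf_map_subtype]
      exact inf_le_left
    rw [h2] at h3
    exact Nat.Coprime.coprime_dvd_left h3 hodd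
  have h4 : (⟨d * z * d⁻¹ * z⁻¹, hmem⟩ : D) ∈ pPrimeCore 2 D := by
    apply hle
    rw [mem_subgroupOf]
    exact ⟨_, h1, rfl⟩
  exact ⟨_, h4, rfl⟩

end H56.BmM
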