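import Mathlib
import Cfsg.Agent.Lib.H56.BmM2

set_option autoImplicit false
set_option linter.all false

namespace H56.BmM

open Subgroup Cfsg H1.Coprime H1.Coprime2
open scoped commutatorElement

variable {A : Type*} [Group A] [Finite A]

/-- a unipotent automorphism of order prime to 3 is trivial -/
theorem unip (hc : ∀ a b : A, a * b = b * a) (h3 : ∀ a : A, a ^ 3 = 1) {t : MulAut A}
    (ht : ∃ n, t ^ n = 1 ∧ n.Coprime 3) {a c : A} (h1 : t a = c * a) (h2 : t c = c) : t a = a := by
  obtain ⟨n, hn, hcop⟩ := ht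
  have h : ∀ m : ℕ, (t ^ m) a = c ^ m * a := by
    intro m
    induction m with
    | zero => simp
    | succ m ih =>
      rw [pow_succ', MulAut.mul_apply, ih, map_mul, map_pow, h2, h1, pow_succ, mul_assoc]
  have e1 := h n
  rw [hn] at e1
  have e2 : c ^ n = 1 := by
    have e1 : a = c ^ n * a := e1
    exact mul_eq_right.1 e1.symm
  have e3 : c = 1 := by
    have d1 := orderOf_dvd_of_pow_eq_one e2
    have d2 := orderOf_dvd_of_pow_eq_one (h3 c)
    have d3 := Nat.dvd_gcd d1 d2
    rw [hcop.gcd_eq_one] at d3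
    exact orderOf_eq_one_iff.1 (Nat.dvd_one.1 d3)
  rw [h1, e3, one_mul]

theorem step3 (hc : ∀ a b : A, a * b = b * a)
    (h3 : ∀ a : A, a ^ 3 = 1) {D K : Subgroup (MulAut A)} {z : MulAut A} (hz : z * z = 1)
    (hzK : z ∈ ⁅K, K⁆) (hzc : ∀ k ∈ K, k * z = z * k)
    (hKf : ∀ k ∈ K, ∀ a, z a = a → k a = a)
    (hD : ∀ x ∈ D, x * z = z * x → ∀ a, x (z a * a⁻¹) = z a * a⁻¹)
    {r : ℕ} [hr : Fact r.Prime] (hr2 : r ≠ 2) (hr3 : r ≠ 3) (n : ℕ) :
    ∀ R : Subgroup (MulAut A), Nat.card R = n → R ≤ D → IsPGroup r R →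
      K ≤ normalizer (R : Set (MulAut A)) → ∀ x ∈ R, x * z = z * x := by
  have hzi : z⁻¹ = z := inv_eq_of_mul_eq_one_left hz
  have hzz : ∀ a, z (z a) = a := fun a => by
    rw [← MulAut.mul_apply, hz]; rfl
  induction n using Nat.strong_induction_on with
  | _ n ih =>
  intro R hcard hRD hR hKR
  have hmin : ∀ P : Subgroup (MulAut A), P < R → K ≤ normalizer (P : Set (MulAut A)) →
      ∀ x ∈ P, x * z = z * x := by
    intro P hP hKP
    refine ih _ ?_ P rfl (hP.le.trans hRD) (hR.to_le hP.le) hKP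
    rw [← hcard]
    exact lt_of_le_of_ne (Nat.le_of_dvd Nat.card_pos (card_dvd_of_le hP.le))
      (fun h => hP.ne (eq_of_le_of_card_ge hP.le h.ge))
  have hzK' : z ∈ K := (commutator_le_self K) hzK
  have hZK : zpowers z ≤ K := by rwa [zpowers_le]
  have hZR : zpowers z ≤ normalizer (R : Set (MulAut A)) := hZK.trans hKR
  have hKZ : K ≤ normalizer (zpowers z : Set (MulAut A)) := by
    refine le_trans ?_ (centralizer_le_normalizer _)
    intro k hk
    rw [mem_centralizer_iff]
    intro y hy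
    obtain ⟨m, rfl⟩ := mem_zpowers_iff.1 hy
    have : Commute k z := hzc k hk
    exact (this.zpow_right m).symm.eq
  have hcardZ : (Nat.card (zpowers z)).Coprime (Nat.card R) := by
    rw [Nat.card_zpowers]
    have h1 : orderOf z ∣ 2 := orderOf_dvd_of_pow_eq_one (by rw [pow_two, hz])
    refine Nat.Coprime.coprime_dvd_left h1 ?_
    obtain ⟨m, hm⟩ := IsPGroup.iff_card.1 hR
    rw [hm]
    exact Nat.Coprime.pow_right m ((Nat.coprime_primes Nat.prime_two hr.out).2 (Ne.symm hr2))
  have hsolvZ : Group.IsSolvable (zpowers z) := by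
    have : IsMulCommutative (zpowers z) := inferInstance
    exact isSolvable_of_comm (fun a b => this.is_comm.comm a b)
  have hR1K : K ≤ normalizer ((⁅R, zpowers z⁆ : Subgroup (MulAut A)) : Set (MulAut A)) :=
    le_normalizer_commutator hKR hKZ
  have hcomm_of : ⁅R, zpowers z⁆ = ⊥ → ∀ x ∈ R, x * z = z * x := by
    intro h x hx
    exact H26.Basic.commute_of_commutator_eq_bot h hx (mem_zpowers z)
  by_cases hR1 : ⁅R, zpowers z⁆ = R
  swap
  · apply hcomm_of
    apply commutator_eq_bot_of (zpowers z) R hZR hcardZ (Or.inl hsolvZ)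
    have h1 := hmin _ (lt_of_le_of_ne (commutator_le_left hZR) hR1) hR1K
    rw [H26.Basic.commutator_eq_bot_iff_forall]
    intro a ha b hb
    obtain ⟨m, rfl⟩ := mem_zpowers_iff.1 hb
    have : Commute a z := h1 a ha
    exact (this.zpow_right m).eq
  by_cases hRb : R = ⊥
  · intro x hx
    rw [hRb, mem_bot] at hx
    rw [hx]; simp
  exfalso
  have hpow : ∀ x ∈ R, ∃ m : ℕ, x ^ (r ^ m) = 1 := by
    intro x hx
    obtain ⟨m, hm⟩ := hR ⟨x, hx⟩
    exact ⟨m, congrArg Subtype.val hm⟩
  have hcop3 : ∀ m : ℕ, (r ^ m).Coprime 3 := fun m =>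
    Nat.Coprime.pow_left m ((Nat.coprime_primes hr.out Nat.prime_three).2 hr3)
  have hcop2 : ∀ m : ℕ, (r ^ m).Coprime 2 := fun m =>
    Nat.Coprime.pow_left m ((Nat.coprime_primes hr.out Nat.prime_two).2 hr2)
  -- `R` is abelian
  have hab : ∀ x ∈ R, ∀ y ∈ R, x * y = y * x := by
    by_contra hcon
    have hRR : ⁅R, R⁆ ≠ ⊥ := by
      intro h
      apply hcon
      intro x hx y hy
      exact H26.Basic.commute_of_commutator_eq_bot h hx hy
    have hRRle : ⁅R, R⁆ ≤ R := commutator_le_self R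
    have hRRn : R ≤ normalizer ((⁅R, R⁆ : Subgroup (MulAut A)) : Set (MulAut A)) :=
      le_normalizer_commutator_left R R
    have h1 := H65.PBasic.inf_centralizer_ne_bot (p := r) R ⁅R, R⁆ hR (hR.to_le hRRle) hRRn hRR
    obtain ⟨⟨c, hcm⟩, hc1'⟩ := Subgroup.ne_bot_iff_exists_ne_one.1 h1
    have hc1 : c ≠ 1 := fun e => hc1' (Subtype.ext e)
    have hcR : c ∈ R := hRRle hcm.1
    have hcc : ∀ s ∈ R, s * c = c * s := fun s hs => (mem_centralizer_iff.1 hcm.2) s hs
    have hRRlt : ⁅R, R⁆ < R := by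
      refine lt_of_le_of_ne hRRle ?_
      intro h
      have hnilR := hR.isNilpotent
      have hsolvR : Group.IsSolvable R := inferInstance
      have hntR : Nontrivial R := (nontrivial_iff_ne_bot _).2 hRb
      have h2 := Group.IsSolvable.commutator_lt_top_of_nontrivial R
      apply h2.ne
      have h3 : (commutator R).map R.subtype = ⁅R, R⁆ := Subgroup.map_subtype_commutator R
      rw [eq_top_iff]
      rintro ⟨y, hy⟩ _
      have h4 : y ∈ (commutator R).map R.subtype := by rw [h3, h]; exact hy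
      obtain ⟨y', hy', rfl⟩ := h4
      exact hy'
    have hcz : c * z = z * c := hmin _ hRRlt (le_normalizer_commutator hKR hKR) c hcm.1
    have hcf := hD c (hRD hcR) hcz
    -- [A, c] is fixed by z
    have hzf : ∀ a, z (c a * a⁻¹) = c a * a⁻¹ := by
      intro a
      have e1 := hcf a
      rw [map_mul, map_inv] at e1
      have e2 : c (z a) = z (c a) := by
        rw [← MulAut.mul_apply, hcz, MulAut.mul_apply]
      rw [e2] at e1
      have e3 : z (c a) = z a * a⁻¹ * c a := by
        rw [← e1]; group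
      rw [map_mul, map_inv, e3, hc (z a * a⁻¹ * c a) (z a)⁻¹]
      have : (z a)⁻¹ * (z a * a⁻¹ * c a) = a⁻¹ * c a := by group
      rw [this, hc]
    have hRf : ∀ s ∈ R, ∀ a, s (c a * a⁻¹) = c a * a⁻¹ := by
      intro s hs
      rw [← hR1] at hs
      have hsub : ∀ s ∈ R, ∀ a, ∃ b, s (c a * a⁻¹) = c b * b⁻¹ := by
        intro s hs a
        refine ⟨s a, ?_⟩
        rw [map_mul, map_inv, ← MulAut.mul_apply, hcc s hs, MulAut.mul_apply]
      induction hs using Subgroup.closure_induction with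
      | mem x hx =>
        obtain ⟨s, hs, y, hy, rfl⟩ := hx
        intro a
        have hyf : ∀ b, y (c b * b⁻¹) = c b * b⁻¹ := by
          intro b
          obtain ⟨m, rfl⟩ := mem_zpowers_iff.1 hy
          have : z ∈ MulAction.stabilizer (MulAut A) (c b * b⁻¹) := hzf b
          exact (MulAction.stabilizer (MulAut A) (c b * b⁻¹)).zpow_mem this m
        have hyf' : ∀ b, y⁻¹ (c b * b⁻¹) = c b * b⁻¹ := by
          intro b
          conv_lhs => rw [← hyf b]
          exact MulAut.inv_apply_self _ _ _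
        rw [commutatorElement_def, MulAut.mul_apply, MulAut.mul_apply, MulAut.mul_apply, hyf']
        obtain ⟨b, hb⟩ := hsub s⁻¹ (R.inv_mem hs) a
        rw [hb, hyf, ← hb]
        exact MulAut.apply_inv_self _ _ _
      | one => intro a; rfl
      | mul x y _ _ hx hy => intro a; rw [MulAut.mul_apply, hy, hx]
      | inv x _ hx =>
        intro a
        conv_lhs => rw [← hx a]
        exact MulAut.inv_apply_self _ _ _
    apply hc1
    ext a
    show c a = a
    obtain ⟨m, hm⟩ := hpow c hcR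
    refine unip hc h3 ⟨_, hm, hcop3 m⟩ (c := c a * a⁻¹) (by group) (hRf c hcR a)
  -- `z` inverts `R`
  have hinv : ∀ x ∈ R, z * x * z⁻¹ = x⁻¹ := by
    intro x hx
    have hx' : x ∈ ⁅R, zpowers z⁆ := by rw [hR1]; exact hx
    clear hx
    have key : x ∈ R ∧ z * x * z⁻¹ = x⁻¹ := by
      induction hx' using Subgroup.closure_induction with
      | mem x hx =>
        obtain ⟨s, hs, y, hy, rfl⟩ := hx
        have hy' : y = 1 ∨ y = z := by
          obtain ⟨m, rfl⟩ := mem_zpowers_iff.1 hy
          rcases Int.even_or_odd m with ⟨k, hk⟩ | ⟨k, hk⟩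
          · left
            rw [hk, ← two_mul, zpow_mul, zpow_two, hz, one_zpow]
          · right
            rw [hk, zpow_add, zpow_mul, zpow_two, hz, one_zpow, one_mul, zpow_one]
        have hmem : ⁅s, y⁆ ∈ R := (commutator_le_left hZR) (commutator_mem_commutator hs hy)
        refine ⟨hmem, ?_⟩
        rcases hy' with rfl | rfl
        · simp
        · rw [commutatorElement_def, hzi]
          have : y * (s * y * s⁻¹ * y) * y = y * s * y * s⁻¹ * (y * y) := by group
          rw [this, hz, mul_one]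
          rw [mul_inv_rev, mul_inv_rev, mul_inv_rev, inv_inv, hzi]
          group
      | one => exact ⟨R.one_mem, by simp⟩
      | mul x y _ _ hx hy =>
        obtain ⟨hx1, hx2⟩ := hx
        obtain ⟨hy1, hy2⟩ := hy
        refine ⟨R.mul_mem hx1 hy1, ?_⟩
        have : z * (x * y) * z⁻¹ = (z * x * z⁻¹) * (z * y * z⁻¹) := by group
        rw [this, hx2, hy2, mul_inv_rev, hab _ (R.inv_mem hx1) _ (R.inv_mem hy1)]
      | inv x _ hx =>
        obtain ⟨hx1, hx2⟩ := hx
        refine ⟨R.inv_mem hx1, ?_⟩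
        have : z * x⁻¹ * z⁻¹ = (z * x * z⁻¹)⁻¹ := by group
        rw [this, hx2]
    exact key.2
  have hirr : ∀ P : Subgroup (MulAut A), P < R → K ≤ normalizer (P : Set (MulAut A)) → P = ⊥ := by
    intro P hP hKP
    rw [eq_bot_iff]
    intro x hx
    have h1 := hmin P hP hKP x hx
    have h2 := hinv x (hP.le hx)
    rw [← h1, mul_assoc, mul_inv_cancel, mul_one] at h2
    have h3' : x ^ 2 = 1 := by rw [pow_two]; nth_rw 1 [h2]; rw [inv_mul_cancel]
    obtain ⟨m, hm⟩ := hpow x (hP.le hx)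
    have h4 := Nat.dvd_gcd (orderOf_dvd_of_pow_eq_one hm) (orderOf_dvd_of_pow_eq_one h3')
    rw [(hcop2 m).gcd_eq_one] at h4
    exact mem_bot.2 (orderOf_eq_one_iff.1 (Nat.dvd_one.1 h4))
  have hzne : ¬ (∀ x ∈ R, z * x = x * z) := by
    intro h
    apply hRb
    rw [eq_bot_iff]
    intro x hx
    have h2 := hinv x hx
    rw [h x hx, mul_assoc, mul_inv_cancel, mul_one] at h2
    have h3' : x ^ 2 = 1 := by rw [pow_two]; nth_rw 1 [h2]; rw [inv_mul_cancel]
    obtain ⟨m, hm⟩ := hpow x hx
    have h4 := Nat.dvd_gcd (orderOf_dvd_of_pow_eq_one hm) (orderOf_dvd_of_pow_eq_one h3')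
    rw [(hcop2 m).gcd_eq_one] at h4
    exact mem_bot.2 (orderOf_eq_one_iff.1 (Nat.dvd_one.1 h4))
  -- `R` is not cyclic
  have hnc : ¬ IsCyclic R := by
    rintro ⟨⟨g, hgR⟩, hg⟩
    have hg' : ∀ x ∈ R, x ∈ zpowers g := by
      intro x hx
      obtain ⟨m, hm⟩ := mem_zpowers_iff.1 (hg ⟨x, hx⟩)
      exact mem_zpowers_iff.2 ⟨m, congrArg Subtype.val hm⟩
    have hkp : ∀ k ∈ K, ∃ m : ℤ, ∀ x ∈ R, k * x * k⁻¹ = x ^ m := by
      intro k hk
      have h1 : k * g * k⁻¹ ∈ R := (mem_normalizer_iff.1 (hKR hk) g).1 hgR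
      obtain ⟨m, hm⟩ := mem_zpowers_iff.1 (hg' _ h1)
      refine ⟨m, fun x hx => ?_⟩
      obtain ⟨l, rfl⟩ := mem_zpowers_iff.1 (hg' x hx)
      rw [← conj_zpow, ← hm, ← zpow_mul, ← zpow_mul, mul_comm]
    have hle : ⁅K, K⁆ ≤ centralizer (R : Set (MulAut A)) := by
      rw [commutator_le]
      intro k hk l hl
      obtain ⟨m, hm⟩ := hkp k hk
      obtain ⟨n', hn'⟩ := hkp l hl
      rw [mem_centralizer_iff]
      intro x hx
      have hx : x ∈ R := hx
      have hswap : ∀ y ∈ R, (k * l) * y * (k * l)⁻¹ = (l * k) * y * (l * k)⁻¹ := by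
        intro y hy
        have e1 : (k * l) * y * (k * l)⁻¹ = k * (l * y * l⁻¹) * k⁻¹ := by group
        have e2 : (l * k) * y * (l * k)⁻¹ = l * (k * y * k⁻¹) * l⁻¹ := by group
        rw [e1, e2, hn' y hy, hm y hy, hm _ (R.zpow_mem hy _), hn' _ (R.zpow_mem hy _),
          ← zpow_mul, ← zpow_mul, mul_comm]
      have hy : (l * k)⁻¹ * x * (l * k) ∈ R := by
        have h1 : (l * k)⁻¹ ∈ normalizer (R : Set (MulAut A)) := hKR (K.inv_mem (K.mul_mem hl hk))
        have h2 := (mem_normalizer_iff.1 h1 x).1 hx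
        rwa [inv_inv] at h2
      have h3' := hswap _ hy
      have e3 : (l * k) * ((l * k)⁻¹ * x * (l * k)) * (l * k)⁻¹ = x := by group
      rw [e3] at h3'
      have e4 : ⁅k, l⁆ * x * ⁅k, l⁆⁻¹ = x := by
        rw [commutatorElement_def]
        calc k * l * k⁻¹ * l⁻¹ * x * (k * l * k⁻¹ * l⁻¹)⁻¹
            = (k * l) * ((l * k)⁻¹ * x * (l * k)) * (k * l)⁻¹ := by group
          _ = x := h3'
      rw [mul_inv_eq_iff_eq_mul] at e4
      exact e4.symm
    apply hzne
    intro x hx
    exact ((mem_centralizer_iff.1 (hle hzK)) x hx).symm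
  -- all fixed points are fixed by everything
  have hkey : ∀ e ∈ R, e ≠ 1 → ∀ a, e a = a → ∀ s ∈ R, s a = a := by
    intro e he he1
    have hi : ∀ b, e b = b → z b = b → ∀ s ∈ R, s b = b := by
      intro b hb hzb
      let P : Subgroup (MulAut A) := R ⊓ MulAction.stabilizer (MulAut A) b
      have hPK : K ≤ normalizer (P : Set (MulAut A)) := by
        apply le_normalizer_of_conj_mem
        intro k hk x hx
        refine ⟨(mem_normalizer_iff.1 (hKR hk) x).1 hx.1, ?_⟩
        have hxb : x b = b := hx.2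
        have h1 : k b = b := hKf k hk b hzb
        have h2 : k⁻¹ b = b := hKf _ (K.inv_mem hk) b hzb
        show k (x (k⁻¹ b)) = b
        rw [h2, hxb, h1]
      have hPR : P = R := by
        by_contra hne
        have := hirr P (lt_of_le_of_ne inf_le_left hne) hPK
        have h1 : e ∈ P := ⟨he, hb⟩
        rw [this, mem_bot] at h1
        exact he1 h1
      intro s hs
      have : s ∈ P := hPR.symm ▸ hs
      exact this.2
    have hzs : ∀ s ∈ R, ∀ a, z (s a) = s⁻¹ (z a) := by
      intro s hs a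
      have h1 := hinv s hs
      have h2 : z * s = s⁻¹ * z := by rw [← h1]; group
      rw [← MulAut.mul_apply, h2, MulAut.mul_apply]
    have hii : ∀ a, e a = a → ∀ s ∈ R, s (a * z a) = a * z a := by
      intro a ha
      apply hi
      · rw [map_mul, ha]
        have h1 := hzs e⁻¹ (R.inv_mem he) a
        have h2 : e⁻¹ a = a := by
          conv_lhs => rw [← ha]
          exact MulAut.inv_apply_self _ _ _
        rw [h2, inv_inv] at h1
        rw [← h1]
      · rw [map_mul, hzz, hc]
    have hsq : ∀ a, e a = a → ∀ s ∈ R, (s * s) a = a := by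
      intro a ha s hs
      set b := a * z a with hb
      have hsa : e (s a) = s a := by
        rw [← MulAut.mul_apply, hab e he s hs, MulAut.mul_apply, ha]
      have h1 := hii a ha
      have h2 := hii (s a) hsa
      rw [hzs s hs] at h2
      -- z a = a⁻¹ * b
      have h3' : z a = a⁻¹ * b := by rw [hb]; group
      have h4 : s⁻¹ (z a) = (s⁻¹ a)⁻¹ * b := by
        rw [h3', map_mul, map_inv, h1 _ (R.inv_mem hs)]
      rw [h4] at h2
      have h5 : ∀ t ∈ R, t (s a * (s⁻¹ a)⁻¹) = s a * (s⁻¹ a)⁻¹ := by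
        intro t ht
        have h6 := h2 t ht
        rw [← mul_assoc, map_mul, h1 t ht] at h6
        exact mul_right_cancel h6
      have h7 := h5 s hs
      rw [map_mul, map_inv, MulAut.apply_inv_self] at h7
      refine unip hc h3 (t := s * s) (c := s a * (s⁻¹ a)⁻¹) ?_ ?_ ?_
      · obtain ⟨m, hm⟩ := hpow _ (R.mul_mem hs hs)
        exact ⟨_, hm, hcop3 m⟩
      · rw [MulAut.mul_apply, ← h7]; group
      · rw [MulAut.mul_apply, h5 s hs, h5 s hs]
    intro a ha s hs
    obtain ⟨m, hm⟩ := hpow s hs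
    obtain ⟨l, hl⟩ : ∃ l, r ^ m + 1 = 2 * l := by
      have hodd : Odd (r ^ m) := (hr.out.odd_of_ne_two hr2).pow
      obtain ⟨t, ht⟩ := hodd
      exact ⟨t + 1, by omega⟩
    have h1 : s = (s * s) ^ l := by
      rw [← pow_two, ← pow_mul, ← hl, pow_add, hm, one_mul, pow_one]
    have h2 : s * s ∈ MulAction.stabilizer (MulAut A) a := hsq a ha s hs
    have h3' := (MulAction.stabilizer (MulAut A) a).pow_mem h2 l
    rw [← h1] at h3'
    exact h3'
  -- generation
  let C : Subgroup A :=
    { carrier := {a | ∀ s ∈ R, s a = a}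
      mul_mem' := by
        intro a b ha hb s hs
        rw [map_mul, ha s hs, hb s hs]
      one_mem' := by intro s hs; exact map_one s
      inv_mem' := by
        intro a ha s hs
        rw [map_inv, ha s hs] }
  have hAcard : (Nat.card R).Coprime (Nat.card A) := by
    obtain ⟨m, hm⟩ := IsPGroup.iff_card.1 hR
    rw [hm]
    have hA3 : IsPGroup 3 A := fun a => ⟨1, by rw [pow_one]; exact h3 a⟩
    obtain ⟨l, hl⟩ := (IsPGroup.iff_card (p := 3) (G := A)).1 hA3
    rw [hl]
    exact Nat.Coprime.pow_right l (hcop3 m)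
  have htop : (⊤ : Subgroup A) ≤ C :=
    H54.ExtraNine.gen_fix R hab hnc hAcard ⊤ C (fun _ _ _ _ => mem_top _)
      (fun e he he1 x _ hx s hs => hkey e he he1 x hx s hs)
  apply hRb
  rw [eq_bot_iff]
  intro s hs
  rw [mem_bot]
  ext a
  exact htop (mem_top a) s hs

end H56.BmM
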