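import Mathlib
import Cfsg.Agent.Lib.H56.BmM3
import Cfsg.Agent.Lib.H1.Solv
import Cfsg.Agent.Lib.H26.LocalFitting

set_option autoImplicit false
set_option linter.all false

namespace H56.BmM

open Subgroup Cfsg H1.Coprime H1.Coprime2
open scoped commutatorElement

universe u

theorem lemM {A : Type u} [Group A] [Finite A] (hc : ∀ a b : A, a * b = b * a)
    (h3 : ∀ a : A, a ^ 3 = 1) (D K : Subgroup (MulAut A)) (z : MulAut A) (hz : z * z = 1)
    (hzK : z ∈ ⁅K, K⁆) (hzc : ∀ k ∈ K, k * z = z * k) (hK2 : IsPGroup 2 K)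
    (hKD : K ≤ normalizer (D : Set (MulAut A))) (hKf : ∀ k ∈ K, ∀ a, z a = a → k a = a)
    (hD : ∀ x ∈ D, x * z = z * x → ∀ a, x (z a * a⁻¹) = z a * a⁻¹)
    (hO : ∀ R ≤ D, D ≤ normalizer (R : Set (MulAut A)) → IsPGroup 3 R → R = ⊥) :
    ∀ x ∈ D, x * z = z * x := by
  by_cases hz1 : z = 1
  · intro x _; rw [hz1]; simp
  have hzi : z⁻¹ = z := inv_eq_of_mul_eq_one_left hz
  have hzK' : z ∈ K := (commutator_le_self K) hzK
  have hzD : ∀ d ∈ D, z * d * z⁻¹ ∈ D := fun d hd => (mem_normalizer_iff.1 (hKD hzK') d).1 hd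
  set O := oD D with hOdef
  have hOD : O ≤ D := oD_le D
  have hcore := step2 hc h3 hz hzD hD hz1
  haveI : (pPrimeCore 2 D).Characteristic := H1.Cores.pPrimeCore_characteristic 2
  have hKO : K ≤ normalizer (O : Set (MulAut A)) :=
    hKD.trans (H26.LocalFitting.normalizer_le_normalizer_map_char D (pPrimeCore 2 D))
  have hOodd : (Nat.card O).Coprime 2 := by
    have h1 := H1.Cores.coprime_card_pPrimeCore (G := D) 2
    have h2 : Nat.card O = Nat.card (pPrimeCore 2 D) := card_map_of_injective D.subtype_injective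
    rw [h2]; exact h1
  have hKcop : (Nat.card K).Coprime (Nat.card O) := by
    obtain ⟨m, hm⟩ := IsPGroup.iff_card.1 hK2
    rw [hm]
    exact Nat.Coprime.pow_left m hOodd.symm
  have hKs : Group.IsSolvable K := by
    have : Group.IsNilpotent K := hK2.isNilpotent
    infer_instance
  have hsyl : ∀ r : ℕ, ∀ _ : Fact r.Prime, ∃ S, IsSylIn r O S ∧ K ≤ normalizer (S : Set (MulAut A)) :=
    fun r _ => exists_invariant_sylow K O hKO hKcop (Or.inl hKs) r
  haveI : Fact (Nat.Prime 3) := ⟨Nat.prime_three⟩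
  obtain ⟨S, hS, hKS⟩ := hsyl 3 inferInstance
  obtain ⟨P, hP⟩ := hS.exists_sylow
  set C := (O ⊓ centralizer ({z} : Set (MulAut A))).subgroupOf O with hC
  have hcopi : (P : Subgroup O).index.Coprime C.index := by
    by_contra hcon
    obtain ⟨r, hr, hr1, hr2⟩ := Nat.Prime.not_coprime_iff_dvd.1 hcon
    haveI : Fact r.Prime := ⟨hr⟩
    have hr3 : r ≠ 3 := by
      rintro rfl
      exact P.not_dvd_index hr1
    have hr2' : r ≠ 2 := by
      rintro rfl
      have h1 : 2 ∣ Nat.card O := hr1.trans (P : Subgroup O).index_dvd_card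
      have h2 := Nat.dvd_gcd h1 (dvd_refl 2)
      rw [hOodd.gcd_eq_one] at h2
      omega
    obtain ⟨T, hT, hKT⟩ := hsyl r inferInstance
    have h1 := step3 hc h3 hz hzK hzc hKf hD hr2' hr3 (Nat.card T) T rfl (hT.1.trans hOD)
      hT.isPGroup hKT
    obtain ⟨Q, hQ⟩ := hT.exists_sylow
    have h2 : (Q : Subgroup O) ≤ C := by
      intro x hx
      rw [hC, mem_subgroupOf]
      refine ⟨x.2, ?_⟩
      show (x : MulAut A) ∈ centralizer ({z} : Set (MulAut A))
      rw [mem_centralizer_singleton_iff]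
      have h3 : (x : MulAut A) ∈ T := by rw [← hQ]; exact ⟨x, hx, rfl⟩
      exact h1 _ h3
    exact Q.not_dvd_index (hr2.trans (index_dvd_of_le h2))
  have hOS : ∀ o ∈ O, o * z * o⁻¹ * z⁻¹ ∈ S := by
    intro o ho
    obtain ⟨s, hs, c, hcc, hsc⟩ := H1.Solv.exists_mul_of_coprime_index hcopi ⟨o, ho⟩
    have e1 : o = (s : MulAut A) * c := congrArg Subtype.val hsc
    have hsS : (s : MulAut A) ∈ S := by rw [← hP]; exact ⟨s, hs, rfl⟩
    have hcz : (c : MulAut A) * z = z * c := by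
      have h1 : (c : MulAut A) ∈ O ⊓ centralizer ({z} : Set (MulAut A)) := hcc
      exact mem_centralizer_singleton_iff.1 h1.2
    have e2 : o * z * o⁻¹ * z⁻¹ = s * (z * (s : MulAut A)⁻¹ * z⁻¹) := by
      have h1 : (c : MulAut A) * z * (c : MulAut A)⁻¹ = z := by rw [hcz]; group
      calc o * z * o⁻¹ * z⁻¹ = s * (c * z * (c : MulAut A)⁻¹) * (s : MulAut A)⁻¹ * z⁻¹ := by
            rw [e1]; group
        _ = s * (z * (s : MulAut A)⁻¹ * z⁻¹) := by rw [h1]; group
    rw [e2]
    exact S.mul_mem hsS ((mem_normalizer_iff.1 (hKS hzK') _).1 (S.inv_mem hsS))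
  have hDS : ∀ d ∈ D, d * z * d⁻¹ * z⁻¹ ∈ S := by
    intro d hd
    set t := d * z * d⁻¹ * z⁻¹ with ht
    have htO : t ∈ O := hcore d hd
    have hyy : (d * z * d⁻¹) * (d * z * d⁻¹) = 1 := by
      have : (d * z * d⁻¹) * (d * z * d⁻¹) = d * (z * z) * d⁻¹ := by group
      rw [this, hz]; group
    have hzt : z * t * z⁻¹ = t⁻¹ := by
      rw [ht]
      have e1 : (d * z * d⁻¹ * z⁻¹)⁻¹ = z * (d * z * d⁻¹)⁻¹ := by group
      rw [e1, inv_eq_of_mul_eq_one_left hyy]
      have e2 : z * (d * z * d⁻¹ * z⁻¹) * z⁻¹ = z * (d * z * d⁻¹) * (z * z)⁻¹ := by group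
      rw [e2, hz]; group
    have hodd : Odd (orderOf t) := by
      have h1 : orderOf t ∣ Nat.card O := by
        have := orderOf_dvd_natCard (⟨t, htO⟩ : O)
        rwa [Subgroup.orderOf_mk] at this
      have h2 := Nat.Coprime.coprime_dvd_left h1 hOodd
      exact Nat.coprime_two_right.1 h2
    obtain ⟨m, hm⟩ := hodd
    set o := t ^ (m + 1) with ho
    have hoO : o ∈ O := O.pow_mem htO _
    have hzo : z * o⁻¹ = o * z := by
      have : z * o * z⁻¹ = o⁻¹ := by
        rw [ho, ← conj_pow, hzt, inv_pow]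
      have h2 : z * o⁻¹ * z⁻¹ = o := by
        have h3 : z * o⁻¹ * z⁻¹ = (z * o * z⁻¹)⁻¹ := by group
        rw [h3, this, inv_inv]
      calc z * o⁻¹ = (z * o⁻¹ * z⁻¹) * z := by group
        _ = o * z := by rw [h2]
    have hoo : o * z * o⁻¹ = t * z := by
      rw [mul_assoc, hzo, ← mul_assoc, ho, ← pow_add]
      have : m + 1 + (m + 1) = orderOf t + 1 := by omega
      rw [this, pow_add, pow_orderOf_eq_one, one_mul, pow_one]
    have h1 := hOS o hoO
    rw [hoo] at h1
    simpa using h1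
  -- conclusion
  have hZD : zpowers z ≤ normalizer (D : Set (MulAut A)) := by
    rw [zpowers_le]; exact hKD hzK'
  have hcomm : ⁅D, zpowers z⁆ ≤ S := by
    rw [commutator_le]
    intro d hd y hy
    have hy' : y = 1 ∨ y = z := by
      obtain ⟨m, rfl⟩ := mem_zpowers_iff.1 hy
      rcases Int.even_or_odd m with ⟨k, hk⟩ | ⟨k, hk⟩
      · left
        rw [hk, ← two_mul, zpow_mul, zpow_two, hz, one_zpow]
      · right
        rw [hk, zpow_add, zpow_mul, zpow_two, hz, one_zpow, one_mul, zpow_one]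
    rcases hy' with rfl | rfl
    · simp [S.one_mem]
    · exact hDS d hd
  have h1 := hO ⁅D, zpowers z⁆ (commutator_le_left hZD) (le_normalizer_commutator_left _ _)
    (hS.isPGroup.to_le hcomm)
  intro x hx
  exact H26.Basic.commute_of_commutator_eq_bot h1 hx (mem_zpowers z)

end H56.BmM
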