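import Mathlib

set_option autoImplicit false
set_option linter.all false

namespace H56.Al

open Equiv Equiv.Perm

section Fin
variable {α : Type*} [Finite α]

/-- cyclicity on `s` only depends on the restriction to `s`. -/
theorem cyc_congr {f g : Perm α} {s : Set α} (hf : f.IsCycleOn s) (h : ∀ x ∈ s, g x = f x) :
    g.IsCycleOn s := by
  have hpow : ∀ x ∈ s, ∀ n : ℕ, (g ^ n) x = (f ^ n) x ∧ (f ^ n) x ∈ s := by
    intro x hx n
    induction n with
    | zero => simp [hx]
    | succ n ih =>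
      rw [pow_succ', pow_succ', Perm.mul_apply, Perm.mul_apply, ih.1, h _ ih.2]
      exact ⟨rfl, (hf.apply_mem_iff).2 ih.2⟩
  refine ⟨hf.1.congr (fun x hx => (h x hx).symm), ?_⟩
  intro x hx y hy
  obtain ⟨n, hn⟩ := (hf.2 hx hy).exists_nat_pow_eq
  exact ⟨n, by rw [zpow_natCast, (hpow x hx n).1, hn]⟩

/-- an invariant set is mapped bijectively. -/
theorem bij_of {g : Perm α} {s : Set α} (hm : ∀ y ∈ s, g y ∈ s) : Set.BijOn g s s := by
  have h1 : g '' s ⊆ s := by rintro _ ⟨y, hy, rfl⟩; exact hm y hy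
  have h2 : g '' s = s := Set.eq_of_subset_of_ncard_le h1
    (by rw [Set.ncard_image_of_injective _ g.injective]) (Set.toFinite s)
  exact ⟨hm, g.injective.injOn, h2.symm.subset⟩

/-- criterion: `g` maps `s` into `s` and everything in `s` is in the cycle of `x`. -/
theorem cyc_of {g : Perm α} {s : Set α} (x : α) (hm : ∀ y ∈ s, g y ∈ s)
    (h : ∀ y ∈ s, g.SameCycle x y) : g.IsCycleOn s :=
  ⟨bij_of hm, fun y hy z hz => (h y hy).symm.trans (h z hz)⟩

theorem inv_mem {g : Perm α} {s : Set α} (hm : ∀ y ∈ s, g y ∈ s) {y : α} (hy : y ∈ s) :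
    g⁻¹ y ∈ s := by
  obtain ⟨z, hz, hzy⟩ := (bij_of hm).2.2 hy
  rw [← hzy]; simpa using hz

/-- the cycle of a point. -/
theorem cyc_self (u : Perm α) (x : α) : u.IsCycleOn {y | u.SameCycle x y} := by
  refine cyc_of x ?_ (fun y hy => hy)
  intro y hy
  exact (sameCycle_apply_right).2 hy

variable [DecidableEq α]

/-- merging two cycles by a transposition. -/
theorem merge {g : Perm α} {A B : Set α} (hA : g.IsCycleOn A) (hB : g.IsCycleOn B)
    (hd : Disjoint A B) {x z : α} (hx : x ∈ A) (hz : z ∈ B) :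
    (g * swap x z).IsCycleOn (A ∪ B) := by
  have hxz : x ≠ z := fun h => Set.disjoint_left.1 hd hx (h ▸ hz)
  set h := g * swap x z with hh
  have h1 : h x = g z := by rw [hh, Perm.mul_apply, swap_apply_left]
  have h2 : h z = g x := by rw [hh, Perm.mul_apply, swap_apply_right]
  have h3 : ∀ y, y ≠ x → y ≠ z → h y = g y := fun y hy hy' => by
    rw [hh, Perm.mul_apply, swap_apply_of_ne_of_ne hy hy']
  have hAm : ∀ y ∈ A, g y ∈ A := fun y hy => hA.apply_mem_iff.2 hy
  have hBm : ∀ y ∈ B, g y ∈ B := fun y hy => hB.apply_mem_iff.2 hy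
  have hT : ∀ n : ℕ, h.SameCycle x ((g⁻¹ ^ n) x) ∧ (g⁻¹ ^ n) x ∈ A := by
    intro n
    induction n with
    | zero => exact ⟨SameCycle.refl _ _, hx⟩
    | succ n ih =>
      rw [pow_succ', Perm.mul_apply]
      have hmem : g⁻¹ ((g⁻¹ ^ n) x) ∈ A := inv_mem hAm ih.2
      refine ⟨?_, hmem⟩
      by_cases hc : g⁻¹ ((g⁻¹ ^ n) x) = x
      · rw [hc]
      · have hne : g⁻¹ ((g⁻¹ ^ n) x) ≠ z := fun e => Set.disjoint_left.1 hd hmem (e ▸ hz)
        have := h3 _ hc hne
        rw [show g (g⁻¹ ((g⁻¹ ^ n) x)) = (g⁻¹ ^ n) x from g.apply_symm_apply _] at this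
        rw [← sameCycle_apply_right, this]
        exact ih.1
  have hTA : ∀ y ∈ A, h.SameCycle x y := by
    intro y hy
    obtain ⟨n, hn⟩ := ((hA.2 hx hy).inv).exists_nat_pow_eq
    rw [← hn]; exact (hT n).1
  have hz' : h.SameCycle x z := by
    rw [← sameCycle_apply_right, h2]
    exact hTA _ (hAm x hx)
  have hT' : ∀ n : ℕ, h.SameCycle x ((g⁻¹ ^ n) z) ∧ (g⁻¹ ^ n) z ∈ B := by
    intro n
    induction n with
    | zero => exact ⟨hz', hz⟩
    | succ n ih =>
      rw [pow_succ', Perm.mul_apply]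
      have hmem : g⁻¹ ((g⁻¹ ^ n) z) ∈ B := inv_mem hBm ih.2
      refine ⟨?_, hmem⟩
      by_cases hc : g⁻¹ ((g⁻¹ ^ n) z) = z
      · rw [hc]; exact hz'
      · have hne : g⁻¹ ((g⁻¹ ^ n) z) ≠ x := fun e => Set.disjoint_right.1 hd hmem (e ▸ hx)
        have := h3 _ hne hc
        rw [show g (g⁻¹ ((g⁻¹ ^ n) z)) = (g⁻¹ ^ n) z from g.apply_symm_apply _] at this
        rw [← sameCycle_apply_right, this]
        exact ih.1
  have hTB : ∀ y ∈ B, h.SameCycle x y := by
    intro y hy
    obtain ⟨n, hn⟩ := ((hB.2 hz hy).inv).exists_nat_pow_eq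
    rw [← hn]; exact (hT' n).1
  refine cyc_of x ?_ ?_
  · rintro y (hy | hy)
    · by_cases hyx : y = x
      · subst hyx; rw [h1]; exact Or.inr (hBm _ hz)
      · have hne : y ≠ z := fun e => Set.disjoint_left.1 hd hy (e ▸ hz)
        rw [h3 y hyx hne]; exact Or.inl (hAm _ hy)
    · by_cases hyz : y = z
      · subst hyz; rw [h2]; exact Or.inl (hAm _ hx)
      · have hne : y ≠ x := fun e => Set.disjoint_right.1 hd hy (e ▸ hx)
        rw [h3 y hne hyz]; exact Or.inr (hBm _ hy)
  · rintro y (hy | hy)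
    exacts [hTA y hy, hTB y hy]

/-- the same with the transposition on the left. -/
theorem merge' {g : Perm α} {A B : Set α} (hA : g.IsCycleOn A) (hB : g.IsCycleOn B)
    (hd : Disjoint A B) {x z : α} (hx : x ∈ A) (hz : z ∈ B) :
    (swap x z * g).IsCycleOn (A ∪ B) := by
  have := merge hA.inv hB.inv hd hx hz
  rw [← isCycleOn_inv] at this
  simpa [mul_inv_rev] using this

/-- removing a point from a cycle. -/
theorem split {g : Perm α} {A : Set α} (hA : g.IsCycleOn A) {x : α} (hx : x ∈ A) :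
    (swap x (g x) * g).IsCycleOn (A \ {x}) := by
  set h := swap x (g x) * g with hh
  have hAm : ∀ y ∈ A, g y ∈ A := fun y hy => hA.apply_mem_iff.2 hy
  have h1 : h x = x := by rw [hh, Perm.mul_apply, swap_apply_right]
  have h2 : ∀ y, y ≠ x → g y = x → h y = g x := fun y hy hy' => by
    rw [hh, Perm.mul_apply, hy', swap_apply_left]
  have h3 : ∀ y, y ≠ x → g y ≠ x → h y = g y := fun y hy hy' => by
    rw [hh, Perm.mul_apply, swap_apply_of_ne_of_ne hy' (fun e => hy (g.injective e))]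
  have hT : ∀ n : ℕ, (h.SameCycle (g x) ((g ^ n) (g x)) ∨ (g ^ n) (g x) = x) := by
    intro n
    induction n with
    | zero => left; exact SameCycle.refl _ _
    | succ n ih =>
      rw [pow_succ', Perm.mul_apply]
      rcases ih with ih | ih
      · by_cases hc : (g ^ n) (g x) = x
        · left; rw [hc]
        · by_cases hc' : g ((g ^ n) (g x)) = x
          · right; exact hc'
          · left
            rw [← h3 _ hc hc', sameCycle_apply_right]; exact ih
      · left; rw [ih]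
  refine cyc_of (g x) ?_ ?_
  · rintro y ⟨hy, hyx⟩
    have hyx : y ≠ x := hyx
    by_cases hc : g y = x
    · rw [h2 y hyx hc]
      exact ⟨hAm _ hx, fun e => hyx (g.injective (hc.trans (Eq.symm e)))⟩
    · rw [h3 y hyx hc]
      exact ⟨hAm _ hy, hc⟩
  · rintro y ⟨hy, hyx⟩
    have hyx : y ≠ x := hyx
    obtain ⟨n, hn⟩ := ((hA.2 (hAm _ hx) hy)).exists_nat_pow_eq
    rcases hT n with h' | h'
    · rw [← hn]; exact h'
    · exact absurd (hn.symm.trans h') hyx

/-- the square of a cycle of odd length. -/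
theorem sq {g : Perm α} {A : Finset α} (hA : g.IsCycleOn A) (ho : Odd A.card) :
    (g ^ 2).IsCycleOn A := by
  have hAm : ∀ y ∈ (A : Set α), g y ∈ (A : Set α) := fun y hy => hA.apply_mem_iff.2 hy
  refine ⟨bij_of ?_, ?_⟩
  · intro y hy
    rw [pow_two, Perm.mul_apply]; exact hAm _ (hAm _ hy)
  · intro x hx y hy
    obtain ⟨n, hn⟩ := ((hA.2 hx hy)).exists_nat_pow_eq
    obtain ⟨m, hm⟩ := ho
    have hc := hA.pow_card_apply hx
    have hy2 : (g ^ (n + n * A.card)) x = y := by
      rw [pow_add, Perm.mul_apply, mul_comm n, pow_mul, ← hn]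
      have : ∀ k : ℕ, ((g ^ A.card) ^ k) x = x := by
        intro k
        induction k with
        | zero => simp
        | succ k ih => rw [pow_succ, Perm.mul_apply, hc, ih]
      rw [this]
    refine ⟨((n * (m + 1) : ℕ) : ℤ), ?_⟩
    rw [zpow_natCast, ← pow_mul]
    have : 2 * (n * (m + 1)) = n + n * A.card := by rw [hm]; ring
    rw [this]; exact hy2

end Fin

end H56.Al
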