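import Mathlib
import Cfsg.Agent.Lib.H56.Al1

set_option autoImplicit false
set_option linter.all false

namespace H56.Al

open Equiv Equiv.Perm
open scoped commutatorElement

/-- a nontrivial solvable group has a nontrivial abelian normal subgroup. -/
theorem exists_ab {G : Type*} [Group G] [Nontrivial G] (hs : Group.IsSolvable G) :
    ∃ N : Subgroup G, N.Normal ∧ N ≠ ⊥ ∧ ∀ x ∈ N, ∀ y ∈ N, x * y = y * x := by
  classical
  have hex : ∃ n, derivedSeries G n = ⊥ := hs.solvable
  have hn := Nat.find_spec hex
  rcases hc : Nat.find hex with _ | m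
  · rw [hc, derivedSeries_zero] at hn
    exact absurd hn top_ne_bot
  · have hm : derivedSeries G m ≠ ⊥ := Nat.find_min hex (by omega)
    refine ⟨derivedSeries G m, inferInstance, hm, ?_⟩
    intro x hx y hy
    rw [hc, derivedSeries_succ] at hn
    have : ⁅x, y⁆ ∈ (⊥ : Subgroup G) := hn ▸ Subgroup.commutator_mem_commutator hx hy
    exact commutatorElement_eq_one_iff_mul_comm.1 (Subgroup.mem_bot.1 this)

/-- a transitive group of odd degree `≥ 5` with an element fixing exactly two points and
transitive on the others is not solvable. -/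
theorem ns {G X : Type*} [Group G] [Finite G] [Finite X] [MulAction G X] [FaithfulSMul G X]
    [MulAction.IsPretransitive G X] (hodd : Odd (Nat.card X)) (h5 : 5 ≤ Nat.card X)
    (v : G) (a a' : X) (haa : a ≠ a') (ha : v • a = a) (ha' : v • a' = a')
    (hv : ∀ x y, x ≠ a → x ≠ a' → y ≠ a → y ≠ a' → ∃ k : ℤ, v ^ k • x = y) :
    ¬ Group.IsSolvable G := by
  intro hs
  haveI : Nontrivial X := ⟨⟨a, a', haa⟩⟩
  haveI : Nontrivial G := by
    obtain ⟨g, hg⟩ := MulAction.exists_smul_eq G a a'
    exact ⟨⟨g, 1, fun e => haa (by rw [← hg, e, one_smul])⟩⟩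
  obtain ⟨N, hN, hN1, hab⟩ := exists_ab hs
  haveI := hN
  have hblk : MulAction.IsBlock G (MulAction.orbit N a) := MulAction.IsBlock.orbit_of_normal a
  have hdvd : (MulAction.orbit N a).ncard ∣ Nat.card X :=
    hblk.ncard_dvd_card ⟨a, MulAction.mem_orbit_self a⟩
  -- the orbit is invariant under v
  have hvk : ∀ k : ℤ, v ^ k • a = a := by
    intro k
    have h1 : v ∈ MulAction.stabilizer G a := ha
    exact (MulAction.stabilizer G a).zpow_mem h1 k
  have hvk' : ∀ k : ℤ, v ^ k • a' = a' := by
    intro k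
    have h1 : v ∈ MulAction.stabilizer G a' := ha'
    exact (MulAction.stabilizer G a').zpow_mem h1 k
  have hinv : ∀ (k : ℤ) (x : X), x ∈ MulAction.orbit N a → v ^ k • x ∈ MulAction.orbit N a := by
    rintro k _ ⟨n, rfl⟩
    refine ⟨⟨v ^ k * n * (v ^ k)⁻¹, hN.conj_mem _ n.2 _⟩, ?_⟩
    show (v ^ k * n * (v ^ k)⁻¹) • a = v ^ k • (n : G) • a
    rw [mul_smul, mul_smul, ← zpow_neg, hvk]
  -- the orbit is not a singleton
  have hne : ∃ x ∈ MulAction.orbit N a, x ≠ a := by
    by_contra hcon
    push Not at hcon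
    apply hN1
    rw [eq_bot_iff]
    intro n hn
    rw [Subgroup.mem_bot]
    refine FaithfulSMul.eq_of_smul_eq_smul (α := X) (fun x => ?_)
    obtain ⟨g, rfl⟩ := MulAction.exists_smul_eq G a x
    have h1 : (g⁻¹ * n * g) ∈ N := by simpa using hN.conj_mem n hn g⁻¹
    have h2 := hcon _ ⟨⟨_, h1⟩, rfl⟩
    have h3 : (g⁻¹ * n * g) • a = a := h2
    rw [one_smul]
    calc n • g • a = g • ((g⁻¹ * n * g) • a) := by
          rw [← mul_smul, ← mul_smul]; congr 1; group
      _ = g • a := by rw [h3]
  -- the orbit is everything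
  have hall : ∀ x, x ∈ MulAction.orbit N a := by
    have hfin : ∀ S : Set X, S.Finite := fun S => Set.toFinite S
    by_cases hex : ∃ x ∈ MulAction.orbit N a, x ≠ a ∧ x ≠ a'
    · obtain ⟨x, hx, hxa, hxa'⟩ := hex
      have h1 : ∀ y, y ≠ a' → y ∈ MulAction.orbit N a := by
        intro y hy
        by_cases hya : y = a
        · rw [hya]; exact MulAction.mem_orbit_self a
        · obtain ⟨k, hk⟩ := hv x y hxa hxa' hya hy
          rw [← hk]; exact hinv k x hx
      by_contra hcon
      push Not at hcon
      obtain ⟨y, hy⟩ := hcon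
      have hya : y = a' := by by_contra h; exact hy (h1 y h)
      subst hya
      have h2 : MulAction.orbit N a = {y}ᶜ := by
        ext z
        refine ⟨fun hz e => hy (by rw [← show z = y from e]; exact hz), fun hz => h1 z hz⟩
      have h3 : (MulAction.orbit N a).ncard = Nat.card X - 1 := by
        rw [h2, Set.ncard_compl, Set.ncard_singleton]
      rw [h3] at hdvd
      have h4 := (Nat.dvd_sub hdvd (dvd_refl (Nat.card X - 1)))
      rw [Nat.sub_sub_self (by omega)] at h4
      have := Nat.le_of_dvd one_pos h4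
      omega
    · push Not at hex
      obtain ⟨x, hx, hxa⟩ := hne
      have hxa' := hex x hx hxa
      subst hxa'
      have h2 : MulAction.orbit N a = {a, x} := by
        ext z
        constructor
        · intro hz
          by_cases hza : z = a
          · left; exact hza
          · right; exact hex z hz hza
        · rintro (rfl | rfl)
          · exact MulAction.mem_orbit_self _
          · exact hx
      rw [h2, Set.ncard_pair haa] at hdvd
      obtain ⟨m, hm⟩ := hodd
      omega
  -- N is regular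
  have hreg : ∀ n ∈ N, ∀ x : X, n • x = x → n = 1 := by
    intro n hn x hx
    refine FaithfulSMul.eq_of_smul_eq_smul (α := X) (fun y => ?_)
    obtain ⟨m, hm⟩ := hall x
    obtain ⟨k, hk⟩ := hall y
    have hm : (m : G) • a = x := hm
    have hk : (k : G) • a = y := hk
    have hna : n • a = a := by
      have h1 : n • (m : G) • a = (m : G) • a := by rw [hm]; exact hx
      rw [← mul_smul, hab n hn m m.2, mul_smul] at h1
      exact smul_left_cancel _ h1
    rw [one_smul, ← hk, ← mul_smul, hab n hn k k.2, mul_smul, hna]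
  -- count
  have hcard : Nat.card N = Nat.card X := by
    refine Nat.card_congr (Equiv.ofBijective (fun n : N => (n : G) • a) ⟨?_, ?_⟩)
    · intro n m hnm
      have hnm : (n : G) • a = (m : G) • a := hnm
      have h1 : ((m : G)⁻¹ * n) • a = a := by rw [mul_smul, hnm, inv_smul_smul]
      have h2 := hreg _ (N.mul_mem (N.inv_mem m.2) n.2) a h1
      exact Subtype.ext (inv_mul_eq_one.1 h2).symm
    · intro x
      obtain ⟨n, hn⟩ := hall x
      exact ⟨n, hn⟩
  -- the element moving a to a'
  obtain ⟨n, hn⟩ := hall a'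
  have hn : (n : G) • a = a' := hn
  have hn1 : (n : G) ≠ 1 := fun e => haa (by rw [← hn, e, one_smul])
  have hcomm : v * n * v⁻¹ = n := by
    have hmem : v * n * v⁻¹ ∈ N := hN.conj_mem _ n.2 _
    have h1 : ((n : G)⁻¹ * (v * n * v⁻¹)) • a = a := by
      rw [mul_smul, mul_smul, mul_smul, inv_smul_eq_iff.2 ha.symm, hn, ha', ← hn, inv_smul_smul]
    exact (inv_mul_eq_one.1 (hreg _ (N.mul_mem (N.inv_mem n.2) hmem) a h1)).symm
  -- n² fixes a
  have hn2 : ((n : G) * n) • a = a ∨ ((n : G) * n) • a = a' := by
    by_contra hcon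
    push Not at hcon
    obtain ⟨w, hwa, hwa', hwn⟩ : ∃ w : X, w ≠ a ∧ w ≠ a' ∧ w ≠ ((n : G) * n) • a := by
      by_contra hc
      push Not at hc
      have hsub : (Set.univ : Set X) ⊆ {a, a', ((n : G) * n) • a} := by
        intro w _
        by_cases h1 : w = a
        · left; exact h1
        · by_cases h2 : w = a'
          · right; left; exact h2
          · right; right; exact hc w h1 h2
      have h1 := Set.ncard_le_ncard hsub (Set.toFinite _)
      rw [Set.ncard_univ] at h1
      have h2 : ({a, a', ((n : G) * n) • a} : Set X).ncard ≤ 3 := by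
        refine (Set.ncard_insert_le _ _).trans ?_
        have := Set.ncard_insert_le a' ({((n : G) * n) • a} : Set X)
        rw [Set.ncard_singleton] at this
        omega
      omega
    obtain ⟨k, hk⟩ := hv _ w hcon.1 hcon.2 hwa hwa'
    have hc2 : Commute v (n : G) := by
      have := hcomm
      rw [mul_inv_eq_iff_eq_mul] at this
      exact this
    have hc3 : Commute (v ^ k) ((n : G) * n) := (hc2.zpow_left k).mul_right (hc2.zpow_left k)
    apply hwn
    rw [← hk, ← mul_smul, hc3.eq, mul_smul, hvk]
  have hn22 : (n : G) * n = 1 := by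
    rcases hn2 with h | h
    · exact hreg _ (N.mul_mem n.2 n.2) a h
    · exfalso
      rw [mul_smul, hn, ← hn] at h
      have h3 : (n : G) • ((n : G) • a) = (n : G) • a := h
      have := smul_left_cancel _ h3
      exact haa (by rw [← hn]; exact this.symm)
  have hord : orderOf (n : N) = 2 := by
    apply orderOf_eq_prime
    · ext; rw [pow_two]; exact hn22
    · intro e; exact hn1 (by rw [e]; rfl)
  have h2 : 2 ∣ Nat.card N := hord ▸ orderOf_dvd_natCard n
  rw [hcard] at h2
  obtain ⟨m, hm⟩ := hodd
  omega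

/-- the property wanted for a pair of permutations. -/
def Good (p : ℕ) {α : Type*} (u w : Perm α) : Prop :=
  (¬ ∃ k : ℕ, orderOf (u * w) = p ^ k) ∧
    ¬ Group.IsSolvable ↥(Subgroup.closure ({u, w} : Set (Perm α)))

theorem Good.symm {p : ℕ} {α : Type*} {u w : Perm α} (h : Good p u w) : Good p w u := by
  refine ⟨?_, ?_⟩
  · have h1 : orderOf (w * u) = orderOf (u * w) := by
      have : w * u = MulAut.conj u⁻¹ (u * w) := by
        rw [MulAut.conj_apply]; group
      rw [this, MulEquiv.orderOf_eq]
    rw [h1]; exact h.1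
  · rw [Set.pair_comm]; exact h.2

/-- goodness can be checked on an invariant subset. -/
theorem good_of_embed {p : ℕ} {α β : Type*} (ι : β → α) (hι : Function.Injective ι)
    {U W : Perm β} {u w : Perm α} (hu : ∀ i, u (ι i) = ι (U i)) (hw : ∀ i, w (ι i) = ι (W i))
    (hg : Good p U W) (hp : p.Prime) : Good p u w := by
  constructor
  · rintro ⟨k, hk⟩
    have h1 : (u * w) ^ (p ^ k) = 1 := hk ▸ pow_orderOf_eq_one _
    have h2 : ∀ (n : ℕ) (i : β), ((u * w) ^ n) (ι i) = ι (((U * W) ^ n) i) := by
      intro n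
      induction n with
      | zero => intro i; rfl
      | succ n ih =>
        intro i
        rw [pow_succ, pow_succ, Perm.mul_apply, Perm.mul_apply, Perm.mul_apply, Perm.mul_apply,
          hw, hu, ih]
    have h3 : (U * W) ^ (p ^ k) = 1 := by
      ext i
      apply hι
      rw [← h2, h1]; rfl
    obtain ⟨j, _, hj⟩ := (Nat.dvd_prime_pow hp).1 (orderOf_dvd_of_pow_eq_one h3)
    exact hg.1 ⟨j, hj⟩
  · intro hs
    apply hg.2
    set P : Subgroup (Perm α × Perm β) := Subgroup.closure {(u, U), (w, W)} with hP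
    have hPe : ∀ q ∈ P, ∀ i, q.1 (ι i) = ι (q.2 i) := by
      intro q hq
      induction hq using Subgroup.closure_induction with
      | mem x hx =>
        rcases hx with rfl | rfl
        · exact hu
        · exact hw
      | one => intro i; rfl
      | mul x y _ _ hx hy =>
        intro i
        rw [Prod.fst_mul, Prod.snd_mul, Perm.mul_apply, Perm.mul_apply, hy, hx]
      | inv x _ hx =>
        intro i
        rw [Prod.fst_inv, Prod.snd_inv, Perm.inv_eq_iff_eq, hx]
        exact congrArg ι (x.2.apply_symm_apply i).symm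
    have h1 : P.map (MonoidHom.fst _ _) = Subgroup.closure {u, w} := by
      rw [hP, MonoidHom.map_closure, Set.image_pair]; rfl
    have h2 : P.map (MonoidHom.snd _ _) = Subgroup.closure {U, W} := by
      rw [hP, MonoidHom.map_closure, Set.image_pair]; rfl
    have hPs : Group.IsSolvable P := by
      let f : P →* (P.map (MonoidHom.fst (Perm α) (Perm β))) :=
        ((MonoidHom.fst (Perm α) (Perm β)).subgroupMap P)
      have hf : Function.Injective f := by
        rw [injective_iff_map_eq_one]
        rintro ⟨q, hq⟩ h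
        have h' : q.1 = 1 := congrArg Subtype.val h
        have h'' : q.2 = 1 := by
          ext i
          apply hι
          rw [← hPe q hq, h']; rfl
        exact Subtype.ext (Prod.ext h' h'')
      rw [← h1] at hs
      haveI := hs
      exact solvable_of_solvable_injective hf
    rw [← h2]
    haveI := hPs
    exact solvable_of_surjective ((MonoidHom.snd (Perm α) (Perm β)).subgroupMap_surjective P)

/-- simultaneous conjugation. -/
theorem Good.conj {p : ℕ} (hp : p.Prime) {α : Type*} {u w : Perm α} (h : Good p u w)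
    (g : Perm α) : Good p (g * u * g⁻¹) (g * w * g⁻¹) := by
  refine good_of_embed (fun i => g i) g.injective (fun i => ?_) (fun i => ?_) h hp
  · simp
  · simp

/-- a good pair from a set on which the group acts as in `ns`. -/
theorem good_ns {p : ℕ} (hp : p.Prime) {β : Type*} [Finite β] (u c : Perm β)
    (hodd : Odd (Nat.card β)) (h5 : 5 ≤ Nat.card β) (hpd : ∃ k, Nat.card β = p ^ k)
    (hc : ∀ x y, c.SameCycle x y) (a a' : β) (haa : a ≠ a') (ha : (u * c) a = a)
    (ha' : (u * c) a' = a')
    (hv : ∀ x y, x ≠ a → x ≠ a' → y ≠ a → y ≠ a' → (u * c).SameCycle x y) : Good p u c := by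
  classical
  haveI := Fintype.ofFinite β
  constructor
  · rintro ⟨j, hj⟩
    set S : Finset β := Finset.univ \ {a, a'} with hS
    have hmem : ∀ x, x ∈ (S : Set β) ↔ x ≠ a ∧ x ≠ a' := by
      intro x; simp [hS]
    have hcard : S.card = Nat.card β - 2 := by
      rw [hS, Finset.card_sdiff_of_subset (Finset.subset_univ _), Finset.card_pair haa,
        Finset.card_univ, Nat.card_eq_fintype_card]
    obtain ⟨x0, hx0⟩ : S.Nonempty := Finset.card_pos.1 (by omega)
    have hx0' := (hmem x0).1 hx0
    have hcyc : (u * c).IsCycleOn (S : Set β) := by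
      refine cyc_of x0 ?_ ?_
      · intro y hy
        rw [hmem] at hy ⊢
        exact ⟨fun e => hy.1 ((u * c).injective (e.trans ha.symm)),
          fun e => hy.2 ((u * c).injective (e.trans ha'.symm))⟩
      · intro y hy
        rw [hmem] at hy
        exact hv _ _ hx0'.1 hx0'.2 hy.1 hy.2
    have h1 : ((u * c) ^ (p ^ j)) x0 = x0 := by
      rw [← hj, pow_orderOf_eq_one]; rfl
    have h2 := (hcyc.pow_apply_eq hx0).1 h1
    rw [hcard] at h2
    obtain ⟨k, hk⟩ := hpd
    have hk0 : k ≠ 0 := by rintro rfl; rw [pow_zero] at hk; omega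
    obtain ⟨i, _, hi⟩ := (Nat.dvd_prime_pow hp).1 h2
    have hi0 : i ≠ 0 := by rintro rfl; rw [pow_zero] at hi; omega
    have hp1 : p ∣ Nat.card β := hk ▸ dvd_pow_self p hk0
    have hp2 : p ∣ Nat.card β - 2 := hi ▸ dvd_pow_self p hi0
    have hp3 : p ∣ 2 := by
      have := Nat.dvd_sub hp1 hp2
      rwa [Nat.sub_sub_self (by omega)] at this
    have hp4 : p = 2 := (Nat.prime_dvd_prime_iff_eq hp Nat.prime_two).1 hp3
    rw [hp4] at hp1
    obtain ⟨m, hm⟩ := hodd
    omega
  · set K := Subgroup.closure ({u, c} : Set (Perm β)) with hK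
    have huK : u ∈ K := Subgroup.subset_closure (by simp)
    have hcK : c ∈ K := Subgroup.subset_closure (by simp)
    haveI : MulAction.IsPretransitive K β := by
      constructor
      intro x y
      obtain ⟨k, hk⟩ := hc x y
      exact ⟨⟨c ^ k, K.zpow_mem hcK k⟩, hk⟩
    refine ns (G := K) hodd h5 ⟨u * c, K.mul_mem huK hcK⟩ a a' haa ha ha' ?_
    intro x y h1 h2 h3 h4
    obtain ⟨k, hk⟩ := hv x y h1 h2 h3 h4
    exact ⟨k, hk⟩

/-- the data used for `u`: `c` is a cycle with support `M` (a `u`-invariant set) such that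
`u * c` fixes exactly two points of `M` and is transitive on the others. -/
structure Dat {α : Type*} (u c : Perm α) (M : Finset α) (a a' : α) : Prop where
  inv : ∀ x ∈ M, u x ∈ M
  cyc : c.IsCycleOn (M : Set α)
  out : ∀ x, x ∉ M → c x = x
  ma : a ∈ M
  ma' : a' ∈ M
  ne : a ≠ a'
  fa : (u * c) a = a
  fa' : (u * c) a' = a'
  cyc' : (u * c).IsCycleOn ((M : Set α) \ {a, a'})

theorem Dat.good {p : ℕ} (hp : p.Prime) (hp2 : Odd p) {α : Type*} [Finite α] {u c : Perm α}
    {M : Finset α} {a a' : α} (h : Dat u c M a a') (h5 : 5 ≤ M.card) (hpd : ∃ k, M.card = p ^ k)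
    {w : Perm α} (hw : ∀ x ∈ M, w x = c x) : Good p u w := by
  classical
  have hcm : ∀ x ∈ M, c x ∈ M := fun x hx => (h.cyc.apply_mem_iff).2 hx
  have hu : ∀ x, x ∈ M ↔ u x ∈ M := by
    intro x
    refine ⟨h.inv x, fun hx => ?_⟩
    have := inv_mem (g := u) (s := (M : Set α)) h.inv hx
    simpa using this
  have hc : ∀ x, x ∈ M ↔ c x ∈ M := fun x => (h.cyc.apply_mem_iff).symm
  have huc : ∀ x, x ∈ M ↔ (u * c) x ∈ M := fun x => (hc x).trans (hu _)
  refine good_of_embed (β := {x // x ∈ M}) Subtype.val Subtype.val_injective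
    (U := u.subtypePerm (fun x => (hu x).symm)) (W := c.subtypePerm (fun x => (hc x).symm))
    (fun i => rfl) (fun i => hw i i.2) ?_ hp
  have hcard : Nat.card {x // x ∈ M} = M.card := by
    rw [Nat.card_eq_fintype_card, Fintype.card_coe]
  have hmul : u.subtypePerm (fun x => (hu x).symm) * c.subtypePerm (fun x => (hc x).symm) =
      (u * c).subtypePerm (fun x => (huc x).symm) := by
    ext i; rfl
  refine good_ns hp _ _ ?_ (by rw [hcard]; exact h5) (by rw [hcard]; exact hpd) ?_ ⟨a, h.ma⟩
    ⟨a', h.ma'⟩ (fun e => h.ne (congrArg Subtype.val e)) ?_ ?_ ?_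
  · rw [hcard]
    obtain ⟨k, hk⟩ := hpd
    rw [hk]; exact hp2.pow
  · intro x y
    rw [sameCycle_subtypePerm]
    exact h.cyc.2 x.2 y.2
  · apply Subtype.ext; exact h.fa
  · apply Subtype.ext; exact h.fa'
  · intro x y h1 h2 h3 h4
    rw [hmul, sameCycle_subtypePerm]
    refine h.cyc'.2 ⟨x.2, ?_⟩ ⟨y.2, ?_⟩
    · rintro (e | e)
      · exact h1 (Subtype.ext e)
      · exact h2 (Subtype.ext e)
    · rintro (e | e)
      · exact h3 (Subtype.ext e)
      · exact h4 (Subtype.ext e)

end H56.Al
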