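import Mathlib
import Cfsg.Agent.Lib.H56.Al2

set_option autoImplicit false
set_option linter.all false

namespace H56.Al

open Equiv Equiv.Perm

variable {α : Type*} [Fintype α] [DecidableEq α]

/-- restriction of `u` to a cycle. -/
theorem exists_restr {u : Perm α} {O : Set α} (hO : u.IsCycleOn O) :
    ∃ d : Perm α, (∀ x ∈ O, d x = u x) ∧ (∀ x, x ∉ O → d x = x) := by
  classical
  by_cases hne : O.Nonempty
  · obtain ⟨z, hz⟩ := hne
    have hmem : ∀ y, u.SameCycle z y ↔ y ∈ O := by
      intro y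
      refine ⟨?_, fun hy => hO.2 hz hy⟩
      intro h
      obtain ⟨n, hn⟩ := h.exists_nat_pow_eq
      rw [← hn]
      clear hn
      induction n with
      | zero => exact hz
      | succ n ih => rw [pow_succ', Perm.mul_apply]; exact hO.apply_mem_iff.2 ih
    refine ⟨u.cycleOf z, fun x hx => ?_, fun x hx => ?_⟩
    · rw [cycleOf_apply, if_pos ((hmem x).2 hx)]
    · rw [cycleOf_apply, if_neg (fun h => hx ((hmem x).1 h))]
  · refine ⟨1, fun x hx => absurd ⟨x, hx⟩ hne, fun x _ => rfl⟩

/-- adding a cycle of `u`. -/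
theorem Dat.step {u c : Perm α} {M : Finset α} {a a' : α} (h : Dat u c M a a') (h3 : 3 ≤ M.card)
    {O : Finset α} (hO : u.IsCycleOn (O : Set α)) (hd : Disjoint M O) (ho : Odd O.card) :
    ∃ c', Dat u c' (M ∪ O) a a' := by
  obtain ⟨d, hd1, hd2⟩ := exists_restr hO
  obtain ⟨z, hz⟩ : O.Nonempty := Finset.card_pos.1 ho.pos
  obtain ⟨x, hx⟩ : (M \ {a, a'}).Nonempty := by
    apply Finset.card_pos.1
    have h1 := Finset.le_card_sdiff {a, a'} M
    rw [Finset.card_pair h.ne] at h1
    omega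
  rw [Finset.mem_sdiff, Finset.mem_insert, Finset.mem_singleton, not_or] at hx
  have hMO : ∀ y ∈ M, y ∉ O := fun y hy => Finset.disjoint_left.1 hd hy
  have hOM : ∀ y ∈ O, y ∉ M := fun y hy => Finset.disjoint_right.1 hd hy
  have hdM : ∀ y ∈ M, d y = y := fun y hy => hd2 y (hMO y hy)
  have hOu : ∀ y ∈ O, u y ∈ O := fun y hy => hO.apply_mem_iff.2 hy
  have hxz : ∀ y ∈ M, y ≠ z := fun y hy e => hMO y hy (e ▸ hz)
  have c1 : (c * d).IsCycleOn (M : Set α) := cyc_congr h.cyc (fun y hy => by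
    rw [Perm.mul_apply, hdM y hy])
  have c2 : (c * d).IsCycleOn (O : Set α) := cyc_congr hO (fun y hy => by
    rw [Perm.mul_apply, hd1 y hy, h.out _ (hOM _ (hOu y hy))])
  have hdis : Disjoint (M : Set α) (O : Set α) := Finset.disjoint_coe.2 hd
  have c3 := merge c1 c2 hdis (x := x) (z := z) hx.1 hz
  have c4 : (u * c * d).IsCycleOn ((M : Set α) \ {a, a'}) := cyc_congr h.cyc' (fun y hy => by
    rw [Perm.mul_apply, hdM y hy.1])
  have c5 : (u * c * d).IsCycleOn (O : Set α) := cyc_congr (sq hO ho) (fun y hy => by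
    rw [Perm.mul_apply, hd1 y hy, Perm.mul_apply, h.out _ (hOM _ (hOu y hy)), pow_two,
      Perm.mul_apply])
  have c6 := merge c4 c5 (hdis.mono_left Set.diff_subset) (x := x) (z := z)
    ⟨hx.1, by rintro (e | e); exacts [hx.2.1 e, hx.2.2 e]⟩ hz
  refine ⟨c * d * swap x z, ⟨?_, ?_, ?_, ?_, ?_, h.ne, ?_, ?_, ?_⟩⟩
  · intro y hy
    rcases Finset.mem_union.1 hy with hy | hy
    · exact Finset.mem_union_left _ (h.inv y hy)
    · exact Finset.mem_union_right _ (hOu y hy)
  · rw [Finset.coe_union]; exact c3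
  · intro y hy
    rw [Finset.mem_union, not_or] at hy
    have e1 : y ≠ x := fun e => hy.1 (e ▸ hx.1)
    have e2 : y ≠ z := fun e => hy.2 (e ▸ hz)
    rw [Perm.mul_apply, swap_apply_of_ne_of_ne e1 e2,
      Perm.mul_apply, hd2 y hy.2, h.out y hy.1]
  · exact Finset.mem_union_left _ h.ma
  · exact Finset.mem_union_left _ h.ma'
  · rw [Perm.mul_apply, Perm.mul_apply, swap_apply_of_ne_of_ne (fun e => hx.2.1 e.symm)
      (hxz a h.ma), Perm.mul_apply, hdM a h.ma]
    exact h.fa
  · rw [Perm.mul_apply, Perm.mul_apply, swap_apply_of_ne_of_ne (fun e => hx.2.2 e.symm)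
      (hxz a' h.ma'), Perm.mul_apply, hdM a' h.ma']
    exact h.fa'
  · have : ((M ∪ O : Finset α) : Set α) \ {a, a'} = ((M : Set α) \ {a, a'}) ∪ (O : Set α) := by
      ext y
      simp only [Finset.coe_union, Set.mem_diff, Set.mem_union, Finset.mem_coe,
        Set.mem_insert_iff, Set.mem_singleton_iff]
      constructor
      · rintro ⟨hy | hy, hy'⟩
        · left; exact ⟨hy, hy'⟩
        · right; exact hy
      · rintro (⟨hy, hy'⟩ | hy)
        · exact ⟨Or.inl hy, hy'⟩
        · refine ⟨Or.inr hy, ?_⟩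
          rintro (e | e)
          · exact hOM y hy (e ▸ h.ma)
          · exact hOM y hy (e ▸ h.ma')
    rw [this]
    have h7 : u * (c * d * swap x z) = u * c * d * swap x z := by simp only [mul_assoc]
    rw [h7]
    exact c6

/-- the engine producing the data from a factorization of a cycle. -/
theorem engine {u d s e q : Perm α} {O : Finset α} (hu : u.IsCycleOn (O : Set α))
    (hd1 : ∀ x ∈ (O : Set α), d x = u x) (hd2 : ∀ x, x ∉ (O : Set α) → d x = x) (hse : d = s * e)
    (hcomm : e * q = q * e) (hs : ∀ x, x ∉ (O : Set α) → s x = x)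
    (hq : ∀ x, x ∉ (O : Set α) → q x = x) {a a' : α} (ha : a ∈ O) (ha' : a' ∈ O) (hne : a ≠ a')
    (va : (s * (q * s * q⁻¹) * e ^ 2) a = a) (va' : (s * (q * s * q⁻¹) * e ^ 2) a' = a')
    (vc : (s * (q * s * q⁻¹) * e ^ 2).IsCycleOn ((O : Set α) \ {a, a'})) :
    Dat u ((e⁻¹ * q) * d * (e⁻¹ * q)⁻¹) O a a' := by
  set g := e⁻¹ * q with hg
  have he : ∀ x, x ∉ (O : Set α) → e x = x := by
    intro x hx
    have h1 : d x = s (e x) := by rw [hse]; rfl
    rw [hd2 x hx] at h1
    exact s.injective (h1.symm.trans (hs x hx).symm)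
  have hgo : ∀ x, x ∉ (O : Set α) → g x = x := by
    intro x hx
    rw [hg, Perm.mul_apply, hq x hx, Perm.inv_eq_iff_eq]
    exact (he x hx).symm
  have hout : ∀ f : Perm α, (∀ x, x ∉ (O : Set α) → f x = x) → ∀ x ∈ (O : Set α), f x ∈ (O : Set α) := by
    intro f hf x hx
    by_contra hcon
    have := hf _ hcon
    rw [f.injective this] at hcon
    exact hcon hx
  have hgO := hout g hgo
  have himg : (g : α → α) '' (O : Set α) = O := by
    have := (bij_of hgO).image_eq
    exact this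
  have hdc : d.IsCycleOn (O : Set α) := cyc_congr hu hd1
  have hc : (g * d * g⁻¹).IsCycleOn (O : Set α) := by
    have := hdc.conj (g := g)
    rwa [himg] at this
  have hkey : d * (g * d * g⁻¹) = s * (q * s * q⁻¹) * e ^ 2 := by
    have h1 : e * q⁻¹ = q⁻¹ * e := by
      have : Commute e q := hcomm
      exact this.inv_right
    calc d * (g * d * g⁻¹) = s * (q * s * (e * q⁻¹) * e) := by rw [hg, hse]; group
      _ = s * (q * s * q⁻¹) * e ^ 2 := by rw [h1, pow_two]; simp only [mul_assoc]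
  have hcO : ∀ x ∈ (O : Set α), (g * d * g⁻¹) x ∈ (O : Set α) := fun x hx => hc.apply_mem_iff.2 hx
  have huc : ∀ x ∈ (O : Set α), (u * (g * d * g⁻¹)) x = (s * (q * s * q⁻¹) * e ^ 2) x := by
    intro x hx
    rw [← hkey, Perm.mul_apply u, Perm.mul_apply d, hd1 _ (hcO x hx)]
  refine ⟨fun x hx => hu.apply_mem_iff.2 hx, hc, ?_, ha, ha', hne, ?_, ?_, ?_⟩
  · intro x hx
    have hx' : x ∉ (O : Set α) := hx
    have : g⁻¹ x = x := by rw [Perm.inv_eq_iff_eq]; exact (hgo x hx').symm
    rw [Perm.mul_apply, this, Perm.mul_apply, hd2 x hx', hgo x hx']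
  · rw [huc a ha, va]
  · rw [huc a' ha', va']
  · exact cyc_congr vc (fun x hx => huc x hx.1)

theorem sign_restr {u d : Perm α} {O : Finset α} (hu : u.IsCycleOn (O : Set α)) (ho : Odd O.card)
    (hd1 : ∀ x ∈ (O : Set α), d x = u x) (hd2 : ∀ x, x ∉ (O : Set α) → d x = x) :
    sign d = 1 := by
  have hdc : d.IsCycleOn (O : Set α) := cyc_congr hu hd1
  have h1 : d ^ O.card = 1 := by
    ext x
    by_cases hx : x ∈ O
    · exact hdc.pow_card_apply hx
    · have : ∀ n : ℕ, (d ^ n) x = x := by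
        intro n
        induction n with
        | zero => rfl
        | succ n ih => rw [pow_succ, Perm.mul_apply, hd2 x hx, ih]
      exact this _
  have h2 := congrArg sign h1
  rw [map_pow, Perm.sign_one] at h2
  rcases Int.units_eq_one_or (sign d) with h | h
  · exact h
  · rw [h, ho.neg_one_pow] at h2
    exact absurd h2 (by decide)

end H56.Al
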