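import Mathlib
import Cfsg.Agent.Lib.H56.Al3

set_option autoImplicit false
set_option linter.all false

namespace H56.Al

open Equiv Equiv.Perm

variable {α : Type*} [Fintype α] [DecidableEq α]

theorem pow_ne {u : Perm α} {O : Finset α} (hu : u.IsCycleOn (O : Set α)) {x : α} (hx : x ∈ O)
    {n : ℕ} (h0 : 0 < n) (hn : n < O.card) : (u ^ n) x ≠ x := by
  intro h
  have := (hu.pow_apply_eq hx).1 h
  exact absurd (Nat.le_of_dvd h0 this) (by omega)

/-- conjugate by an odd permutation. -/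
theorem base1 {u d : Perm α} {O : Finset α} (hu : u.IsCycleOn (O : Set α)) (ho : Odd O.card)
    (h3 : 3 ≤ O.card)
    (hd1 : ∀ x ∈ (O : Set α), d x = u x) (hd2 : ∀ x, x ∉ (O : Set α) → d x = x) :
    ∃ (g : Perm α) (a a' : α), sign g = -1 ∧ (∀ x, x ∉ (O : Set α) → g x = x) ∧
      Dat u (g * d * g⁻¹) O a a' := by
  have hdc : d.IsCycleOn (O : Set α) := cyc_congr hu hd1
  obtain ⟨x1, hx1⟩ : O.Nonempty := Finset.card_pos.1 (by omega)
  have hm : ∀ y ∈ O, d y ∈ O := fun y hy => hdc.apply_mem_iff.2 hy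
  obtain ⟨x2, h2⟩ : ∃ x2, x2 = d x1 := ⟨_, rfl⟩
  obtain ⟨x3, h3'⟩ : ∃ x3, x3 = d x2 := ⟨_, rfl⟩
  have hx2 : x2 ∈ O := h2 ▸ hm _ hx1
  have hx3 : x3 ∈ O := h3' ▸ hm _ hx2
  have n21 : x2 ≠ x1 := by
    have := pow_ne hdc hx1 (n := 1) (by omega) (by omega)
    rwa [pow_one, ← h2] at this
  have n31 : x3 ≠ x1 := by
    have := pow_ne hdc hx1 (n := 2) (by omega) (by omega)
    rwa [pow_two, Perm.mul_apply, ← h2, ← h3'] at this
  have n32 : x3 ≠ x2 := by
    have := pow_ne hdc hx2 (n := 1) (by omega) (by omega)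
    rwa [pow_one, ← h3'] at this
  have f1c := split hdc (x := x1) hx1
  rw [← h2] at f1c
  have f1x2 : (swap x1 x2 * d) x2 = x3 := by
    rw [Perm.mul_apply, ← h3', swap_apply_of_ne_of_ne n31 n32]
  have f1x1 : (swap x1 x2 * d) x1 = x1 := by
    rw [Perm.mul_apply, ← h2, swap_apply_right]
  have f2c := split f1c (x := x2) ⟨hx2, n21⟩
  rw [f1x2] at f2c
  set e := swap x2 x3 * (swap x1 x2 * d) with he
  have ex1 : e x1 = x1 := by
    rw [he, Perm.mul_apply, f1x1, swap_apply_of_ne_of_ne n21.symm n31.symm]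
  have ex2 : e x2 = x2 := by
    rw [he, Perm.mul_apply, f1x2, swap_apply_right]
  set s := swap x1 x2 * swap x2 x3 with hs
  have hse : d = s * e := by
    rw [hs, he]
    have e1 : swap x2 x3 * swap x2 x3 = 1 := swap_mul_self _ _
    have e2 : swap x1 x2 * swap x1 x2 = 1 := swap_mul_self _ _
    calc d = (swap x1 x2 * swap x1 x2) * d := by rw [e2, one_mul]
      _ = swap x1 x2 * (swap x2 x3 * swap x2 x3) * swap x1 x2 * d := by rw [e1, mul_one]
      _ = _ := by simp only [mul_assoc]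
  have hcomm : e * swap x1 x2 = swap x1 x2 * e := by
    have := Equiv.mul_swap_eq_swap_mul e x1 x2
    rw [this, ex1, ex2]
  have hsout : ∀ x, x ∉ (O : Set α) → s x = x := by
    intro x hx
    have e1 : x ≠ x1 := fun e => hx (e ▸ hx1)
    have e2 : x ≠ x2 := fun e => hx (e ▸ hx2)
    have e3 : x ≠ x3 := fun e => hx (e ▸ hx3)
    rw [hs, Perm.mul_apply, swap_apply_of_ne_of_ne e2 e3, swap_apply_of_ne_of_ne e1 e2]
  have hqout : ∀ x, x ∉ (O : Set α) → swap x1 x2 x = x := by
    intro x hx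
    have e1 : x ≠ x1 := fun e => hx (e ▸ hx1)
    have e2 : x ≠ x2 := fun e => hx (e ▸ hx2)
    rw [swap_apply_of_ne_of_ne e1 e2]
  have hv : s * (swap x1 x2 * s * (swap x1 x2)⁻¹) * e ^ 2 = e ^ 2 := by
    have e1 : swap x2 x3 * swap x2 x3 = 1 := swap_mul_self _ _
    have e2 : swap x1 x2 * swap x1 x2 = 1 := swap_mul_self _ _
    have : s * (swap x1 x2 * s * (swap x1 x2)⁻¹) = 1 := by
      rw [hs, swap_inv]
      calc swap x1 x2 * swap x2 x3 * (swap x1 x2 * (swap x1 x2 * swap x2 x3) * swap x1 x2)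
          = swap x1 x2 * swap x2 x3 * ((swap x1 x2 * swap x1 x2) * swap x2 x3) * swap x1 x2 := by
            simp only [mul_assoc]
        _ = swap x1 x2 * (swap x2 x3 * swap x2 x3) * swap x1 x2 := by
            rw [e2, one_mul]; simp only [mul_assoc]
        _ = 1 := by rw [e1, mul_one, e2]
    rw [this, one_mul]
  have hA : ((O : Set α) \ {x1}) \ {x2} = ((O \ {x1, x2} : Finset α) : Set α) := by
    ext y
    simp only [Set.mem_diff, Set.mem_singleton_iff, Finset.coe_sdiff, Finset.mem_coe,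
      Finset.coe_insert, Finset.coe_singleton, Set.mem_insert_iff, not_or]
    tauto
  have hAc : (O \ {x1, x2}).card = O.card - 2 := by
    rw [Finset.card_sdiff_of_subset, Finset.card_pair n21.symm]
    intro y hy
    rw [Finset.mem_insert, Finset.mem_singleton] at hy
    rcases hy with rfl | rfl
    exacts [hx1, hx2]
  rw [hA] at f2c
  have hsq := sq f2c (by rw [hAc]; obtain ⟨m, hm⟩ := ho; exact ⟨m - 1, by omega⟩)
  refine ⟨e⁻¹ * swap x1 x2, x1, x2, ?_, ?_, ?_⟩
  · have h1 : sign d = 1 := sign_restr hu ho hd1 hd2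
    have h2 : sign s = 1 := by
      rw [hs, map_mul, sign_swap n21.symm, sign_swap n32.symm]; rfl
    have h3 : sign e = 1 := by
      rw [hse, map_mul, h2, one_mul] at h1; exact h1
    rw [map_mul, map_inv, h3, sign_swap n21.symm, inv_one, one_mul]
  · intro x hx
    have hex : e x = x := by
      have h1 : d x = s (e x) := by rw [hse]; rfl
      rw [hd2 x hx] at h1
      exact s.injective (h1.symm.trans (hsout x hx).symm)
    rw [Perm.mul_apply, hqout x hx, Perm.inv_eq_iff_eq]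
    exact hex.symm
  · refine engine hu hd1 hd2 hse hcomm hsout hqout hx1 hx2 n21.symm ?_ ?_ ?_
    · rw [hv, pow_two, Perm.mul_apply, ex1, ex1]
    · rw [hv, pow_two, Perm.mul_apply, ex2, ex2]
    · rw [hv]
      have : (O : Set α) \ {x1, x2} = ((O \ {x1, x2} : Finset α) : Set α) := by
        rw [Finset.coe_sdiff]; simp
      rw [this]; exact hsq

end H56.Al
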