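import Mathlib
import Cfsg.Agent.Lib.H56.Al4

set_option autoImplicit false
set_option linter.all false

namespace H56.Al

open Equiv Equiv.Perm

variable {α : Type*} [Fintype α] [DecidableEq α]

/-- the five point identity. -/
theorem five (x1 x2 x3 x4 x5 : α) (h12 : x1 ≠ x2) (h13 : x1 ≠ x3) (h14 : x1 ≠ x4)
    (h15 : x1 ≠ x5) (h23 : x2 ≠ x3) (h24 : x2 ≠ x4) (h25 : x2 ≠ x5) (h34 : x3 ≠ x4)
    (h35 : x3 ≠ x5) (h45 : x4 ≠ x5) :
    (swap x1 x2 * swap x2 x3 * swap x3 x4 * swap x4 x5) *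
      ((swap x1 x3 * swap x3 x4) * (swap x1 x2 * swap x2 x3 * swap x3 x4 * swap x4 x5) *
        (swap x1 x3 * swap x3 x4)⁻¹) = swap x2 x5 * swap x5 x4 := by
  rw [mul_inv_rev, swap_inv, swap_inv]
  ext y
  by_cases e1 : y = x1
  · subst e1
    simp [swap_apply_def, *, Ne.symm h12, Ne.symm h13, Ne.symm h14, Ne.symm h15, Ne.symm h23,
      Ne.symm h24, Ne.symm h25, Ne.symm h34, Ne.symm h35, Ne.symm h45]
  by_cases e2 : y = x2
  · subst e2
    simp [swap_apply_def, *, Ne.symm h12, Ne.symm h13, Ne.symm h14, Ne.symm h15, Ne.symm h23,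
      Ne.symm h24, Ne.symm h25, Ne.symm h34, Ne.symm h35, Ne.symm h45]
  by_cases e3 : y = x3
  · subst e3
    simp [swap_apply_def, *, Ne.symm h12, Ne.symm h13, Ne.symm h14, Ne.symm h15, Ne.symm h23,
      Ne.symm h24, Ne.symm h25, Ne.symm h34, Ne.symm h35, Ne.symm h45]
  by_cases e4 : y = x4
  · subst e4
    simp [swap_apply_def, *, Ne.symm h12, Ne.symm h13, Ne.symm h14, Ne.symm h15, Ne.symm h23,
      Ne.symm h24, Ne.symm h25, Ne.symm h34, Ne.symm h35, Ne.symm h45]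
  by_cases e5 : y = x5
  · subst e5
    simp [swap_apply_def, *, Ne.symm h12, Ne.symm h13, Ne.symm h14, Ne.symm h15, Ne.symm h23,
      Ne.symm h24, Ne.symm h25, Ne.symm h34, Ne.symm h35, Ne.symm h45]
  simp [swap_apply_def, *]

/-- conjugate by an even permutation. -/
theorem base2 {u d : Perm α} {O : Finset α} (hu : u.IsCycleOn (O : Set α)) (ho : Odd O.card)
    (h5 : 5 ≤ O.card)
    (hd1 : ∀ x ∈ (O : Set α), d x = u x) (hd2 : ∀ x, x ∉ (O : Set α) → d x = x) :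
    ∃ (g : Perm α) (a a' : α), sign g = 1 ∧ (∀ x, x ∉ (O : Set α) → g x = x) ∧
      Dat u (g * d * g⁻¹) O a a' := by
  have hdc : d.IsCycleOn (O : Set α) := cyc_congr hu hd1
  obtain ⟨x1, hx1⟩ : O.Nonempty := Finset.card_pos.1 (by omega)
  have hm : ∀ y ∈ O, d y ∈ O := fun y hy => hdc.apply_mem_iff.2 hy
  obtain ⟨x2, h2⟩ : ∃ x2, x2 = d x1 := ⟨_, rfl⟩
  obtain ⟨x3, h3⟩ : ∃ x3, x3 = d x2 := ⟨_, rfl⟩
  obtain ⟨x4, h4⟩ : ∃ x4, x4 = d x3 := ⟨_, rfl⟩
  obtain ⟨x5, h5'⟩ : ∃ x5, x5 = d x4 := ⟨_, rfl⟩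
  have hx2 : x2 ∈ O := h2 ▸ hm _ hx1
  have hx3 : x3 ∈ O := h3 ▸ hm _ hx2
  have hx4 : x4 ∈ O := h4 ▸ hm _ hx3
  have hx5 : x5 ∈ O := h5' ▸ hm _ hx4
  have d1 : ∀ y ∈ O, d y ≠ y := by
    intro y hy
    have := pow_ne hdc hy (n := 1) (by omega) (by omega)
    rwa [pow_one] at this
  have d2 : ∀ y ∈ O, d (d y) ≠ y := by
    intro y hy
    have := pow_ne hdc hy (n := 2) (by omega) (by omega)
    exact this
  have d3 : ∀ y ∈ O, d (d (d y)) ≠ y := by
    intro y hy
    have := pow_ne hdc hy (n := 3) (by omega) (by omega)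
    exact this
  have d4 : ∀ y ∈ O, d (d (d (d y))) ≠ y := by
    intro y hy
    have := pow_ne hdc hy (n := 4) (by omega) (by omega)
    exact this
  have h12 : x1 ≠ x2 := by rw [h2]; exact (d1 _ hx1).symm
  have h23 : x2 ≠ x3 := by rw [h3]; exact (d1 _ hx2).symm
  have h34 : x3 ≠ x4 := by rw [h4]; exact (d1 _ hx3).symm
  have h45 : x4 ≠ x5 := by rw [h5']; exact (d1 _ hx4).symm
  have h13 : x1 ≠ x3 := by rw [h3, h2]; exact (d2 _ hx1).symm
  have h24 : x2 ≠ x4 := by rw [h4, h3]; exact (d2 _ hx2).symm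
  have h35 : x3 ≠ x5 := by rw [h5', h4]; exact (d2 _ hx3).symm
  have h14 : x1 ≠ x4 := by rw [h4, h3, h2]; exact (d3 _ hx1).symm
  have h25 : x2 ≠ x5 := by rw [h5', h4, h3]; exact (d3 _ hx2).symm
  have h15 : x1 ≠ x5 := by rw [h5', h4, h3, h2]; exact (d4 _ hx1).symm
  have f1c := split hdc (x := x1) hx1
  rw [← h2] at f1c
  set f1 := swap x1 x2 * d with hf1
  have f1x1 : f1 x1 = x1 := by rw [hf1, Perm.mul_apply, ← h2, swap_apply_right]
  have f1x2 : f1 x2 = x3 := by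
    rw [hf1, Perm.mul_apply, ← h3, swap_apply_of_ne_of_ne h13.symm h23.symm]
  have f1x3 : f1 x3 = x4 := by
    rw [hf1, Perm.mul_apply, ← h4, swap_apply_of_ne_of_ne h14.symm h24.symm]
  have f1x4 : f1 x4 = x5 := by
    rw [hf1, Perm.mul_apply, ← h5', swap_apply_of_ne_of_ne h15.symm h25.symm]
  have f2c := split f1c (x := x2) ⟨hx2, h12.symm⟩
  rw [f1x2] at f2c
  set f2 := swap x2 x3 * f1 with hf2
  have f2x1 : f2 x1 = x1 := by rw [hf2, Perm.mul_apply, f1x1, swap_apply_of_ne_of_ne h12 h13]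
  have f2x2 : f2 x2 = x2 := by rw [hf2, Perm.mul_apply, f1x2, swap_apply_right]
  have f2x3 : f2 x3 = x4 := by
    rw [hf2, Perm.mul_apply, f1x3, swap_apply_of_ne_of_ne h24.symm h34.symm]
  have f2x4 : f2 x4 = x5 := by
    rw [hf2, Perm.mul_apply, f1x4, swap_apply_of_ne_of_ne h25.symm h35.symm]
  have f3c := split f2c (x := x3) ⟨⟨hx3, h13.symm⟩, h23.symm⟩
  rw [f2x3] at f3c
  set f3 := swap x3 x4 * f2 with hf3
  have f3x1 : f3 x1 = x1 := by rw [hf3, Perm.mul_apply, f2x1, swap_apply_of_ne_of_ne h13 h14]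
  have f3x2 : f3 x2 = x2 := by rw [hf3, Perm.mul_apply, f2x2, swap_apply_of_ne_of_ne h23 h24]
  have f3x3 : f3 x3 = x3 := by rw [hf3, Perm.mul_apply, f2x3, swap_apply_right]
  have f3x4 : f3 x4 = x5 := by
    rw [hf3, Perm.mul_apply, f2x4, swap_apply_of_ne_of_ne h35.symm h45.symm]
  have f4c := split f3c (x := x4) ⟨⟨⟨hx4, h14.symm⟩, h24.symm⟩, h34.symm⟩
  rw [f3x4] at f4c
  set e := swap x4 x5 * f3 with he
  have ex1 : e x1 = x1 := by rw [he, Perm.mul_apply, f3x1, swap_apply_of_ne_of_ne h14 h15]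
  have ex2 : e x2 = x2 := by rw [he, Perm.mul_apply, f3x2, swap_apply_of_ne_of_ne h24 h25]
  have ex3 : e x3 = x3 := by rw [he, Perm.mul_apply, f3x3, swap_apply_of_ne_of_ne h34 h35]
  have ex4 : e x4 = x4 := by rw [he, Perm.mul_apply, f3x4, swap_apply_right]
  set s := swap x1 x2 * swap x2 x3 * swap x3 x4 * swap x4 x5 with hs
  have hse : d = s * e := by
    rw [hs, he, hf3, hf2, hf1]
    have e1 : ∀ f : Perm α, swap x4 x5 * (swap x4 x5 * f) = f := fun f => by
      rw [← mul_assoc, swap_mul_self, one_mul]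
    have e2 : ∀ f : Perm α, swap x3 x4 * (swap x3 x4 * f) = f := fun f => by
      rw [← mul_assoc, swap_mul_self, one_mul]
    have e3 : ∀ f : Perm α, swap x2 x3 * (swap x2 x3 * f) = f := fun f => by
      rw [← mul_assoc, swap_mul_self, one_mul]
    have e4 : ∀ f : Perm α, swap x1 x2 * (swap x1 x2 * f) = f := fun f => by
      rw [← mul_assoc, swap_mul_self, one_mul]
    simp only [mul_assoc, e1, e2, e3, e4]
  set q := swap x1 x3 * swap x3 x4 with hq
  have hcomm : e * q = q * e := by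
    have c1 : e * swap x1 x3 = swap x1 x3 * e := by
      rw [Equiv.mul_swap_eq_swap_mul e x1 x3, ex1, ex3]
    have c2 : e * swap x3 x4 = swap x3 x4 * e := by
      rw [Equiv.mul_swap_eq_swap_mul e x3 x4, ex3, ex4]
    rw [hq, ← mul_assoc, c1, mul_assoc, c2, mul_assoc]
  have hne : ∀ x, x ∉ (O : Set α) → x ≠ x1 ∧ x ≠ x2 ∧ x ≠ x3 ∧ x ≠ x4 ∧ x ≠ x5 := by
    intro x hx
    exact ⟨fun e => hx (e ▸ hx1), fun e => hx (e ▸ hx2), fun e => hx (e ▸ hx3),
      fun e => hx (e ▸ hx4), fun e => hx (e ▸ hx5)⟩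
  have hsout : ∀ x, x ∉ (O : Set α) → s x = x := by
    intro x hx
    obtain ⟨e1, e2, e3, e4, e5⟩ := hne x hx
    rw [hs, Perm.mul_apply, swap_apply_of_ne_of_ne e4 e5, Perm.mul_apply,
      swap_apply_of_ne_of_ne e3 e4, Perm.mul_apply, swap_apply_of_ne_of_ne e2 e3,
      swap_apply_of_ne_of_ne e1 e2]
  have hqout : ∀ x, x ∉ (O : Set α) → q x = x := by
    intro x hx
    obtain ⟨e1, e2, e3, e4, e5⟩ := hne x hx
    rw [hq, Perm.mul_apply, swap_apply_of_ne_of_ne e3 e4, swap_apply_of_ne_of_ne e1 e3]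
  have hv : s * (q * s * q⁻¹) * e ^ 2 = swap x2 x5 * (swap x5 x4 * e ^ 2) := by
    rw [hs, hq, five x1 x2 x3 x4 x5 h12 h13 h14 h15 h23 h24 h25 h34 h35 h45, mul_assoc]
  set A : Finset α := O \ {x1, x2, x3, x4} with hAdef
  have hA : ((((O : Set α) \ {x1}) \ {x2}) \ {x3}) \ {x4} = (A : Set α) := by
    ext y
    rw [hAdef]
    simp only [Set.mem_diff, Set.mem_singleton_iff, Finset.coe_sdiff, Finset.mem_coe,
      Finset.coe_insert, Finset.coe_singleton, Set.mem_insert_iff, not_or]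
    tauto
  have hAc : A.card = O.card - 4 := by
    rw [hAdef, Finset.card_sdiff_of_subset]
    · congr 1
      rw [Finset.card_insert_of_notMem (by simp [h12, h13, h14]),
        Finset.card_insert_of_notMem (by simp [h23, h24]), Finset.card_pair h34]
    · intro y hy
      simp only [Finset.mem_insert, Finset.mem_singleton] at hy
      rcases hy with rfl | rfl | rfl | rfl
      exacts [hx1, hx2, hx3, hx4]
  rw [hA] at f4c
  have hsq := sq f4c (by rw [hAc]; obtain ⟨m, hm⟩ := ho; exact ⟨m - 2, by omega⟩)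
  have hx5A : x5 ∈ (A : Set α) := by
    rw [← hA]; exact ⟨⟨⟨⟨hx5, h15.symm⟩, h25.symm⟩, h35.symm⟩, h45.symm⟩
  have hx4A : x4 ∉ (A : Set α) := by
    rw [← hA]; exact fun h => h.2 rfl
  have hx2A : x2 ∉ (A : Set α) := by
    rw [← hA]; exact fun h => h.1.1.2 rfl
  have e24 : (e ^ 2) x4 = x4 := by rw [pow_two, Perm.mul_apply, ex4, ex4]
  have e22 : (e ^ 2) x2 = x2 := by rw [pow_two, Perm.mul_apply, ex2, ex2]
  have m1 := merge' hsq (isCycleOn_singleton.2 e24)
    (Set.disjoint_singleton_right.2 hx4A) hx5A (Set.mem_singleton x4)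
  have e22' : (swap x5 x4 * e ^ 2) x2 = x2 := by
    rw [Perm.mul_apply, e22, swap_apply_of_ne_of_ne h25 h24]
  have m2 := merge' m1 (isCycleOn_singleton.2 e22')
    (Set.disjoint_singleton_right.2 (by rintro (h | h); exacts [hx2A h, h24 h]))
    (Or.inl hx5A) (Set.mem_singleton x2)
  rw [swap_comm x5 x2] at m2
  refine ⟨e⁻¹ * q, x1, x3, ?_, ?_, ?_⟩
  · have h1 : sign d = 1 := sign_restr hu ho hd1 hd2
    have h2 : sign s = 1 := by
      rw [hs, map_mul, map_mul, map_mul, sign_swap h12, sign_swap h23, sign_swap h34,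
        sign_swap h45]; rfl
    have h3 : sign e = 1 := by
      rw [hse, map_mul, h2, one_mul] at h1; exact h1
    have h4 : sign q = 1 := by
      rw [hq, map_mul, sign_swap h13, sign_swap h34]; rfl
    rw [map_mul, map_inv, h3, h4, inv_one, one_mul]
  · intro x hx
    have hex : e x = x := by
      have h1 : d x = s (e x) := by rw [hse]; rfl
      rw [hd2 x hx] at h1
      exact s.injective (h1.symm.trans (hsout x hx).symm)
    rw [Perm.mul_apply, hqout x hx, Perm.inv_eq_iff_eq]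
    exact hex.symm
  · refine engine hu hd1 hd2 hse hcomm hsout hqout hx1 hx3 h13 ?_ ?_ ?_
    · rw [hv, Perm.mul_apply, Perm.mul_apply, pow_two, Perm.mul_apply, ex1, ex1,
        swap_apply_of_ne_of_ne h15 h14, swap_apply_of_ne_of_ne h12 h15]
    · rw [hv, Perm.mul_apply, Perm.mul_apply, pow_two, Perm.mul_apply, ex3, ex3,
        swap_apply_of_ne_of_ne h35 h34, swap_apply_of_ne_of_ne h23.symm h35]
    · rw [hv]
      have : (O : Set α) \ {x1, x3} = ((A : Set α) ∪ {x4}) ∪ {x2} := by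
        rw [← hA]
        ext y
        simp only [Set.mem_diff, Set.mem_singleton_iff, Set.mem_union, Set.mem_insert_iff, not_or]
        constructor
        · rintro ⟨hy, h1, h3⟩
          by_cases h2 : y = x2
          · right; exact h2
          · by_cases h4 : y = x4
            · left; right; exact h4
            · left; left; exact ⟨⟨⟨⟨hy, h1⟩, h2⟩, h3⟩, h4⟩
        · rintro ((⟨⟨⟨⟨hy, h1⟩, h2⟩, h3⟩, h4⟩ | rfl) | rfl)
          · exact ⟨hy, h1, h3⟩
          · exact ⟨hx4, h14.symm, h34.symm⟩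
          · exact ⟨hx2, h12.symm, h23⟩
      rw [this]; exact m2

end H56.Al
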