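import Mathlib
import Cfsg.Agent.Lib.H56.Al5

set_option autoImplicit false
set_option linter.all false

namespace H56.Al

open Equiv Equiv.Perm

variable {α : Type*} [Fintype α] [DecidableEq α]

open Classical in
/-- the cycle of a point, as a finite set. -/
noncomputable def cy (u : Perm α) (x : α) : Finset α := Finset.univ.filter (fun y => u.SameCycle x y)

theorem mem_cy {u : Perm α} {x y : α} : y ∈ cy u x ↔ u.SameCycle x y := by
  simp [cy]

theorem coe_cy (u : Perm α) (x : α) : (cy u x : Set α) = {y | u.SameCycle x y} := by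
  ext y; exact mem_cy

theorem cy_cyc (u : Perm α) (x : α) : u.IsCycleOn (cy u x : Set α) := by
  rw [coe_cy]; exact cyc_self u x

theorem self_mem_cy (u : Perm α) (x : α) : x ∈ cy u x := mem_cy.2 (SameCycle.refl _ _)

theorem cy_dvd_iff (u : Perm α) (x : α) (n : ℕ) : (cy u x).card ∣ n ↔ (u ^ n) x = x :=
  ((cy_cyc u x).pow_apply_eq (self_mem_cy u x)).symm

theorem cy_prime_pow {p k : ℕ} (hp : p.Prime) {u : Perm α} (hu : u ^ (p ^ k) = 1) (x : α) :
    ∃ j ≤ k, (cy u x).card = p ^ j := by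
  have h1 : (cy u x).card ∣ p ^ k := by rw [cy_dvd_iff, hu]; rfl
  exact (Nat.dvd_prime_pow hp).1 h1

/-- the greedy choice of an invariant set of size `p ^ k`. -/
theorem greedy {p k : ℕ} (hp : p.Prime) (hodd : Odd p) {u : Perm α} (hu : u ^ (p ^ k) = 1)
    (hu1 : u ≠ 1) (hbn : p ^ k ≤ Fintype.card α) :
    ∃ (M : Finset α) (c : Perm α) (a a' : α), Dat u c M a a' ∧ M.card = p ^ k := by
  classical
  have hcy := cy_prime_pow hp hu
  have hp3 : 3 ≤ p := by
    have := hp.two_le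
    obtain ⟨m, hm⟩ := hodd
    omega
  have hu1' : ∃ x, u x ≠ x := by
    by_contra h
    push Not at h
    exact hu1 (Equiv.ext h)
  obtain ⟨y0, hy0⟩ := hu1'
  -- base
  obtain ⟨x0, _, hx0⟩ := Finset.exists_max_image (Finset.univ : Finset α)
    (fun x => (cy u x).card) ⟨y0, Finset.mem_univ _⟩
  have hb3 : 3 ≤ (cy u x0).card := by
    refine le_trans ?_ (hx0 y0 (Finset.mem_univ _))
    obtain ⟨j, _, hj⟩ := hcy y0
    rcases Nat.eq_zero_or_pos j with rfl | hj0
    · exfalso
      apply hy0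
      have := (cy_dvd_iff u y0 1).1 (by rw [hj, pow_zero])
      simpa using this
    · show 3 ≤ (cy u y0).card
      rw [hj]
      exact hp3.trans (Nat.le_self_pow hj0.ne' p)
  have hodd' : ∀ x, Odd (cy u x).card := by
    intro x
    obtain ⟨j, _, hj⟩ := hcy x
    rw [hj]; exact hodd.pow
  let R : Finset α → Prop := fun M => (∃ (c : Perm α) (a a' : α), Dat u c M a a') ∧
    M.card ≤ p ^ k ∧ 3 ≤ M.card ∧ ∃ j, p ^ j ∣ M.card ∧ ∀ y, y ∉ M → (cy u y).card ∣ p ^ j
  have hR0 : R (cy u x0) := by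
    obtain ⟨d, hd1, hd2⟩ := exists_restr (cy_cyc u x0)
    obtain ⟨g, a, a', _, _, hD⟩ := base1 (cy_cyc u x0) (hodd' x0) hb3 hd1 hd2
    obtain ⟨j, hjk, hj⟩ := hcy x0
    refine ⟨⟨_, a, a', hD⟩, ?_, hb3, j, by rw [hj], ?_⟩
    · rw [hj]; exact Nat.pow_le_pow_right hp.pos hjk
    · intro y _
      obtain ⟨i, _, hi⟩ := hcy y
      have h1 : (cy u y).card ≤ (cy u x0).card := hx0 y (Finset.mem_univ _)
      rw [hi, hj] at h1
      rw [hi]
      exact pow_dvd_pow p ((Nat.pow_le_pow_iff_right hp.one_lt).1 h1)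
  obtain ⟨M, hM, hmax⟩ := Finset.exists_max_image (Finset.univ.filter R)
    (fun M => M.card) ⟨cy u x0, by simp [hR0]⟩
  rw [Finset.mem_filter] at hM
  obtain ⟨_, ⟨c, a, a', hD⟩, hMk, hM3, j, hj, hjy⟩ := hM
  refine ⟨M, c, a, a', hD, ?_⟩
  by_contra hne
  have hlt : M.card < p ^ k := lt_of_le_of_ne hMk hne
  have hcompl : (Finset.univ \ M).Nonempty := by
    apply Finset.card_pos.1
    rw [Finset.card_sdiff_of_subset (Finset.subset_univ _), Finset.card_univ]
    omega
  obtain ⟨y1, hy1, hy1m⟩ := Finset.exists_max_image (Finset.univ \ M)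
    (fun x => (cy u x).card) hcompl
  rw [Finset.mem_sdiff] at hy1
  obtain ⟨i, hik, hi⟩ := hcy y1
  have hMinv : ∀ z ∈ M, ∀ y, u.SameCycle z y → y ∈ M := by
    intro z hz y hzy
    obtain ⟨n, hn⟩ := hzy.exists_nat_pow_eq
    rw [← hn]
    clear hn
    induction n with
    | zero => exact hz
    | succ n ih => rw [pow_succ', Perm.mul_apply]; exact hD.inv _ ih
  have hdisj : Disjoint M (cy u y1) := by
    rw [Finset.disjoint_left]
    intro z hz hz'
    exact hy1.2 (hMinv z hz y1 (mem_cy.1 hz').symm)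
  obtain ⟨c', hD'⟩ := hD.step hM3 (cy_cyc u y1) hdisj (hodd' y1)
  have hcard : (M ∪ cy u y1).card = M.card + p ^ i := by
    rw [Finset.card_union_of_disjoint hdisj, hi]
  have hdvdM : p ^ i ∣ M.card := by
    have := hjy y1 hy1.2
    rw [hi] at this
    exact this.trans hj
  have hle : M.card + p ^ i ≤ p ^ k := by
    obtain ⟨s, hs⟩ := hdvdM
    obtain ⟨t, ht⟩ := pow_dvd_pow p hik
    rw [hs, ht] at hlt ⊢
    have hst : s < t := lt_of_mul_lt_mul_left hlt (Nat.zero_le _)
    calc p ^ i * s + p ^ i = p ^ i * (s + 1) := by ring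
      _ ≤ p ^ i * t := Nat.mul_le_mul_left _ hst
  have hR' : R (M ∪ cy u y1) := by
    refine ⟨⟨c', a, a', hD'⟩, by rw [hcard]; exact hle, by rw [hcard]; omega, i, ?_, ?_⟩
    · rw [hcard]; exact dvd_add hdvdM (dvd_refl _)
    · intro y hy
      rw [Finset.mem_union, not_or] at hy
      have h1 : (cy u y).card ≤ (cy u y1).card := hy1m y (by simp [hy.1])
      obtain ⟨l, _, hl⟩ := hcy y
      rw [hi, hl] at h1
      rw [hl]
      exact pow_dvd_pow p ((Nat.pow_le_pow_iff_right hp.one_lt).1 h1)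
  have := hmax _ (by rw [Finset.mem_filter]; exact ⟨Finset.mem_univ _, hR'⟩)
  rw [hcard] at this
  have := Nat.pow_pos (n := i) hp.pos
  omega

/-- conjugating a cycle of `w` onto a given cycle. -/
theorem conj_cycle {w c : Perm α} {L M : Finset α} (hw : w.IsCycleOn (L : Set α))
    (hc : c.IsCycleOn (M : Set α)) (hout : ∀ x, x ∉ M → c x = x) (hcard : L.card = M.card)
    (h2 : 2 ≤ M.card) : ∃ g : Perm α, ∀ x ∈ M, (g * w * g⁻¹) x = c x := by
  obtain ⟨d, hd1, hd2⟩ := exists_restr hw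
  have hdL : d.IsCycleOn (L : Set α) := cyc_congr hw hd1
  have key : ∀ (f : Perm α) (S : Finset α), f.IsCycleOn (S : Set α) → 2 ≤ S.card →
      (∀ x, x ∉ (S : Set α) → f x = x) → f.IsCycle ∧ f.support = S := by
    intro f S hf hS hfo
    have hnt : (S : Set α).Nontrivial := by
      have : S.Nontrivial := Finset.one_lt_card_iff_nontrivial.1 (by omega)
      exact this
    refine ⟨isCycle_iff_exists_isCycleOn.2 ⟨S, hnt, hf, ?_⟩, ?_⟩
    · intro x hx
      by_contra hcon
      exact hx (hfo x hcon)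
    · ext x
      rw [mem_support]
      refine ⟨fun hx => ?_, fun hx => hf.apply_ne hnt hx⟩
      by_contra hcon
      exact hx (hfo x hcon)
  obtain ⟨hdc, hds⟩ := key d L hdL (by omega) hd2
  obtain ⟨hcc, hcs⟩ := key c M hc h2 hout
  obtain ⟨g, hg⟩ := isConj_iff.1 (hdc.isConj hcc (by rw [hds, hcs, hcard]))
  refine ⟨g, fun x hx => ?_⟩
  rw [← hg]
  rw [Perm.mul_apply, Perm.mul_apply, Perm.mul_apply, Perm.mul_apply]
  congr 1
  symm
  apply hd1
  show g⁻¹ x ∈ L
  have h1 : c x ≠ x := by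
    rw [← mem_support, hcs]; exact hx
  rw [← hds, mem_support]
  intro h
  apply h1
  rw [← hg, Perm.mul_apply, Perm.mul_apply, h]
  exact g.apply_symm_apply x

end H56.Al
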