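import Mathlib
import Cfsg.Agent.Lib.H56.Al6

set_option autoImplicit false
set_option linter.all false

namespace H56.Al

open Equiv Equiv.Perm

variable {α : Type*} [Fintype α] [DecidableEq α]

/-- an odd permutation commuting with `u`. -/
theorem odd_centr {p m : ℕ} (hp : p.Prime) {u : Perm α} (hu : u ^ (p ^ m) = 1)
    (h : 1 + ∑ i ∈ Finset.Icc 1 m, p ^ i < Fintype.card α) :
    ∃ τ : Perm α, τ * u = u * τ ∧ sign τ = -1 := by
  by_contra hcon
  push Not at hcon
  have hle : Subgroup.centralizer {u} ≤ alternatingGroup α := by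
    intro τ hτ
    rw [Subgroup.mem_centralizer_singleton_iff] at hτ
    rw [mem_alternatingGroup]
    rcases Int.units_eq_one_or (sign τ) with h' | h'
    · exact h'
    · exact absurd h' (hcon τ hτ)
  obtain ⟨_, h2, h3⟩ := centralizer_le_alternating_iff.1 hle
  have hnd : u.cycleType.Nodup := Multiset.nodup_iff_count_le_one.2 h3
  have hsum : u.cycleType.sum ≤ ∑ i ∈ Finset.Icc 1 m, p ^ i := by
    have h4 : u.cycleType.sum = ∑ n ∈ u.cycleType.toFinset, n := by
      rw [Finset.sum_multiset_count_of_subset _ _ (Finset.Subset.refl _)]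
      refine Finset.sum_congr rfl (fun n hn => ?_)
      rw [Multiset.count_eq_one_of_mem hnd (Multiset.mem_toFinset.1 hn), one_smul]
    rw [h4]
    have h5 : u.cycleType.toFinset ⊆ (Finset.Icc 1 m).image (fun i => p ^ i) := by
      intro n hn
      rw [Multiset.mem_toFinset] at hn
      have h6 : n ∣ p ^ m := (dvd_of_mem_cycleType hn).trans (orderOf_dvd_of_pow_eq_one hu)
      have h7 := two_le_of_mem_cycleType hn
      obtain ⟨i, hi, rfl⟩ := (Nat.dvd_prime_pow hp).1 h6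
      rw [Finset.mem_image]
      refine ⟨i, Finset.mem_Icc.2 ⟨?_, hi⟩, rfl⟩
      rcases Nat.eq_zero_or_pos i with rfl | h0
      · simp at h7
      · exact h0
    refine (Finset.sum_le_sum_of_subset h5).trans ?_
    rw [Finset.sum_image (fun a _ b _ hab => Nat.pow_right_injective hp.two_le hab)]
  omega

/-- an element of order `p ^ k` has a cycle of length `p ^ k`. -/
theorem exists_cy {p k : ℕ} (hp : p.Prime) {w : Perm α} (hw : w ^ (p ^ (k + 1)) = 1)
    (hw' : w ^ (p ^ k) ≠ 1) : ∃ x, (cy w x).card = p ^ (k + 1) := by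
  have : ∃ x, (w ^ (p ^ k)) x ≠ x := by
    by_contra h
    push Not at h
    exact hw' (Equiv.ext h)
  obtain ⟨x, hx⟩ := this
  obtain ⟨j, hj, hj'⟩ := cy_prime_pow hp hw x
  refine ⟨x, ?_⟩
  rcases Nat.lt_or_ge j (k + 1) with h | h
  · exfalso
    apply hx
    rw [← cy_dvd_iff, hj']
    exact pow_dvd_pow p (by omega)
  · rw [hj', le_antisymm hj h]

/-- adjust parity with a permutation commuting with `u`. -/
theorem adjust {p : ℕ} (hp : p.Prime) {u w τ g : Perm α} (hτ : τ * u = u * τ) (hs : sign τ = -1)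
    (hg : Good p u (g * w * g⁻¹)) : ∃ g' : Perm α, sign g' = 1 ∧ Good p u (g' * w * g'⁻¹) := by
  rcases Int.units_eq_one_or (sign g) with h | h
  · exact ⟨g, h, hg⟩
  · refine ⟨τ * g, by rw [map_mul, hs, h]; rfl, ?_⟩
    have h1 := hg.conj hp τ
    have h2 : τ * u * τ⁻¹ = u := by rw [hτ]; group
    have h3 : τ * (g * w * g⁻¹) * τ⁻¹ = (τ * g) * w * (τ * g)⁻¹ := by group
    rwa [h2, h3] at h1

theorem large {p k : ℕ} (hp : p.Prime) (hodd : Odd p) {u w : Perm α} (hu1 : u ≠ 1)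
    (hu : u ^ (p ^ (k + 1)) = 1) (hw : w ^ (p ^ (k + 1)) = 1) (hw' : w ^ (p ^ k) ≠ 1)
    (h5 : 5 ≤ p ^ (k + 1)) : ∃ g : Perm α, sign g = 1 ∧ Good p u (g * w * g⁻¹) := by
  obtain ⟨y, hy⟩ := exists_cy hp hw hw'
  have hle : p ^ (k + 1) ≤ Fintype.card α := by
    rw [← hy]; exact Finset.card_le_univ _
  by_cases hc : u ^ (p ^ k) = 1
  · have hodd' : ∃ τ : Perm α, τ * u = u * τ ∧ sign τ = -1 := by
      refine odd_centr hp hc (lt_of_lt_of_le ?_ hle)
      have h1 : ∑ i ∈ Finset.range (k + 1), p ^ i = 1 + ∑ i ∈ Finset.Icc 1 k, p ^ i := by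
        rw [Finset.range_eq_Ico, Finset.sum_eq_sum_Ico_succ_bot (by omega)]
        rw [pow_zero]; rfl
      rw [← h1]
      exact Nat.geomSum_lt hp.two_le (fun i hi => Finset.mem_range.1 hi)
    obtain ⟨τ, hτ, hs⟩ := hodd'
    obtain ⟨M, c, a, a', hD, hM⟩ := greedy hp hodd hu hu1 hle
    obtain ⟨g, hg⟩ := conj_cycle (cy_cyc w y) hD.cyc hD.out (by rw [hy, hM]) (by omega)
    exact adjust hp hτ hs (hD.good hp hodd (by omega) ⟨_, hM⟩ hg)
  · obtain ⟨x, hx⟩ := exists_cy hp hu hc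
    obtain ⟨d, hd1, hd2⟩ := exists_restr (cy_cyc u x)
    have hoddc : Odd (cy u x).card := by rw [hx]; exact hodd.pow
    obtain ⟨g0, hg0⟩ := conj_cycle (cy_cyc w y) (cyc_congr (cy_cyc u x) hd1) hd2 (by rw [hy, hx])
      (by omega)
    have key : ∀ (g1 : Perm α) (a a' : α), (∀ x', x' ∉ (cy u x : Set α) → g1 x' = x') →
        Dat u (g1 * d * g1⁻¹) (cy u x) a a' → Good p u ((g1 * g0) * w * (g1 * g0)⁻¹) := by
      intro g1 a a' hg1 hD
      refine hD.good hp hodd (by omega) ⟨_, hx⟩ (fun z hz => ?_)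
      have hinvm : g1⁻¹ z ∈ (cy u x : Set α) := by
        by_contra hcon
        have h1 := hg1 _ hcon
        rw [show g1 (g1⁻¹ z) = z from g1.apply_symm_apply z] at h1
        rw [← h1] at hcon
        exact hcon hz
      have h3 : (g1 * g0) * w * (g1 * g0)⁻¹ = g1 * (g0 * w * g0⁻¹) * g1⁻¹ := by group
      rw [h3, Perm.mul_apply, Perm.mul_apply, hg0 _ hinvm]
      rfl
    rcases Int.units_eq_one_or (sign g0) with h | h
    · obtain ⟨g1, a, a', hs1, hg1, hD⟩ := base2 (cy_cyc u x) hoddc (by omega) hd1 hd2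
      exact ⟨g1 * g0, by rw [map_mul, hs1, h]; rfl, key g1 a a' hg1 hD⟩
    · obtain ⟨g1, a, a', hs1, hg1, hD⟩ := base1 (cy_cyc u x) hoddc (by omega) hd1 hd2
      exact ⟨g1 * g0, by rw [map_mul, hs1, h]; rfl, key g1 a a' hg1 hD⟩

end H56.Al
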