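import Mathlib
import Cfsg.Agent.Lib.H56.Al7

set_option autoImplicit false
set_option linter.all false

namespace H56.Al

open Equiv Equiv.Perm
open scoped commutatorElement

/-- a pair of commutators generates a nonsolvable group. -/
theorem perfect {G : Type*} [Group G] {U W x1 y1 x2 y2 : G}
    (hx1 : x1 ∈ Subgroup.closure ({U, W} : Set G)) (hy1 : y1 ∈ Subgroup.closure ({U, W} : Set G))
    (hx2 : x2 ∈ Subgroup.closure ({U, W} : Set G)) (hy2 : y2 ∈ Subgroup.closure ({U, W} : Set G))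
    (h1 : U = x1 * y1 * x1⁻¹ * y1⁻¹) (h2 : W = x2 * y2 * x2⁻¹ * y2⁻¹) (hU : U ≠ 1) :
    ¬ Group.IsSolvable ↥(Subgroup.closure ({U, W} : Set G)) := by
  intro hs
  set K := Subgroup.closure ({U, W} : Set G) with hK
  have hU' : U ∈ K := Subgroup.subset_closure (by simp)
  haveI : Nontrivial K := ⟨⟨⟨U, hU'⟩, 1, fun e => hU (congrArg Subtype.val e)⟩⟩
  haveI := hs
  have h3 := Group.IsSolvable.commutator_lt_top_of_nontrivial K
  apply h3.ne
  have h4 : K ≤ ⁅K, K⁆ := by
    rw [hK, Subgroup.closure_le, ← hK]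
    rintro z (rfl | rfl)
    · rw [h1]; exact Subgroup.commutator_mem_commutator hx1 hy1
    · rw [h2]; exact Subgroup.commutator_mem_commutator hx2 hy2
  have h5 : (commutator K).map K.subtype = ⁅K, K⁆ := Subgroup.map_subtype_commutator K
  rw [eq_top_iff]
  rintro ⟨z, hz⟩ _
  have h6 : z ∈ (commutator K).map K.subtype := by rw [h5]; exact h4 hz
  obtain ⟨z', hz', rfl⟩ := h6
  exact hz'

/-- the standard elements. -/
def T0 : Perm (Fin 5) := ⟨![1, 2, 0, 3, 4], ![2, 0, 1, 3, 4], by decide, by decide⟩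
def T1 : Perm (Fin 6) := ⟨![1, 2, 0, 3, 4, 5], ![2, 0, 1, 3, 4, 5], by decide, by decide⟩
def T2 : Perm (Fin 6) := ⟨![1, 2, 0, 4, 5, 3], ![2, 0, 1, 5, 3, 4], by decide, by decide⟩
def P0 : Perm (Fin 5) := ⟨![0, 3, 4, 1, 2], ![0, 3, 4, 1, 2], by decide, by decide⟩
def P1 : Perm (Fin 6) := ⟨![0, 2, 3, 1, 4, 5], ![0, 3, 1, 2, 4, 5], by decide, by decide⟩
def P2 : Perm (Fin 6) := ⟨![0, 1, 3, 2, 5, 4], ![0, 1, 3, 2, 5, 4], by decide, by decide⟩

theorem ord5 {G : Type*} [Group G] {x : G} (h : x ^ 5 = 1) (h1 : x ≠ 1) :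
    ¬ ∃ k : ℕ, orderOf x = 3 ^ k := by
  rintro ⟨k, hk⟩
  haveI : Fact (Nat.Prime 5) := ⟨by norm_num⟩
  have h5 : orderOf x = 5 := orderOf_eq_prime h h1
  rw [h5] at hk
  rcases Nat.eq_zero_or_pos k with rfl | h0
  · simp at hk
  · have : 3 ∣ 5 := hk ▸ dvd_pow_self 3 h0.ne'
    omega

set_option maxRecDepth 20000 in
theorem good0 : Good 3 T0 (P0 * T0 * P0⁻¹) := by
  refine ⟨ord5 (by decide) (by decide), ?_⟩
  set U := T0 with hU
  set W := P0 * T0 * P0⁻¹ with hW
  have mU : U ∈ Subgroup.closure ({U, W} : Set (Perm (Fin 5))) :=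
    Subgroup.subset_closure (by simp)
  have mW : W ∈ Subgroup.closure ({U, W} : Set (Perm (Fin 5))) :=
    Subgroup.subset_closure (by simp)
  refine perfect (x1 := W * U * U * W) (y1 := W * U * W) (x2 := U * W * U * U) (y2 := U * W * U)
    ?_ ?_ ?_ ?_ ?_ ?_ ?_
  · exact mul_mem (mul_mem (mul_mem mW mU) mU) mW
  · exact mul_mem (mul_mem mW mU) mW
  · exact mul_mem (mul_mem (mul_mem mU mW) mU) mU
  · exact mul_mem (mul_mem mU mW) mU
  · rw [hW, hU]; decide
  · rw [hW, hU]; decide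
  · rw [hU]; decide

set_option maxRecDepth 20000 in
theorem good2 : Good 3 T2 (P2 * T2 * P2⁻¹) := by
  refine ⟨ord5 (by decide) (by decide), ?_⟩
  set U := T2 with hU
  set W := P2 * T2 * P2⁻¹ with hW
  have mU : U ∈ Subgroup.closure ({U, W} : Set (Perm (Fin 6))) :=
    Subgroup.subset_closure (by simp)
  have mW : W ∈ Subgroup.closure ({U, W} : Set (Perm (Fin 6))) :=
    Subgroup.subset_closure (by simp)
  refine perfect (x1 := W * U * U * W) (y1 := W * U * W) (x2 := U * W * U * U) (y2 := U * W * U)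
    ?_ ?_ ?_ ?_ ?_ ?_ ?_
  · exact mul_mem (mul_mem (mul_mem mW mU) mU) mW
  · exact mul_mem (mul_mem mW mU) mW
  · exact mul_mem (mul_mem (mul_mem mU mW) mU) mU
  · exact mul_mem (mul_mem mU mW) mU
  · rw [hW, hU]; decide
  · rw [hW, hU]; decide
  · rw [hU]; decide

set_option maxRecDepth 20000 in
theorem good1 : Good 3 T1 (P1 * T2 * P1⁻¹) := by
  refine ⟨ord5 (by decide) (by decide), ?_⟩
  set U := T1 with hU
  set W := P1 * T2 * P1⁻¹ with hW
  have mU : U ∈ Subgroup.closure ({U, W} : Set (Perm (Fin 6))) :=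
    Subgroup.subset_closure (by simp)
  have mW : W ∈ Subgroup.closure ({U, W} : Set (Perm (Fin 6))) :=
    Subgroup.subset_closure (by simp)
  refine perfect (x1 := W * U * W * U * U * W * U * W * W) (y1 := U)
    (x2 := U * U * W * U * W * W * U * W * U) (y2 := W)
    ?_ ?_ ?_ ?_ ?_ ?_ ?_
  · exact mul_mem (mul_mem (mul_mem (mul_mem (mul_mem (mul_mem (mul_mem (mul_mem mW mU) mW) mU)
      mU) mW) mU) mW) mW
  · exact mU
  · exact mul_mem (mul_mem (mul_mem (mul_mem (mul_mem (mul_mem (mul_mem (mul_mem mU mU) mW) mU)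
      mW) mW) mU) mW) mU
  · exact mW
  · rw [hW, hU]; decide
  · rw [hW, hU]; decide
  · rw [hU]; decide

/-- combining placements. -/
theorem combine {p m : ℕ} (hp : p.Prime) {α : Type*} [Finite α] {u w : Perm α}
    {U W Q : Perm (Fin m)} (f g : Fin m → α) (hf : Function.Injective f)
    (hg : Function.Injective g) (hu : ∀ i, u (f i) = f (U i)) (hw : ∀ i, w (g i) = g (W i))
    (hG : Good p U (Q * W * Q⁻¹)) : ∃ h : Perm α, Good p u (h * w * h⁻¹) := by
  classical
  have := Equiv.Perm.isMultiplyPretransitive α m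
  rw [MulAction.isMultiplyPretransitive_iff] at this
  obtain ⟨h, hh⟩ := this ⟨g, hg⟩ ⟨fun i => f (Q i), hf.comp Q.injective⟩
  have hh' : ∀ i, h (g i) = f (Q i) := by
    intro i
    exact DFunLike.congr_fun hh i
  refine ⟨h, good_of_embed f hf hu (fun j => ?_) hG hp⟩
  obtain ⟨i, rfl⟩ := Q.surjective j
  have e1 : h⁻¹ (f (Q i)) = g i := by
    rw [Perm.inv_eq_iff_eq]; exact (hh' i).symm
  rw [Perm.mul_apply, Perm.mul_apply, e1, hw, hh']
  simp

/-- the placement of an element with only one cycle of length 3. -/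
theorem place0 {α : Type*} [Fintype α] [DecidableEq α] (h5 : 5 ≤ Fintype.card α) {u : Perm α}
    {x : α} (h1 : u x ≠ x) (h2 : u (u x) ≠ x) (h3 : u (u (u x)) = x)
    (h4 : ∀ y, u y ≠ y → y = x ∨ y = u x ∨ y = u (u x)) :
    ∃ f : Fin 5 → α, Function.Injective f ∧ ∀ i, u (f i) = f (T0 i) := by
  have h12 : u (u x) ≠ u x := fun e => h1 (u.injective e)
  have hc : 1 < (Finset.univ \ {x, u x, u (u x)}).card := by
    rw [Finset.card_sdiff_of_subset (Finset.subset_univ _), Finset.card_univ]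
    have : ({x, u x, u (u x)} : Finset α).card ≤ 3 := Finset.card_le_three
    omega
  obtain ⟨y, hy, z, hz, hyz⟩ := Finset.one_lt_card.1 hc
  simp only [Finset.mem_sdiff, Finset.mem_univ, Finset.mem_insert, Finset.mem_singleton, not_or,
    true_and] at hy hz
  have fy : u y = y := by
    by_contra hcon
    rcases h4 y hcon with e | e | e
    exacts [hy.1 e, hy.2.1 e, hy.2.2 e]
  have fz : u z = z := by
    by_contra hcon
    rcases h4 z hcon with e | e | e
    exacts [hz.1 e, hz.2.1 e, hz.2.2 e]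
  refine ⟨![x, u x, u (u x), y, z], ?_, ?_⟩
  · intro i j hij
    fin_cases i <;> fin_cases j <;> first | rfl | (exfalso; simp at hij; first
      | exact h1 hij | exact h1 hij.symm | exact h2 hij | exact h2 hij.symm | exact h12 hij
      | exact h12 hij.symm | exact hy.1 hij | exact hy.1 hij.symm | exact hy.2.1 hij
      | exact hy.2.1 hij.symm | exact hy.2.2 hij | exact hy.2.2 hij.symm
      | exact hz.1 hij | exact hz.1 hij.symm | exact hz.2.1 hij
      | exact hz.2.1 hij.symm | exact hz.2.2 hij | exact hz.2.2 hij.symm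
      | exact hyz hij | exact hyz hij.symm)
  · intro i
    fin_cases i
    · rfl
    · rfl
    · exact h3
    · exact fy
    · exact fz

end H56.Al
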