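import Mathlib
import Cfsg.Agent.Lib.H56.Al8

set_option autoImplicit false
set_option linter.all false

namespace H56.Al

open Equiv Equiv.Perm

/-- the placement of an element with only one cycle of length 3, on 6 points. -/
theorem place1 {α : Type*} [Fintype α] [DecidableEq α] (h6 : 6 ≤ Fintype.card α) {u : Perm α}
    {x : α} (h1 : u x ≠ x) (h2 : u (u x) ≠ x) (h3 : u (u (u x)) = x)
    (h4 : ∀ y, u y ≠ y → y = x ∨ y = u x ∨ y = u (u x)) :
    ∃ f : Fin 6 → α, Function.Injective f ∧ ∀ i, u (f i) = f (T1 i) := by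
  have h12 : u (u x) ≠ u x := fun e => h1 (u.injective e)
  have hc : 2 < (Finset.univ \ {x, u x, u (u x)}).card := by
    rw [Finset.card_sdiff_of_subset (Finset.subset_univ _), Finset.card_univ]
    have : ({x, u x, u (u x)} : Finset α).card ≤ 3 := Finset.card_le_three
    omega
  obtain ⟨y, hy, z, hz, t, ht, hyz, hyt, hzt⟩ := Finset.two_lt_card.1 hc
  simp only [Finset.mem_sdiff, Finset.mem_univ, Finset.mem_insert, Finset.mem_singleton, not_or,
    true_and] at hy hz ht
  have fy : u y = y := by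
    by_contra hcon
    rcases h4 y hcon with e | e | e
    exacts [hy.1 e, hy.2.1 e, hy.2.2 e]
  have fz : u z = z := by
    by_contra hcon
    rcases h4 z hcon with e | e | e
    exacts [hz.1 e, hz.2.1 e, hz.2.2 e]
  have ft : u t = t := by
    by_contra hcon
    rcases h4 t hcon with e | e | e
    exacts [ht.1 e, ht.2.1 e, ht.2.2 e]
  refine ⟨![x, u x, u (u x), y, z, t], ?_, ?_⟩
  · intro i j hij
    fin_cases i <;> fin_cases j <;> first | rfl | (exfalso; simp at hij; first
      | exact h1 hij | exact h1 hij.symm | exact h2 hij | exact h2 hij.symm | exact h12 hij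
      | exact h12 hij.symm | exact hy.1 hij | exact hy.1 hij.symm | exact hy.2.1 hij
      | exact hy.2.1 hij.symm | exact hy.2.2 hij | exact hy.2.2 hij.symm
      | exact hz.1 hij | exact hz.1 hij.symm | exact hz.2.1 hij
      | exact hz.2.1 hij.symm | exact hz.2.2 hij | exact hz.2.2 hij.symm
      | exact ht.1 hij | exact ht.1 hij.symm | exact ht.2.1 hij
      | exact ht.2.1 hij.symm | exact ht.2.2 hij | exact ht.2.2 hij.symm
      | exact hyz hij | exact hyz hij.symm | exact hyt hij | exact hyt hij.symm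
      | exact hzt hij | exact hzt hij.symm)
  · intro i
    fin_cases i
    · rfl
    · rfl
    · exact h3
    · exact fy
    · exact fz
    · exact ft

/-- the placement of an element with two cycles of length 3. -/
theorem place2 {α : Type*} {u : Perm α}
    {x y : α} (h1 : u x ≠ x) (h2 : u (u x) ≠ x) (h3 : u (u (u x)) = x)
    (k1 : u y ≠ y) (k2 : u (u y) ≠ y) (k3 : u (u (u y)) = y)
    (m0 : y ≠ x) (m1 : y ≠ u x) (m2 : y ≠ u (u x)) :
    ∃ f : Fin 6 → α, Function.Injective f ∧ ∀ i, u (f i) = f (T2 i) := by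
  have h12 : u (u x) ≠ u x := fun e => h1 (u.injective e)
  have k12 : u (u y) ≠ u y := fun e => k1 (u.injective e)
  have a1 : u y ≠ x := fun e => m2 (u.injective (e.trans h3.symm))
  have a2 : u y ≠ u x := fun e => m0 (u.injective e)
  have a3 : u y ≠ u (u x) := fun e => m1 (u.injective e)
  have b1 : u (u y) ≠ x := fun e => a3 (u.injective (e.trans h3.symm))
  have b2 : u (u y) ≠ u x := fun e => a1 (u.injective e)
  have b3 : u (u y) ≠ u (u x) := fun e => a2 (u.injective e)
  refine ⟨![x, u x, u (u x), y, u y, u (u y)], ?_, ?_⟩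
  · intro i j hij
    fin_cases i <;> fin_cases j <;> first | rfl | (exfalso; simp only [Fin.zero_eta, Fin.mk_one,
      Fin.reduceFinMk, Matrix.cons_val_zero, Matrix.cons_val_one, Matrix.cons_val] at hij; first
      | exact h1 hij | exact h1 hij.symm | exact h2 hij | exact h2 hij.symm | exact h12 hij
      | exact h12 hij.symm | exact k1 hij | exact k1 hij.symm | exact k2 hij | exact k2 hij.symm
      | exact k12 hij
      | exact k12 hij.symm
      | exact m0 hij | exact m0 hij.symm | exact m1 hij | exact m1 hij.symm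
      | exact m2 hij | exact m2 hij.symm
      | exact a1 hij | exact a1 hij.symm | exact a2 hij | exact a2 hij.symm
      | exact a3 hij | exact a3 hij.symm
      | exact b1 hij | exact b1 hij.symm | exact b2 hij | exact b2 hij.symm
      | exact b3 hij | exact b3 hij.symm)
  · intro i
    fin_cases i
    · rfl
    · rfl
    · exact h3
    · rfl
    · rfl
    · exact k3

variable {α : Type*} [Fintype α] [DecidableEq α]

theorem types {u : Perm α} (hu : u ^ 3 = 1) (hu1 : u ≠ 1) :
    (∃ x, u x ≠ x ∧ u (u x) ≠ x ∧ u (u (u x)) = x ∧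
      ∀ y, u y ≠ y → y = x ∨ y = u x ∨ y = u (u x)) ∨
    (∃ f : Fin 6 → α, Function.Injective f ∧ ∀ i, u (f i) = f (T2 i)) := by
  have h3 : ∀ x, u (u (u x)) = x := by
    intro x
    have : (u ^ 3) x = x := by rw [hu]; rfl
    exact this
  have h2 : ∀ x, u x ≠ x → u (u x) ≠ x := by
    intro x hx e
    have := h3 x
    rw [e] at this
    exact hx this
  obtain ⟨x, hx⟩ : ∃ x, u x ≠ x := by
    by_contra h
    push Not at h
    exact hu1 (Equiv.ext h)
  by_cases hc : ∀ y, u y ≠ y → y = x ∨ y = u x ∨ y = u (u x)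
  · left; exact ⟨x, hx, h2 x hx, h3 x, hc⟩
  · right
    push Not at hc
    obtain ⟨y, hy, m0, m1, m2⟩ := hc
    exact place2 hx (h2 x hx) (h3 x) hy (h2 y hy) (h3 y) m0 m1 m2

theorem symm1 {p : ℕ} (hp : p.Prime) {u w h : Perm α} (hg : Good p w (h * u * h⁻¹)) :
    Good p u (h⁻¹ * w * h⁻¹⁻¹) := by
  have h1 := hg.symm.conj hp h⁻¹
  have h2 : h⁻¹ * (h * u * h⁻¹) * h⁻¹⁻¹ = u := by group
  rwa [h2] at h1

theorem small {u w : Perm α} (h5 : 5 ≤ Fintype.card α) (hu : u ^ 3 = 1) (hu1 : u ≠ 1)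
    (hw : w ^ 3 = 1) (hw1 : w ≠ 1) : ∃ g : Perm α, sign g = 1 ∧ Good 3 u (g * w * g⁻¹) := by
  have hp : Nat.Prime 3 := by norm_num
  obtain ⟨τ, hτ, hs⟩ := odd_centr (m := 1) hp (u := u) (by rw [pow_one]; exact hu)
    (by simp; omega)
  have key : ∃ h : Perm α, Good 3 u (h * w * h⁻¹) := by
    have h6 : ∀ f : Fin 6 → α, Function.Injective f → 6 ≤ Fintype.card α := by
      intro f hf
      have := Fintype.card_le_of_injective f hf
      rwa [Fintype.card_fin] at this
    rcases types hu hu1 with ⟨x, x1, x2, x3, x4⟩ | ⟨f, hf, huf⟩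
    · rcases types hw hw1 with ⟨y, y1, y2, y3, y4⟩ | ⟨g, hg, hwg⟩
      · obtain ⟨f, hf, huf⟩ := place0 h5 x1 x2 x3 x4
        obtain ⟨g, hg, hwg⟩ := place0 h5 y1 y2 y3 y4
        exact combine hp f g hf hg huf hwg good0
      · obtain ⟨f, hf, huf⟩ := place1 (h6 g hg) x1 x2 x3 x4
        exact combine hp f g hf hg huf hwg good1
    · rcases types hw hw1 with ⟨y, y1, y2, y3, y4⟩ | ⟨g, hg, hwg⟩
      · obtain ⟨g, hg, hwg⟩ := place1 (h6 f hf) y1 y2 y3 y4
        obtain ⟨h, hh⟩ := combine hp g f hg hf hwg huf good1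
        exact ⟨h⁻¹, symm1 hp hh⟩
      · exact combine hp f g hf hg huf hwg good2
  obtain ⟨h, hh⟩ := key
  exact adjust hp hτ hs hh

theorem main_le {p : ℕ} (hp : p.Prime) (hp3 : 3 ≤ p) (h5 : 5 ≤ Fintype.card α) {u w : Perm α}
    (hu1 : u ≠ 1) (hw1 : w ≠ 1) {i k : ℕ} (hu : orderOf u = p ^ i) (hw : orderOf w = p ^ k)
    (hik : i ≤ k) : ∃ g : Perm α, sign g = 1 ∧ Good p u (g * w * g⁻¹) := by
  have hodd : Odd p := hp.odd_of_ne_two (by omega)
  obtain ⟨m, rfl⟩ : ∃ m, k = m + 1 := by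
    refine ⟨k - 1, ?_⟩
    have : k ≠ 0 := by
      rintro rfl
      rw [pow_zero, orderOf_eq_one_iff] at hw
      exact hw1 hw
    omega
  have e1 : u ^ (p ^ (m + 1)) = 1 :=
    orderOf_dvd_iff_pow_eq_one.1 (hu ▸ pow_dvd_pow p hik)
  have e2 : w ^ (p ^ (m + 1)) = 1 := orderOf_dvd_iff_pow_eq_one.1 (hw ▸ dvd_refl _)
  have e3 : w ^ (p ^ m) ≠ 1 := by
    intro h
    have := orderOf_dvd_of_pow_eq_one h
    rw [hw] at this
    have := Nat.le_of_dvd (Nat.pow_pos hp.pos) this
    have := Nat.pow_lt_pow_right hp.one_lt (Nat.lt_add_one m)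
    omega
  by_cases hc : 5 ≤ p ^ (m + 1)
  · exact large hp hodd hu1 e1 e2 e3 hc
  · push Not at hc
    have hm : m = 0 := by
      rcases Nat.eq_zero_or_pos m with h | h
      · exact h
      · exfalso
        have h1 : p ^ 2 ≤ p ^ (m + 1) := Nat.pow_le_pow_right hp.pos (by omega)
        nlinarith
    subst hm
    have hp' : p = 3 := by
      rw [zero_add, pow_one] at hc
      have : p ≠ 4 := by rintro rfl; revert hp; decide
      omega
    subst hp'
    rw [zero_add, pow_one] at e1 e2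
    exact small h5 e1 hu1 e2 hw1

theorem main {p : ℕ} (hp : p.Prime) (hp3 : 3 ≤ p) (h5 : 5 ≤ Fintype.card α) {u w : Perm α}
    (hu1 : u ≠ 1) (hw1 : w ≠ 1) {i k : ℕ} (hu : orderOf u = p ^ i) (hw : orderOf w = p ^ k) :
    ∃ g : Perm α, sign g = 1 ∧ Good p u (g * w * g⁻¹) := by
  rcases le_total i k with h | h
  · exact main_le hp hp3 h5 hu1 hw1 hu hw h
  · obtain ⟨g, hg, hG⟩ := main_le hp hp3 h5 hw1 hu1 hw hu h
    exact ⟨g⁻¹, by rw [map_inv, hg, inv_one], symm1 hp hG⟩

end H56.Al
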