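import Mathlib
import Cfsg.Agent.Lib.H56.BZ0
import Cfsg.Agent.Lib.H51.BauMain2

set_option autoImplicit false
set_option linter.all false

namespace H56.BmT

open Subgroup Cfsg H51.FF H51.OG H52.PRes H52.PCore H51.Bau H1.Coprime2 H56.BmP H56.BmQ H56.BmV H56.BmZ
open scoped commutatorElement

theorem ne_le {G : Type*} [Group G] [Finite G] {p : ℕ} [hp : Fact p.Prime] {T : Sylow p G} {E : Subgroup G}
    (hE : IsBaumannBlock p (T : Subgroup G) E) : ⁅pCore p G, E⁆ ≤ pCoreOf p E := by
  have hN : (pCore p G).Normal := inferInstance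
  have h1 : ⁅pCore p G, E⁆ ≤ E := by
    rw [Subgroup.commutator_comm]
    exact commutator_le_left (core_nz hE)
  have h2 : ⁅pCore p G, E⁆ ≤ pCore p G := by
    exact commutator_le_left (by rw [Subgroup.normalizer_eq_top]; exact le_top)
  refine le_pCoreOf h1 ?_ ((isPGroup_pCore (G := G) (p := p)).to_le h2)
  exact normalizer_commutator_ge_right _ _

section three
attribute [local instance] three_prime

theorem ne3 {G : Type*} [Group G] [Finite G] {T : Sylow 3 G} {E : Subgroup G}
    (hG : centralizer (pCore 3 G : Set G) ≤ pCore 3 G) (hE : IsBaumannBlock 3 (T : Subgroup G) E) :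
    ⁅pCore 3 G, E⁆ ≤ Uf G ∧ ∀ d ∈ D0 G, ∀ q ∈ ⁅pCore 3 G, E⁆, d * q * d⁻¹ * q⁻¹ ∈ Vn G := by
  have key : ⁅pCore 3 G, E⁆ ≤ Vn G →
      ⁅pCore 3 G, E⁆ ≤ Uf G ∧ ∀ d ∈ D0 G, ∀ q ∈ ⁅pCore 3 G, E⁆, d * q * d⁻¹ * q⁻¹ ∈ Vn G := by
    intro h
    refine ⟨h.trans Vn_le_Uf, fun d hd q hq => ?_⟩
    have : d * q * d⁻¹ * q⁻¹ = 1 := by
      rw [(mem_D0.1 hd).1 q (h hq)]; group
    rw [this]; exact one_mem _
  rcases exists_ex hG hE with h | h | ⟨F, i1, i2, ex⟩
  · apply key
    refine (ne_le hE).trans ?_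
    refine le_trans ?_ (block_le hG hE)
    have h2 := hE.2.2.1
    conv_lhs => rw [← h2]
    exact Subgroup.commutator_mono h.le le_rfl
  · apply key
    have hVn : (VG 3 G).Normal := VG_normal
    have hNn : (pCore 3 G).Normal := inferInstance
    let S : Subgroup G :=
      { carrier := {g | ∀ n ∈ pCore 3 G, g * n * g⁻¹ * n⁻¹ ∈ VG 3 G}
        one_mem' := fun n _ => by
          have : 1 * n * 1⁻¹ * n⁻¹ = 1 := by group
          rw [this]; exact one_mem _
        mul_mem' := by
          intro x y hx hy n hn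
          have e : (x * y) * n * (x * y)⁻¹ * n⁻¹ = (x * (y * n * y⁻¹ * n⁻¹) * x⁻¹) * (x * n * x⁻¹ * n⁻¹) := by group
          rw [e]
          exact mul_mem (hVn.conj_mem _ (hy n hn) x) (hx n hn)
        inv_mem' := by
          intro x hx n hn
          have e : x⁻¹ * n * x⁻¹⁻¹ * n⁻¹ = x⁻¹ * (x * n * x⁻¹ * n⁻¹)⁻¹ * x⁻¹⁻¹ := by group
          rw [e]
          exact hVn.conj_mem _ (inv_mem (hx n hn)) _ }
    have hES : E ≤ S := by
      have hres : resOf 3 E = E := hE.1
      rw [← hres, resOf_eq_closure, closure_le]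
      rintro y ⟨hyE, hyc⟩
      have hyN : zpowers y ≤ normalizer (pCore 3 G : Set G) := by
        rw [Subgroup.normalizer_eq_top]; exact le_top
      have hcop : (Nat.card (zpowers y)).Coprime (Nat.card (pCore 3 G)) := by
        rw [Nat.card_zpowers]
        obtain ⟨m, hm⟩ := IsPGroup.iff_card.1 (isPGroup_pCore (G := G) (p := 3))
        rw [hm]
        exact Nat.Coprime.pow_right m hyc
      have hsolv : Group.IsSolvable (zpowers y) := by
        have : IsMulCommutative (zpowers y) := inferInstance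
        exact isSolvable_of_comm (fun a b => this.is_comm.comm a b)
      have h3 := commutator_commutator_eq (zpowers y) (pCore 3 G) hyN hcop (Or.inl hsolv)
      have hyE' : zpowers y ≤ E := by rw [zpowers_le]; exact hyE
      have h4 : ⁅pCore 3 G, zpowers y⁆ ≤ VG 3 G := by
        rw [← h3]
        refine le_trans ?_ (block_le hG hE)
        exact Subgroup.commutator_mono ((Subgroup.commutator_mono le_rfl hyE').trans h) hyE'
      intro n hn
      have h5 := h4 (Subgroup.commutator_mem_commutator hn (mem_zpowers y))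
      have e1 : y * n * y⁻¹ * n⁻¹ = ⁅n, y⁆⁻¹ := by rw [commutatorElement_def]; group
      rw [e1]; exact inv_mem h5
    rw [Subgroup.commutator_le]
    intro n hn e he
    have e1 : ⁅n, e⁆ = (e * n * e⁻¹ * n⁻¹)⁻¹ := by rw [commutatorElement_def]; group
    rw [e1]; exact inv_mem (hES he n hn)
  · exact ⟨(ne_le hE).trans ex.QU, fun d hd q hq => ex.fixD0 lemM ex.quad_main d hd q (ne_le hE hq)⟩

theorem rr3 {G : Type*} [Group G] [Finite G] {T₁ T₂ : Sylow 3 G} {E F : Subgroup G}
    (hG : centralizer (pCore 3 G : Set G) ≤ pCore 3 G) (hE : IsBaumannBlock 3 (T₁ : Subgroup G) E)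
    (hF : IsBaumannBlock 3 (T₂ : Subgroup G) F) :
    ∃ R : Subgroup G, R.Normal ∧ ⁅pCore 3 G, E⁆ ≤ R ∧ ⁅pCore 3 G, F⁆ ≤ R ∧
      ∀ y ∈ centralizer (VG 3 G : Set G), (∀ n ∈ pCore 3 G, y * n * y⁻¹ * n⁻¹ ∈ R) →
        ∀ q ∈ R, y * q * y⁻¹ * q⁻¹ ∈ VG 3 G := by
  have hVn : (VG 3 G).Normal := VG_normal
  have hDn : (D0 G).Normal := inferInstance
  have hUn : (Uf G).Normal := inferInstance
  let M : Subgroup G :=
    { carrier := {q | ∀ d ∈ D0 G, d * q * d⁻¹ * q⁻¹ ∈ VG 3 G}
      one_mem' := fun d _ => by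
        have : d * 1 * d⁻¹ * 1⁻¹ = 1 := by group
        rw [this]; exact one_mem _
      mul_mem' := by
        intro a b ha hb d hd
        have e : d * (a * b) * d⁻¹ * (a * b)⁻¹ = (d * a * d⁻¹ * a⁻¹) * (a * (d * b * d⁻¹ * b⁻¹) * a⁻¹) := by group
        rw [e]
        exact mul_mem (ha d hd) (hVn.conj_mem _ (hb d hd) a)
      inv_mem' := by
        intro a ha d hd
        have e : d * a⁻¹ * d⁻¹ * a⁻¹⁻¹ = a⁻¹ * (d * a * d⁻¹ * a⁻¹)⁻¹ * a⁻¹⁻¹ := by group
        rw [e]
        exact hVn.conj_mem _ (inv_mem (ha d hd)) _ }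
  have hMn : M.Normal := by
    constructor
    intro q hq g d hd
    have h1 := hq (g⁻¹ * d * g) (by
      have := hDn.conj_mem d hd g⁻¹
      rwa [inv_inv] at this)
    have e : d * (g * q * g⁻¹) * d⁻¹ * (g * q * g⁻¹)⁻¹ = g * ((g⁻¹ * d * g) * q * (g⁻¹ * d * g)⁻¹ * q⁻¹) * g⁻¹ := by group
    rw [e]
    exact hVn.conj_mem _ h1 g
  obtain ⟨e1, e2⟩ := ne3 hG hE
  obtain ⟨f1, f2⟩ := ne3 hG hF
  refine ⟨Uf G ⊓ M, Subgroup.normal_inf_normal _ _, le_inf e1 (fun q hq d hd => e2 d hd q hq),
    le_inf f1 (fun q hq d hd => f2 d hd q hq), ?_⟩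
  intro y hy hyn q hq
  refine hq.2 y (mem_D0.2 ⟨fun v hv => (mem_centralizer_iff.1 hy v hv).symm, fun n hn => (hyn n hn).1⟩)

end three

variable {G : Type*} [Group G] [Finite G] {p : ℕ} [hp : Fact p.Prime]

theorem rr {T₁ T₂ : Sylow p G} {E F : Subgroup G}
    (hG : centralizer (pCore p G : Set G) ≤ pCore p G) (hE : IsBaumannBlock p (T₁ : Subgroup G) E)
    (hF : IsBaumannBlock p (T₂ : Subgroup G) F) :
    ∃ R : Subgroup G, R.Normal ∧ ⁅pCore p G, E⁆ ≤ R ∧ ⁅pCore p G, F⁆ ≤ R ∧
      ∀ y ∈ centralizer (VG p G : Set G), (∀ n ∈ pCore p G, y * n * y⁻¹ * n⁻¹ ∈ R) →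
        ∀ q ∈ R, y * q * y⁻¹ * q⁻¹ ∈ VG p G := by
  by_cases hp3 : p = 3
  · subst hp3
    exact rr3 hG hE hF
  · refine ⟨VG p G, VG_normal, ?_, ?_, ?_⟩
    · exact (ne_le hE).trans (((H52.BB.Q_or hE).resolve_left hp3).trans (block_le hG hE))
    · exact (ne_le hF).trans (((H52.BB.Q_or hF).resolve_left hp3).trans (block_le hG hF))
    · intro y hy _ q hq
      have : y * q * y⁻¹ * q⁻¹ = 1 := by
        rw [← mem_centralizer_iff.1 hy q hq]; group
      rw [this]; exact one_mem _

theorem tail {T₁ T₂ : Sylow p G} {E F : Subgroup G} (hG : centralizer (pCore p G : Set G) ≤ pCore p G)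
    (hE : IsBaumannBlock p (T₁ : Subgroup G) E) (hF : IsBaumannBlock p (T₂ : Subgroup G) F)
    (hEs : E.IsSubnormal) (h : F ≤ E ⊔ centralizer (WB p E : Set G)) : F ≤ E ∨ ⁅E, F⁆ = ⊥ := by
  set C := centralizer (WB p E : Set G) with hC
  have hCE : C ≤ normalizer (E : Set G) := cent_le_nz hG T₁ E hE
  have hFE : F ≤ normalizer (E : Set G) := h.trans (sup_le Subgroup.le_normalizer hCE)
  have hEW : E ≤ normalizer (WB p E : Set G) := Subgroup.le_normalizer.trans nz_WE
  have hFW : F ≤ normalizer (WB p E : Set G) := hFE.trans nz_WE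
  have hEC : E ≤ normalizer (C : Set G) := le_normalizer_centralizer hEW
  have hNE : pCoreOf p E ≤ pCore p G := pCoreOf_le_pCore_of_subnormal hEs
  have hWV : WB p E ≤ VG p G := block_le hG hE
  have hWFV : WB p F ≤ VG p G := block_le hG hF
  have hVe : IsElementaryAbelian p (VG p G) := H13.Omega.isElementaryAbelian_omegaZ _
  have hVp : IsPGroup p (VG p G) := (isPGroup_pCore (G := G) (p := p)).to_le (H13.Omega.omegaZ_le _)
  by_cases hFC : F ≤ C
  · right
    have h1 : ⁅WB p E, F⁆ = ⊥ := by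
      rw [Subgroup.commutator_comm, Subgroup.commutator_eq_bot_iff_le_centralizer]; exact hFC
    refine last hG hE hF h1 ?_
    have h2 : ⁅F, E⁆ ≤ pCoreOf p E := by
      rw [← H52.BB.cent hE]
      refine le_inf ?_ ?_
      · rw [Subgroup.commutator_comm]
        exact commutator_le_left hFE
      · rw [Subgroup.commutator_le]
        intro f hf e he
        rw [commutatorElement_def]
        have e1 : f * e * f⁻¹ * e⁻¹ = f * (e * f⁻¹ * e⁻¹) := by group
        rw [e1]
        exact mul_mem (hFC hf) ((mem_normalizer_iff.1 (hEC he) _).1 (inv_mem (hFC hf)))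
    have h3 : ⁅⁅F, E⁆, VG p G⁆ = ⊥ := by
      rw [H26.Basic.commutator_eq_bot_iff_forall]
      intro n hn x hx
      exact core_comm hx (hNE (h2 hn))
    have h4 : ⁅⁅E, VG p G⁆, F⁆ = ⊥ := by
      rw [Subgroup.commutator_comm E, (block_main hG hE).1]
      exact h1
    have h5 := Subgroup.commutator_commutator_eq_bot_of_rotate h3 h4
    rw [(block_main hG hF).1] at h5
    exact h5
  · left
    -- `W_F ≤ W_E`
    have hU1 : ⁅WB p E, F⁆ ≤ WB p E := commutator_le_left hFW
    have hU2 : ⁅WB p E, F⁆ ≤ WB p F := by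
      show _ ≤ ⁅omegaOneCenter p (pCoreOf p F), F⁆
      rw [← (block_main hG hF).1]
      exact Subgroup.commutator_mono hWV le_rfl
    have hU3 : F ≤ normalizer ((⁅WB p E, F⁆ : Subgroup G) : Set G) := normalizer_commutator_ge_right _ _
    have hWW : WB p F ≤ WB p E := by
      rcases wb_irr hF hU2 hU3 with h6 | h6
      · exfalso
        apply hFC
        have h7 : ⁅⁅WB p E, F⁆, F⁆ = ⊥ := by
          rw [Subgroup.commutator_eq_bot_iff_le_centralizer]; exact h6
        have h8 : ⁅WB p E, F⁆ = ⊥ := comm_bot hF.1 (hVp.to_le (hU1.trans hWV)) le_rfl h7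
        rw [Subgroup.commutator_comm, Subgroup.commutator_eq_bot_iff_le_centralizer] at h8
        exact h8
      · exact h6.trans hU1
    obtain ⟨R, hRn, hRE, hRF, hRy⟩ := rr hG hE hF
    set X := E ⊔ F with hX
    have hXW : X ≤ normalizer (WB p E : Set G) := sup_le hEW hFW
    -- the action of X on V
    have hXV : ∀ x ∈ X, ∀ v ∈ VG p G, x * v * x⁻¹ * v⁻¹ ∈ WB p E := by
      let S : Subgroup G :=
        { carrier := {g | g ∈ normalizer (WB p E : Set G) ∧ ∀ n ∈ VG p G, g * n * g⁻¹ * n⁻¹ ∈ WB p E}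
          one_mem' := ⟨one_mem _, fun n _ => by
            have : 1 * n * 1⁻¹ * n⁻¹ = 1 := by group
            rw [this]; exact one_mem _⟩
          mul_mem' := by
            rintro x y ⟨hx, hx'⟩ ⟨hy, hy'⟩
            refine ⟨mul_mem hx hy, fun n hn => ?_⟩
            have e : (x * y) * n * (x * y)⁻¹ * n⁻¹ = (x * (y * n * y⁻¹ * n⁻¹) * x⁻¹) * (x * n * x⁻¹ * n⁻¹) := by group
            rw [e]
            exact mul_mem ((mem_normalizer_iff.1 hx _).1 (hy' n hn)) (hx' n hn)
          inv_mem' := by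
            rintro x ⟨hx, hx'⟩
            refine ⟨inv_mem hx, fun n hn => ?_⟩
            have e : x⁻¹ * n * x⁻¹⁻¹ * n⁻¹ = x⁻¹ * (x * n * x⁻¹ * n⁻¹)⁻¹ * x⁻¹⁻¹ := by group
            rw [e]
            exact (mem_normalizer_iff.1 (inv_mem hx) _).1 (inv_mem (hx' n hn)) }
      have hES : E ≤ S := by
        intro e he
        refine ⟨hEW he, fun v hv => ?_⟩
        have h6 : ⁅e, v⁆ ∈ ⁅E, VG p G⁆ := Subgroup.commutator_mem_commutator he hv
        rw [Subgroup.commutator_comm, (block_main hG hE).1] at h6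
        exact h6
      have hFS : F ≤ S := by
        intro e he
        refine ⟨hFW he, fun v hv => ?_⟩
        have h6 : ⁅e, v⁆ ∈ ⁅F, VG p G⁆ := Subgroup.commutator_mem_commutator he hv
        rw [Subgroup.commutator_comm, (block_main hG hF).1] at h6
        exact hWW h6
      intro x hx
      exact (sup_le hES hFS hx).2
    have hXN : ∀ x ∈ X, ∀ n ∈ pCore p G, x * n * x⁻¹ * n⁻¹ ∈ R := by
      let S : Subgroup G :=
        { carrier := {g | ∀ n ∈ pCore p G, g * n * g⁻¹ * n⁻¹ ∈ R}
          one_mem' := fun n _ => by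
            have : 1 * n * 1⁻¹ * n⁻¹ = 1 := by group
            rw [this]; exact one_mem _
          mul_mem' := by
            intro x y hx hy n hn
            have e : (x * y) * n * (x * y)⁻¹ * n⁻¹ = (x * (y * n * y⁻¹ * n⁻¹) * x⁻¹) * (x * n * x⁻¹ * n⁻¹) := by group
            rw [e]
            exact mul_mem (hRn.conj_mem _ (hy n hn) x) (hx n hn)
          inv_mem' := by
            intro x hx n hn
            have e : x⁻¹ * n * x⁻¹⁻¹ * n⁻¹ = x⁻¹ * (x * n * x⁻¹ * n⁻¹)⁻¹ * x⁻¹⁻¹ := by group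
            rw [e]
            exact hRn.conj_mem _ (inv_mem (hx n hn)) _ }
      have hES : E ≤ S := by
        intro e he n hn
        have h6 : ⁅e, n⁆ ∈ ⁅E, pCore p G⁆ := Subgroup.commutator_mem_commutator he hn
        rw [Subgroup.commutator_comm] at h6
        exact hRE h6
      have hFS : F ≤ S := by
        intro e he n hn
        have h6 : ⁅e, n⁆ ∈ ⁅F, pCore p G⁆ := Subgroup.commutator_mem_commutator he hn
        rw [Subgroup.commutator_comm] at h6
        exact hRF h6
      intro x hx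
      exact sup_le hES hFS hx
    -- L
    set L := X ⊓ C with hL
    have hLp : IsPGroup p L := by
      rw [← resOf_eq_bot_iff, eq_bot_iff, resOf_eq_closure, closure_le]
      rintro y ⟨⟨hyX, hyC⟩, hyc⟩
      have hsolv : Group.IsSolvable (zpowers y) := by
        have : IsMulCommutative (zpowers y) := inferInstance
        exact isSolvable_of_comm (fun a b => this.is_comm.comm a b)
      have hcop : ∀ K : Subgroup G, IsPGroup p K → (Nat.card (zpowers y)).Coprime (Nat.card K) := by
        intro K hK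
        rw [Nat.card_zpowers]
        obtain ⟨m, hm⟩ := IsPGroup.iff_card.1 hK
        rw [hm]
        exact Nat.Coprime.pow_right m hyc
      have hzX : zpowers y ≤ X := by rw [zpowers_le]; exact hyX
      have hzC : zpowers y ≤ C := by rw [zpowers_le]; exact hyC
      have hVnz : zpowers y ≤ normalizer (VG p G : Set G) := by
        have : (VG p G).Normal := VG_normal
        rw [Subgroup.normalizer_eq_top]; exact le_top
      have hNnz : zpowers y ≤ normalizer (pCore p G : Set G) := by
        rw [Subgroup.normalizer_eq_top]; exact le_top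
      have t1 : zpowers y ≤ centralizer (VG p G : Set G) := by
        refine le_centralizer_of_series (zpowers y) (VG p G) (WB p E) hVnz (hcop _ hVp) (Or.inl hsolv) ?_ ?_
        · rw [Subgroup.commutator_le]
          intro v hv z hz
          have h6 := hXV z (hzX hz) v hv
          have e1 : ⁅v, z⁆ = (z * v * z⁻¹ * v⁻¹)⁻¹ := by rw [commutatorElement_def]; group
          rw [e1]; exact inv_mem h6
        · rw [Subgroup.commutator_comm, Subgroup.commutator_eq_bot_iff_le_centralizer]
          exact hzC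
      have t2 : ∀ z ∈ zpowers y, ∀ q ∈ R, z * q * z⁻¹ * q⁻¹ ∈ VG p G := fun z hz =>
        hRy z (t1 hz) (fun n hn => hXN z (hzX hz) n hn)
      have hNp : IsPGroup p (pCore p G) := isPGroup_pCore
      have t3 : zpowers y ≤ centralizer ((R ⊓ pCore p G : Subgroup G) : Set G) := by
        have hRNn : (R ⊓ pCore p G).Normal := Subgroup.normal_inf_normal _ _
        refine le_centralizer_of_series (zpowers y) (R ⊓ pCore p G) (VG p G) ?_ (hcop _ (hNp.to_le inf_le_right))
          (Or.inl hsolv) ?_ ?_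
        · rw [Subgroup.normalizer_eq_top]; exact le_top
        · rw [Subgroup.commutator_le]
          intro v hv z hz
          have h6 := t2 z hz v hv.1
          have e1 : ⁅v, z⁆ = (z * v * z⁻¹ * v⁻¹)⁻¹ := by rw [commutatorElement_def]; group
          rw [e1]; exact inv_mem h6
        · rw [Subgroup.commutator_comm, Subgroup.commutator_eq_bot_iff_le_centralizer]
          exact t1
      have t4 : zpowers y ≤ centralizer (pCore p G : Set G) := by
        have hNn : (pCore p G).Normal := inferInstance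
        refine le_centralizer_of_series (zpowers y) (pCore p G) (R ⊓ pCore p G) hNnz (hcop _ hNp)
          (Or.inl hsolv) ?_ ?_
        · rw [Subgroup.commutator_le]
          intro v hv z hz
          have h6 := hXN z (hzX hz) v hv
          have e1 : ⁅v, z⁆ = (z * v * z⁻¹ * v⁻¹)⁻¹ := by rw [commutatorElement_def]; group
          rw [e1]
          have h7 : z * v * z⁻¹ * v⁻¹ ∈ pCore p G := mul_mem (hNn.conj_mem v hv z) (inv_mem hv)
          have h8 : z * v * z⁻¹ * v⁻¹ ∈ R ⊓ pCore p G := ⟨h6, h7⟩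
          exact inv_mem h8
        · rw [Subgroup.commutator_comm, Subgroup.commutator_eq_bot_iff_le_centralizer]
          exact t3
      have h4 : y ∈ pCore p G := hG (t4 (mem_zpowers y))
      obtain ⟨k, hk⟩ := hNp ⟨y, h4⟩
      have hk' : y ^ p ^ k = 1 := congrArg Subtype.val hk
      have h5 : orderOf y ∣ p ^ k := orderOf_dvd_of_pow_eq_one hk'
      have h6 := Nat.Coprime.eq_one_of_dvd (Nat.Coprime.pow_right k hyc) h5
      exact orderOf_eq_one_iff.1 h6
    have hLE : L ≤ normalizer (E : Set G) := inf_le_right.trans hCE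
    have hFL : F ≤ E ⊔ L := by
      intro f hf
      obtain ⟨e, he, c, hc, hec⟩ := (H13.Norm.mem_sup_of_le_normalizer' hCE).1 (h hf)
      have hcX : c ∈ X := by
        have : c = e⁻¹ * f := by rw [← hec]; group
        rw [this]
        exact mul_mem (inv_mem (Subgroup.mem_sup_left he)) (Subgroup.mem_sup_right hf)
      rw [← hec]
      exact mul_mem (Subgroup.mem_sup_left he) (Subgroup.mem_sup_right ⟨hcX, hc⟩)
    have hres := res_sup hE.1 hLp hLE
    have h9 : resOf p F ≤ resOf p (E ⊔ L) := resOf_mono hFL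
    have h10 : resOf p F = F := hF.1
    have h11 : resOf p (E ⊔ L) = E := hres
    rw [h10, h11] at h9
    exact h9

end H56.BmT
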