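import Mathlib
import Cfsg.Agent.Lib.H56.BmT
import Cfsg.Agent.Lib.H53.BZG3
import Cfsg.Agent.Lib.H36.BZcg

set_option autoImplicit false
set_option linter.all false

namespace H56.BZ

open Subgroup Cfsg H51.FF H51.OG H52.PRes H52.PCore H51.Bau H1.Coprime2 H56.BmP H56.BmQ H56.BmV H56.BmZ
open scoped commutatorElement MatrixGroups

variable {G : Type*} [Group G] [Finite G] {p : ℕ} [hp : Fact p.Prime]
variable {T : Sylow p G} {E : Subgroup G}

theorem coe_smul (g : G) (S : Sylow p G) : ((g • S : Sylow p G) : Subgroup G) = cg g (S : Subgroup G) := rfl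

/-- conjugates of a subnormal block coincide with it or commute with it -/
theorem com_of (hG : centralizer (pCore p G : Set G) ≤ pCore p G) (hE : IsBaumannBlock p (T : Subgroup G) E)
    (hEs : E.IsSubnormal) (g : G) :
    E.map (MulAut.conj g).toMonoidHom = E ∨ ⁅E.map (MulAut.conj g).toMonoidHom, E⁆ = ⊥ := by
  have hE' : IsBaumannBlock p ((g • T : Sylow p G) : Subgroup G) (E.map (MulAut.conj g).toMonoidHom) := by
    rw [coe_smul]
    exact H36.BZ.block_cg hE g
  have hEs' : (E.map (MulAut.conj g).toMonoidHom).IsSubnormal := hEs.map (MulAut.conj g).surjective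
  exact H56.BmZ.main (fun hE hF hEs hFs h1 h2 => H52.BB.fin hG hE hF hEs hFs h1 h2) hG hE' hE hEs' hEs

theorem B_le (T' : Sylow p G) : baumannSubgroupOf p (T' : Subgroup G) ≤ baumannSubgroup p G :=
  le_iSup (fun T : Sylow p G => baumannSubgroupOf p (T : Subgroup G)) T'

theorem B_normal : (baumannSubgroup p G).Normal := by
  constructor
  intro x hx g
  have h1 : cg g (baumannSubgroup p G) ≤ baumannSubgroup p G := by
    unfold cg baumannSubgroup
    rw [Subgroup.map_iSup]
    apply iSup_le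
    intro S
    have h2 : cg g (baumannSubgroupOf p (S : Subgroup G)) = baumannSubgroupOf p ((g • S : Sylow p G) : Subgroup G) := by
      rw [bau_cg]; rfl
    have h3 : cg g (baumannSubgroupOf p (S : Subgroup G)) ≤ baumannSubgroup p G := by
      rw [h2]; exact B_le _
    exact h3
  exact h1 ⟨x, hx, rfl⟩

theorem block_le_B {F : Subgroup G} {T' : Sylow p G} (hF : IsBaumannBlock p (T' : Subgroup G) F) :
    F ≤ baumannSubgroup p G := by
  have h1 := hF.2.1
  conv_lhs => rw [← h1]
  rw [Subgroup.commutator_le]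
  intro f hf b hb
  have hb' := B_le T' hb
  rw [commutatorElement_def]
  exact mul_mem (B_normal.conj_mem b hb' f) (inv_mem hb')

theorem glue (hG : centralizer (pCore p G : Set G) ≤ pCore p G) (hE : IsBaumannBlock p (T : Subgroup G) E)
    (hEs : E.IsSubnormal)
    (hHP : ∀ T : Sylow p G, IsBaumannBlock p (T : Subgroup G) E → HP p (T : Subgroup G) E)
    (hFP : ∀ T : Sylow p G, IsBaumannBlock p (T : Subgroup G) E → FP p (T : Subgroup G) E)
    (P1 : ∀ T' : Sylow p G, thompsonSubgroupOf p (T' : Subgroup G) ≤ normalizer (E : Set G))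
    (G1 : ∀ T : Sylow p G, IsBaumannBlock p (T : Subgroup G) E →
      ¬ (WB p E ⊓ centralizer (thompsonSubgroupOf p (T : Subgroup G) : Set G) ≤ centralizer (E : Set G)) →
      centralizer (omegaOne p (centerThompsonOf p (T : Subgroup G)) : Set G) ≤ normalizer (E : Set G))
    (G2 : ∀ T' : Sylow p G,
      ¬ (WB p E ⊓ centralizer (((T' : Subgroup G) ⊓ normalizer (E : Set G) : Subgroup G) : Set G) ≤ centralizer (E : Set G)) →
      ⁅E, omegaOneCenter p (T' : Subgroup G)⁆ ≠ ⊥) :
    E ≤ Cfsg.baumannSubgroup p G ∧ Cfsg.baumannSubgroup p G ≤ Subgroup.normalizer (E : Set G) ∧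
      (∀ T' : Sylow p G, Cfsg.IsBaumannBlock p (T' : Subgroup G) E) ∧
      ∀ F : Subgroup G, (∃ T' : Sylow p G, Cfsg.IsBaumannBlock p (T' : Subgroup G) F) → F ≤ E ∨ ⁅F, E⁆ = ⊥ := by
  have hJp : ∀ T' : Sylow p G, IsPGroup p (thompsonSubgroupOf p (T' : Subgroup G)) := fun T' =>
    T'.2.to_le (H13.SylowN.thompsonOf_le _)
  have hTJ : ∀ T' : Sylow p G, (T' : Subgroup G) ≤ normalizer (thompsonSubgroupOf p (T' : Subgroup G) : Set G) := by
    intro T' t ht
    have h1 : t ∈ normalizer ((T' : Subgroup G) : Set G) := Subgroup.le_normalizer ht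
    rw [mem_nz_iff] at h1 ⊢
    rw [thompson_cg, h1]
  have hC : ∀ T' : Sylow p G, IsBaumannBlock p (T' : Subgroup G) E →
      centralizer (omegaOne p (centerThompsonOf p (T' : Subgroup G)) : Set G) ≤ normalizer (E : Set G) := by
    intro T' hT'
    exact G1 T' hT' (hFP T' hT' _ (hJp T') (P1 T') le_rfl Subgroup.le_normalizer)
  have hall : ∀ T' : Sylow p G, IsBaumannBlock p (T' : Subgroup G) E := by
    intro T'
    obtain ⟨T'', hT'', hJ, hB⟩ := H53.BZ.sameB hG hE P1 hC T'
    have hne : ⁅E, omegaOneCenter p (T' : Subgroup G)⁆ ≠ ⊥ := by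
      apply G2 T'
      apply hFP T'' hT''
      · exact T'.2.to_le inf_le_left
      · exact inf_le_right
      · rw [hJ]
        exact le_inf (H13.SylowN.thompsonOf_le _) (P1 T')
      · rw [hJ]
        exact inf_le_left.trans (hTJ T')
    obtain ⟨h1, h2, h3, h4, h5⟩ := hT''
    rw [hB] at h2 h5
    exact ⟨h1, h2, h3, hne, h5⟩
  have hBN : baumannSubgroup p G ≤ normalizer (E : Set G) := by
    apply iSup_le
    intro T'
    exact le_nz_of_comm (hall T').2.1
  refine ⟨block_le_B hE, hBN, hall, ?_⟩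
  rintro F ⟨T', hF⟩
  obtain ⟨H, h1, h2, h3, h4, h5⟩ := hHP T' (hall T')
  have hFE : F ≤ normalizer (E : Set G) := (block_le_B hF).trans hBN
  have hFH : F ≤ H := by
    have h6 := hF.2.1
    conv_lhs => rw [← h6]
    rw [Subgroup.commutator_le]
    intro f hf b hb
    rw [commutatorElement_def]
    exact mul_mem ((mem_normalizer_iff.1 (h3 (hFE hf)) b).1 (h4 hb)) (inv_mem (h4 hb))
  have hFC : F ≤ E ⊔ centralizer (WB p E : Set G) := by
    have hres : resOf p F = F := hF.1
    rw [← hres, resOf_eq_closure, closure_le]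
    rintro y ⟨hyF, hyc⟩
    obtain ⟨k, hk⟩ := h5 y (hFH hyF)
    -- y is a power of y ^ p ^ k
    have hcop : (orderOf y).Coprime (p ^ k) := Nat.Coprime.pow_right k hyc
    obtain ⟨m, hm⟩ := exists_pow_eq_self_of_coprime hcop.symm
    show y ∈ _
    rw [← hm]
    exact pow_mem hk m
  rcases H56.BmT.tail hG hE hF hEs hFC with h | h
  · exact Or.inl h
  · right
    rw [Subgroup.commutator_comm]; exact h

end H56.BZ
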