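import Mathlib
import Cfsg.Agent.Lib.H56.BZF
import Cfsg.Agent.Lib.H14.SFF

set_option autoImplicit false
set_option linter.all false

namespace H56.BZ

open Subgroup Cfsg H51.FF H51.OG H52.PRes H52.PCore H51.Bau H1.Coprime2 H56.BmP H56.BmQ H56.BmV H56.BmZ
open scoped commutatorElement MatrixGroups

variable {G : Type*} [Group G] [Finite G] {p : ℕ} [hp : Fact p.Prime]
variable {T : Sylow p G} {E : Subgroup G}

theorem fp_of_Z (hG : centralizer (pCore p G : Set G) ≤ pCore p G) (hE : IsBaumannBlock p (T : Subgroup G) E)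
    (hZ : WB p E ⊓ centralizer (E : Set G) = ⊥) : FP p (T : Subgroup G) E := by
  intro R hR hRE _ _ hcon
  have hWV : WB p E ≤ VG p G := block_le hG hE
  have hVp : IsPGroup p (VG p G) := (isPGroup_pCore (G := G) (p := p)).to_le (H13.Omega.omegaZ_le _)
  obtain ⟨v, hv, hv1, hvR⟩ := H14.SF.exists_fixed_group (hVp.to_le hWV) (block_main hG hE).2.1 hR
    (hRE.trans nz_WE)
  apply hv1
  have h1 : v ∈ WB p E ⊓ centralizer (R : Set G) := by
    refine ⟨hv, ?_⟩
    apply mem_centralizer_iff.2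
    intro x hx
    exact mul_inv_eq_iff_eq_mul.1 (hvR x hx)
  have h2 : v ∈ WB p E ⊓ centralizer (E : Set G) := ⟨hv, hcon h1⟩
  rw [hZ, mem_bot] at h2
  exact h2

theorem cases3 (hE : IsBaumannBlock p (T : Subgroup G) E) (hns : ¬ Group.IsSolvable E) :
    (∃ (F : Type) (_ : Field F) (_ : Fintype F) (n : ℕ), Fintype.card F = p ^ n ∧ 4 ≤ Fintype.card F ∧
      Nonempty (↥E ⧸ pCore p ↥E ≃* ↥(commutator (Matrix.SpecialLinearGroup (Fin 2) F))) ∧
      ActsAsSL2OnSection F (commutator (Matrix.SpecialLinearGroup (Fin 2) F)) E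
        (omegaOneCenter p (pCoreOf p E)) (omegaOneCenter p (pCoreOf p E) ⊓ Subgroup.centralizer (E : Set G))) ∨
    (p = 2 ∧ ∃ m : ℕ, 2 ≤ m ∧
      Nonempty (↥E ⧸ pCore p ↥E ≃* ↥(alternatingGroup (Fin (2 * m + 1)))) ∧
      ActsAsOddPermModuleOnSection (2 * m + 1) (alternatingGroup (Fin (2 * m + 1))) E
        (omegaOneCenter p (pCoreOf p E)) (omegaOneCenter p (pCoreOf p E) ⊓ Subgroup.centralizer (E : Set G))) := by
  have hq := H52.BB.qs hE hns
  have hnsq := H26.Quasisimple.not_isSolvable hq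
  have hsmall : ∀ {r : ℕ} [Fact r.Prime], IsPGroup r (↥E ⧸ pCore p ↥E) → False := by
    intro r _ h
    have := h.isNilpotent
    exact hnsq inferInstance
  rcases hE.2.2.2.2 with ⟨F, i1, i2, n, hF, hiso, h1, -⟩ | ⟨hp2, m, hiso, h1, -⟩
  · left
    refine ⟨F, i1, i2, n, hF, ?_, hiso, h1⟩
    by_contra hcon
    obtain ⟨i⟩ := hiso
    have h2 : Nat.card (↥E ⧸ pCore p ↥E) = Fintype.card F ^ 2 - 1 := by
      rw [Nat.card_congr i.toEquiv, H52.BB.card_comm (by omega)]
    have h3 := Fintype.one_lt_card (α := F)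
    have h4 : Fintype.card F = 2 ∨ Fintype.card F = 3 := by omega
    rcases h4 with h4 | h4
    · haveI : Fact (Nat.Prime 3) := ⟨Nat.prime_three⟩
      exact hsmall (IsPGroup.of_card (p := 3) (n := 1) (by rw [h2, h4]; norm_num))
    · haveI : Fact (Nat.Prime 2) := ⟨Nat.prime_two⟩
      exact hsmall (IsPGroup.of_card (p := 2) (n := 3) (by rw [h2, h4]; norm_num))
  · right
    refine ⟨hp2, m, ?_, hiso, h1⟩
    by_contra hcon
    obtain ⟨i⟩ := hiso
    have h2 : Nat.card (↥E ⧸ pCore p ↥E) = Nat.card (alternatingGroup (Fin (2 * m + 1))) :=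
      Nat.card_congr i.toEquiv
    haveI : Fact (Nat.Prime 3) := ⟨Nat.prime_three⟩
    have hm : m = 0 ∨ m = 1 := by omega
    rcases hm with rfl | rfl
    · exact hsmall (IsPGroup.of_card (p := 3) (n := 0) (by
        rw [h2, Nat.card_eq_fintype_card]; rfl))
    · exact hsmall (IsPGroup.of_card (p := 3) (n := 1) (by
        rw [h2, Nat.card_eq_fintype_card]; rfl))

theorem nz_sup_C (hG : centralizer (pCore p G : Set G) ≤ pCore p G) :
    normalizer (E : Set G) ≤ normalizer ((E ⊔ centralizer (WB p E : Set G) : Subgroup G) : Set G) := by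
  intro g hg
  have h1 : g ∈ normalizer (WB p E : Set G) := nz_WE hg
  have h2 : g ∈ normalizer (centralizer (WB p E : Set G) : Set G) :=
    le_normalizer_centralizer (le_refl (normalizer (WB p E : Set G))) h1
  rw [mem_nz_iff] at hg h2 ⊢
  unfold cg at hg h2 ⊢
  rw [Subgroup.map_sup, hg, h2]

theorem hp_of_le (hG : centralizer (pCore p G : Set G) ≤ pCore p G) (hE : IsBaumannBlock p (T : Subgroup G) E)
    (h : baumannSubgroupOf p (T : Subgroup G) ≤ E ⊔ centralizer (WB p E : Set G)) : HP p (T : Subgroup G) E :=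
  ⟨E ⊔ centralizer (WB p E : Set G), le_sup_left, sup_le Subgroup.le_normalizer (cent_le_nz hG T E hE),
    nz_sup_C hG, h, fun x hx => ⟨0, by rw [pow_zero, pow_one]; exact hx⟩⟩

end H56.BZ
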