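import Mathlib
import Cfsg.Agent.Lib.H56.BZG
import Cfsg.Agent.Lib.H52.BZJ
import Cfsg.Agent.Lib.H25.BzA1
import Cfsg.Agent.Lib.H14.BZG1
import Cfsg.Agent.Lib.H14.BZG2
import Cfsg.Agent.Lib.H44.BZS
import Cfsg.Agent.Lib.H51.BZL1
import Cfsg.Agent.Lib.H51.BZL2
import Cfsg.Agent.Lib.H52.BZA2

set_option autoImplicit false
set_option linter.all false

namespace H56.BZ

open Subgroup Cfsg H51.FF H51.OG H52.PRes H52.PCore H51.Bau H1.Coprime2 H56.BmP H56.BmQ H56.BmV H56.BmZ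
open scoped commutatorElement MatrixGroups

variable {G : Type*} [Group G] [Finite G] {p : ℕ} [hp : Fact p.Prime]
variable {T : Sylow p G} {E : Subgroup G}

theorem hp_all (hG : centralizer (pCore p G : Set G) ≤ pCore p G) (hE : IsBaumannBlock p (T : Subgroup G) E) :
    HP p (T : Subgroup G) E := by
  by_cases hs : Group.IsSolvable E
  · exact H44.BZ.small_HP hG hE hs
  · rcases cases3 hE hs with ⟨F, i1, i2, n, hF, h4, hiso, hact⟩ | ⟨rfl, m, hm, hiso, hact⟩
    · exact hp_of_le hG hE (H51.BZ.lin_HP hF h4 hG hE hiso hact)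
    · exact H52.BZ.alt_HP hG hm hE hiso hact

theorem fp_all (hG : centralizer (pCore p G : Set G) ≤ pCore p G) (hE : IsBaumannBlock p (T : Subgroup G) E) :
    FP p (T : Subgroup G) E := by
  by_cases hs : Group.IsSolvable E
  · exact fp_of_Z hG hE (H52.BB.small hE hs).2.1
  · rcases cases3 hE hs with ⟨F, i1, i2, n, hF, h4, hiso, hact⟩ | ⟨rfl, m, hm, hiso, hact⟩
    · exact H51.BZ.lin_FP hF h4 hG hE hiso hact
    · exact fp_of_Z hG hE (H25.BZ.alt_Z hG hm hE hiso hact)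

theorem main987 (hG : centralizer (pCore p G : Set G) ≤ pCore p G) (hE : IsBaumannBlock p (T : Subgroup G) E)
    (hEs : E.IsSubnormal) :
    E ≤ Cfsg.baumannSubgroup p G ∧ Cfsg.baumannSubgroup p G ≤ Subgroup.normalizer (E : Set G) ∧
      (∀ T' : Sylow p G, Cfsg.IsBaumannBlock p (T' : Subgroup G) E) ∧
      ∀ F : Subgroup G, (∃ T' : Sylow p G, Cfsg.IsBaumannBlock p (T' : Subgroup G) F) → F ≤ E ∨ ⁅F, E⁆ = ⊥ := by
  have hcom := com_of hG hE hEs
  exact glue hG hE hEs (fun T h => hp_all hG h) (fun T h => fp_all hG h)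
    (fun T' => H52.BZ.J_le_nz hG hE hcom T')
    (fun T h hFP => H14.BZ.C_le_nz hG h hcom hFP)
    (fun T' h => H14.BZ.norm_elt hG hE hcom T' h)

end H56.BZ
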