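import Mathlib
import Cfsg.Agent.Lib.H14.MaxIn
import Cfsg.Agent.Lib.H14.PBasic
import Cfsg.Agent.Lib.H3.CardSup

set_option autoImplicit false

/-! Thompson's replacement lemma for `[A, x]` abelian, with the surjectivity of `g ↦ [g, x]` modulo `A`. -/

namespace H56.JTrt

open Cfsg H14.MaxIn
open scoped commutatorElement

variable {G : Type*} [Group G]

/-- `[A, x]` -/
def MM (A : Subgroup G) (x : G) : Subgroup G := Subgroup.closure {m | ∃ g ∈ A, m = ⁅g, x⁆}

theorem mem_MM {A : Subgroup G} {x g : G} (hg : g ∈ A) : ⁅g, x⁆ ∈ MM A x :=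
  Subgroup.subset_closure ⟨g, hg, rfl⟩

theorem comm_mul (g u x : G) : ⁅g * u, x⁆ = ⁅g, ⁅u, x⁆⁆ * ⁅u, x⁆ * ⁅g, x⁆ := by
  simp only [commutatorElement_def]; group

theorem comm_comm {g u x : G} (hgu : g * u = u * g) (h : ⁅g, x⁆ * ⁅u, x⁆ = ⁅u, x⁆ * ⁅g, x⁆) :
    ⁅g, ⁅u, x⁆⁆ = ⁅u, ⁅g, x⁆⁆ := by
  have h1 := comm_mul g u x
  have h2 := comm_mul u g x
  rw [hgu, h2, mul_assoc, mul_assoc, h] at h1
  exact (mul_right_cancel h1).symm

theorem le_normalizer_of_conj {A M : Subgroup G} (h : ∀ g ∈ A, ∀ m ∈ M, g * m * g⁻¹ ∈ M) :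
    A ≤ Subgroup.normalizer (M : Set G) := by
  intro g hg
  rw [Subgroup.mem_normalizer_iff]
  intro m
  constructor
  · exact h g hg m
  · intro hm
    have := h g⁻¹ (inv_mem hg) _ hm
    have e : g⁻¹ * (g * m * g⁻¹) * g⁻¹⁻¹ = m := by group
    rwa [e] at this

theorem le_normalizer_MM (A : Subgroup G) (x : G) : A ≤ Subgroup.normalizer (MM A x : Set G) := by
  apply le_normalizer_of_conj
  intro g hg m hm
  refine Subgroup.closure_induction (p := fun m _ => g * m * g⁻¹ ∈ MM A x) ?_ ?_ ?_ ?_ hm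
  · rintro _ ⟨u, hu, rfl⟩
    have h1 : g * ⁅u, x⁆ * g⁻¹ = ⁅g * u, x⁆ * ⁅g, x⁆⁻¹ := by
      simp only [commutatorElement_def]; group
    rw [h1]
    exact mul_mem (mem_MM (mul_mem hg hu)) (inv_mem (mem_MM hg))
  · rw [mul_one, mul_inv_cancel]; exact one_mem _
  · intro a b _ _ ha hb
    have : g * (a * b) * g⁻¹ = (g * a * g⁻¹) * (g * b * g⁻¹) := by group
    rw [this]; exact mul_mem ha hb
  · intro a _ ha
    have : g * a⁻¹ * g⁻¹ = (g * a * g⁻¹)⁻¹ := by group
    rw [this]; exact inv_mem ha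

theorem MM_comm_of {A : Subgroup G} {x : G} (h : ∀ g ∈ A, ∀ u ∈ A, ⁅g, x⁆ * ⁅u, x⁆ = ⁅u, x⁆ * ⁅g, x⁆) :
    ∀ u ∈ MM A x, ∀ v ∈ MM A x, u * v = v * u := by
  have h1 : MM A x ≤ Subgroup.centralizer (MM A x : Set G) := by
    rw [MM, Subgroup.closure_le]
    rintro _ ⟨g, hg, rfl⟩
    rw [SetLike.mem_coe, Subgroup.mem_centralizer_iff]
    intro m hm
    refine Subgroup.closure_induction (p := fun m _ => m * ⁅g, x⁆ = ⁅g, x⁆ * m) ?_ ?_ ?_ ?_ hm
    · rintro _ ⟨u, hu, rfl⟩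
      exact h u hu g hg
    · rw [one_mul, mul_one]
    · intro a b _ _ ha hb
      rw [mul_assoc, hb, ← mul_assoc, ha, mul_assoc]
    · intro a _ ha
      rw [inv_mul_eq_iff_eq_mul, ← mul_assoc, ha, mul_assoc, mul_inv_cancel, mul_one]
  intro u hu v hv
  exact (Subgroup.mem_centralizer_iff.1 (h1 hu) v hv).symm

theorem cent_mem [Finite G] {A S : Subgroup G} {p : ℕ} (hA : A ∈ maxIn false p S) {c : G} (hc : c ∈ S)
    (h : ∀ a ∈ A, c * a = a * c) : c ∈ A := by
  have h1 : IsMulCommutative (Subgroup.closure (insert c (A : Set G))) :=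
    H14.PBasic.isMulCommutative_closure_insert hA.2.1.1 (fun a ha => (h a ha).symm)
  have h2 : Subgroup.closure (insert c (A : Set G)) ≤ S := by
    rw [Subgroup.closure_le, Set.insert_subset_iff]
    exact ⟨hc, hA.1⟩
  have h3 := hA.2.2 _ h2 (prE_false.2 h1)
  have h4 := Subgroup.eq_of_le_of_card_ge (H14.PBasic.le_closure_insert A c) h3
  rw [h4]
  exact H14.PBasic.mem_closure_insert A c

section

variable [Finite G] {A S : Subgroup G} {p : ℕ} {x : G}

theorem centralizes_iff (hA : A ∈ maxIn false p S) (hx : x ∈ S)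
    (hM : ∀ u ∈ MM A x, ∀ v ∈ MM A x, u * v = v * u) {u : G} (hu : u ∈ A) :
    (∀ m ∈ MM A x, m * u = u * m) ↔ ⁅u, x⁆ ∈ A := by
  have hcomm : ∀ g ∈ A, ⁅g, ⁅u, x⁆⁆ = ⁅u, ⁅g, x⁆⁆ := fun g hg =>
    comm_comm (hA.2.1.comm hg hu) (hM _ (mem_MM hg) _ (mem_MM hu))
  constructor
  · intro h
    apply cent_mem hA
    · exact (by
        rw [commutatorElement_def]
        exact mul_mem (mul_mem (mul_mem (hA.1 hu) hx) (inv_mem (hA.1 hu))) (inv_mem hx))
    · intro g hg
      have h1 := hcomm g hg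
      rw [commutatorElement_eq_one_iff_mul_comm.2 (h _ (mem_MM hg)).symm,
        commutatorElement_eq_one_iff_mul_comm] at h1
      exact h1.symm
  · intro h m hm
    refine Subgroup.closure_induction (p := fun m _ => m * u = u * m) ?_ ?_ ?_ ?_ hm
    · rintro _ ⟨g, hg, rfl⟩
      have h1 := hcomm g hg
      rw [commutatorElement_eq_one_iff_mul_comm.2 (hA.2.1.comm hg h), eq_comm,
        commutatorElement_eq_one_iff_mul_comm] at h1
      exact h1.symm
    · rw [one_mul, mul_one]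
    · intro a b _ _ ha hb
      rw [mul_assoc, hb, ← mul_assoc, ha, mul_assoc]
    · intro a _ ha
      rw [inv_mul_eq_iff_eq_mul, ← mul_assoc, ha, mul_assoc, mul_inv_cancel, mul_one]

/-- the replacement subgroup -/
def Rep (A : Subgroup G) (x : G) : Subgroup G := MM A x ⊔ (A ⊓ Subgroup.centralizer (MM A x : Set G))

omit [Finite G] in
theorem MM_le (hA : A ≤ S) (hx : x ∈ S) : MM A x ≤ S := by
  rw [MM, Subgroup.closure_le]
  rintro _ ⟨g, hg, rfl⟩
  rw [commutatorElement_def]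
  exact mul_mem (mul_mem (mul_mem (hA hg) hx) (inv_mem (hA hg))) (inv_mem hx)

omit [Finite G] in
theorem inf_cent (hM : ∀ u ∈ MM A x, ∀ v ∈ MM A x, u * v = v * u) :
    MM A x ⊓ (A ⊓ Subgroup.centralizer (MM A x : Set G)) = MM A x ⊓ A := by
  refine le_antisymm (inf_le_inf_left _ inf_le_left) (le_inf inf_le_left (le_inf inf_le_right ?_))
  intro u hu
  rw [Subgroup.mem_centralizer_iff]
  intro v hv
  exact hM v hv u (Subgroup.mem_inf.1 hu).1

theorem card_Rep (hM : ∀ u ∈ MM A x, ∀ v ∈ MM A x, u * v = v * u) :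
    Nat.card (Rep A x) * Nat.card (MM A x ⊓ A : Subgroup G) =
      Nat.card (MM A x) * Nat.card (A ⊓ Subgroup.centralizer (MM A x : Set G) : Subgroup G) := by
  rw [← inf_cent hM]
  apply H3.CardSup.card_sup_mul_card_inf
  have h : MM A x ≤ Subgroup.centralizer ((A ⊓ Subgroup.centralizer (MM A x : Set G) : Subgroup G) : Set G) := by
    intro m hm
    rw [Subgroup.mem_centralizer_iff]
    intro c hc
    exact (Subgroup.mem_centralizer_iff.1 (Subgroup.mem_inf.1 hc).2 m hm).symm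
  exact h.trans (Subgroup.centralizer_le_normalizer _)

theorem Rep_le (hA : A ≤ S) (hx : x ∈ S) : Rep A x ≤ S := sup_le (MM_le hA hx) (inf_le_left.trans hA)

omit [Finite G] in
theorem Rep_comm (hAc : ∀ a ∈ A, ∀ b ∈ A, a * b = b * a)
    (hM : ∀ u ∈ MM A x, ∀ v ∈ MM A x, u * v = v * u) : IsMulCommutative (Rep A x) := by
  have h : Rep A x ≤ Subgroup.centralizer (Rep A x : Set G) := by
    have e : ∀ K : Subgroup G, K ≤ Subgroup.centralizer (MM A x : Set G) →
        K ≤ Subgroup.centralizer ((A ⊓ Subgroup.centralizer (MM A x : Set G) : Subgroup G) : Set G) →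
        K ≤ Subgroup.centralizer (Rep A x : Set G) := by
      intro K h1 h2
      rw [Subgroup.le_centralizer_iff] at h1 h2 ⊢
      exact sup_le h1 h2
    apply sup_le
    · apply e
      · intro u hu
        rw [Subgroup.mem_centralizer_iff]
        exact fun v hv => hM v hv u hu
      · rw [Subgroup.le_centralizer_iff]; exact inf_le_right
    · apply e
      · exact inf_le_right
      · intro u hu
        rw [Subgroup.mem_centralizer_iff]
        exact fun v hv => hAc v (Subgroup.mem_inf.1 hv).1 u (Subgroup.mem_inf.1 hu).1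
  exact ⟨⟨fun a b => Subtype.ext (Subgroup.mem_centralizer_iff.1 (h b.2) a a.2)⟩⟩

/-- The map `A → M ⧸ (M ∩ A)` -/
theorem key (hA : A ∈ maxIn false p S) (hx : x ∈ S)
    (hM : ∀ u ∈ MM A x, ∀ v ∈ MM A x, u * v = v * u) :
    Nat.card (Rep A x) = Nat.card A ∧ ∀ m ∈ MM A x, ∃ g ∈ A, ∃ c ∈ A ⊓ MM A x, m = ⁅g, x⁆ * c := by
  classical
  set M := MM A x with hMdef
  set C : Subgroup G := A ⊓ Subgroup.centralizer (M : Set G) with hC
  set K : Subgroup G := M ⊓ A with hK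
  have hrep := card_Rep hM
  rw [← hMdef, ← hC, ← hK] at hrep
  have hmax : Nat.card (Rep A x) ≤ Nat.card A :=
    hA.2.2 _ (Rep_le hA.1 hx) (prE_false.2 (Rep_comm (fun _ ha _ hb => hA.2.1.comm ha hb) hM))
  -- cardinalities
  have hKM : Nat.card K * K.relIndex M = Nat.card M := H14.Repl2.card_mul_relIndex inf_le_left
  have hCA : Nat.card C * C.relIndex A = Nat.card A := H14.Repl2.card_mul_relIndex inf_le_left
  have hCpos : 0 < Nat.card C := Nat.card_pos
  have hKpos : 0 < Nat.card K := Nat.card_pos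
  have hle : K.relIndex M ≤ C.relIndex A := by
    have h1 : Nat.card C * (Nat.card K * K.relIndex M) ≤ Nat.card C * (Nat.card K * C.relIndex A) := by
      calc Nat.card C * (Nat.card K * K.relIndex M) = Nat.card (Rep A x) * Nat.card K := by
            rw [hKM, hrep, mul_comm]
        _ ≤ Nat.card A * Nat.card K := Nat.mul_le_mul_right _ hmax
        _ = Nat.card C * (Nat.card K * C.relIndex A) := by rw [← hCA]; ring
    exact Nat.le_of_mul_le_mul_left (Nat.le_of_mul_le_mul_left h1 hCpos) hKpos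
  -- the map
  let φ : A → M ⧸ K.subgroupOf M := fun g => QuotientGroup.mk (⟨⁅(g : G), x⁆, mem_MM g.2⟩ : M)
  have hφ : ∀ g h : A, φ g = φ h ↔ (g⁻¹ * h : A) ∈ C.subgroupOf A := by
    intro g h
    rw [QuotientGroup.eq, Subgroup.mem_subgroupOf, Subgroup.mem_subgroupOf]
    have e : (((⟨⁅(g : G), x⁆, mem_MM g.2⟩ : M)⁻¹ * (⟨⁅(h : G), x⁆, mem_MM h.2⟩ : M) : M) : G) =
        ⁅(g : G), x⁆⁻¹ * ⁅(h : G), x⁆ := rfl
    rw [e]
    have e2 : (((g⁻¹ * h : A) : A) : G) = (g : G)⁻¹ * h := rfl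
    rw [e2]
    set u : G := (g : G)⁻¹ * h with hu
    have huA : u ∈ A := mul_mem (inv_mem g.2) h.2
    have hh : (h : G) = g * u := by rw [hu]; group
    have hcm := comm_mul (g : G) u x
    have e3 : ⁅(g : G), x⁆⁻¹ * ⁅(h : G), x⁆ = g * ⁅u, x⁆ * (g : G)⁻¹ := by
      have h5 : ⁅(g : G), ⁅u, x⁆⁆ * ⁅u, x⁆ = g * ⁅u, x⁆ * (g : G)⁻¹ := by
        simp only [commutatorElement_def]; group
      rw [hh, hcm, h5]
      have h6 : g * ⁅u, x⁆ * (g : G)⁻¹ ∈ M :=
        (Subgroup.mem_normalizer_iff.1 (le_normalizer_MM A x g.2) _).1 (mem_MM huA)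
      rw [hM _ h6 _ (mem_MM g.2), inv_mul_cancel_left]
    rw [e3, hK, Subgroup.mem_inf, hC, Subgroup.mem_inf]
    constructor
    · rintro ⟨-, h1⟩
      refine ⟨huA, ?_⟩
      rw [Subgroup.mem_centralizer_iff]
      have h2 : ⁅u, x⁆ ∈ A := by
        have := mul_mem (mul_mem (inv_mem g.2) h1) g.2
        have e : (g : G)⁻¹ * (g * ⁅u, x⁆ * (g : G)⁻¹) * g = ⁅u, x⁆ := by group
        rwa [e] at this
      exact (centralizes_iff hA hx hM huA).2 h2
    · rintro ⟨-, h1⟩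
      have h2 : ⁅u, x⁆ ∈ A := (centralizes_iff hA hx hM huA).1 (Subgroup.mem_centralizer_iff.1 h1)
      exact ⟨(Subgroup.mem_normalizer_iff.1 (le_normalizer_MM A x g.2) _).1 (mem_MM huA),
        mul_mem (mul_mem g.2 h2) (inv_mem g.2)⟩
  let ψ : A ⧸ C.subgroupOf A → M ⧸ K.subgroupOf M := Quotient.lift φ (by
    intro g h hgh
    rw [hφ]
    exact QuotientGroup.leftRel_apply.1 hgh)
  have hψ : ∀ g : A, ψ (QuotientGroup.mk g) = φ g := fun _ => rfl
  have hinj : Function.Injective ψ := by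
    intro a b hab
    obtain ⟨g, rfl⟩ := QuotientGroup.mk_surjective a
    obtain ⟨h, rfl⟩ := QuotientGroup.mk_surjective b
    rw [hψ, hψ, hφ] at hab
    exact QuotientGroup.eq.2 hab
  have hcard1 : Nat.card (A ⧸ C.subgroupOf A) = C.relIndex A := rfl
  have hcard2 : Nat.card (M ⧸ K.subgroupOf M) = K.relIndex M := rfl
  have hge := Nat.card_le_card_of_injective ψ hinj
  rw [hcard1, hcard2] at hge
  have heq : K.relIndex M = C.relIndex A := le_antisymm hle hge
  have hbij : Function.Bijective ψ := by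
    rw [Nat.bijective_iff_injective_and_card]
    exact ⟨hinj, by rw [hcard1, hcard2, heq]⟩
  refine ⟨?_, ?_⟩
  · have h1 : Nat.card (Rep A x) * Nat.card K = Nat.card A * Nat.card K := by
      rw [hrep, ← hKM, heq, ← hCA]; ring
    exact Nat.eq_of_mul_eq_mul_right hKpos h1
  · intro m hm
    obtain ⟨q, hq⟩ := hbij.2 (QuotientGroup.mk (⟨m, hm⟩ : M))
    obtain ⟨g, rfl⟩ := QuotientGroup.mk_surjective q
    rw [hψ] at hq
    have h1 := QuotientGroup.eq.1 hq
    rw [Subgroup.mem_subgroupOf] at h1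
    have h2 : ⁅(g : G), x⁆⁻¹ * m ∈ K := h1
    refine ⟨g, g.2, ⁅(g : G), x⁆⁻¹ * m, ?_, by group⟩
    rw [inf_comm]; exact h2

theorem Rep_mem (hA : A ∈ maxIn false p S) (hx : x ∈ S)
    (hM : ∀ u ∈ MM A x, ∀ v ∈ MM A x, u * v = v * u) : Rep A x ∈ maxIn false p S :=
  mem_maxIn_of_card hA (Rep_le hA.1 hx)
    (prE_false.2 (Rep_comm (fun _ ha _ hb => hA.2.1.comm ha hb) hM)) (key hA hx hM).1

end

end H56.JTrt
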