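import Mathlib
import Cfsg.Agent.Lib.H56.JTrt
import Cfsg.Agent.Lib.H39.KInf

set_option autoImplicit false

/-! Iterated commutators with elements of `A`; the quadratic step. -/

namespace H56.JStep

open Cfsg H14.MaxIn H56.JTrt
open scoped commutatorElement

variable {G : Type*} [Group G]

/-- iterated commutator `⁅g₁, ⁅g₂, … ⁅gₙ, x⁆⁆⁆` -/
def D (l : List G) (x : G) : G := l.foldr (fun g m => ⁅g, m⁆) x

@[simp] theorem D_nil (x : G) : D [] x = x := rfl
@[simp] theorem D_cons (g : G) (l : List G) (x : G) : D (g :: l) x = ⁅g, D l x⁆ := rfl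
theorem D_append (l l' : List G) (x : G) : D (l ++ l') x = D l (D l' x) := List.foldr_append

variable {A : Subgroup G} {x : G}

theorem comm_mem_MM {g m : G} (hg : g ∈ A) (hm : m ∈ MM A x) : ⁅g, m⁆ ∈ MM A x := by
  rw [commutatorElement_def]
  exact mul_mem ((Subgroup.mem_normalizer_iff.1 (le_normalizer_MM A x hg) _).1 hm) (inv_mem hm)

theorem D_mem_of {l : List G} (hl : ∀ g ∈ l, g ∈ A) {m : G} (hm : m ∈ MM A x) : D l m ∈ MM A x := by
  induction l with
  | nil => exact hm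
  | cons g l ih =>
    exact comm_mem_MM (hl g List.mem_cons_self) (ih fun g hg => hl g (List.mem_cons_of_mem _ hg))

theorem D_mem {l : List G} (hl : ∀ g ∈ l, g ∈ A) (hne : l ≠ []) : D l x ∈ MM A x := by
  induction l with
  | nil => exact absurd rfl hne
  | cons g l ih =>
    by_cases h : l = []
    · subst h; exact mem_MM (hl g List.mem_cons_self)
    · exact comm_mem_MM (hl g List.mem_cons_self) (ih (fun g hg => hl g (List.mem_cons_of_mem _ hg)) h)

theorem comm_mul_right' {g m m' : G} (h : ⁅g, m'⁆ * m = m * ⁅g, m'⁆) : ⁅g, m * m'⁆ = ⁅g, m⁆ * ⁅g, m'⁆ := by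
  have h1 : ⁅g, m * m'⁆ = ⁅g, m⁆ * (m * ⁅g, m'⁆ * m⁻¹) := by simp only [commutatorElement_def]; group
  rw [h1, ← h]; group

theorem D_mul (hM : ∀ u ∈ MM A x, ∀ v ∈ MM A x, u * v = v * u) {l : List G} (hl : ∀ g ∈ l, g ∈ A) {m m' : G}
    (hm : m ∈ MM A x) (hm' : m' ∈ MM A x) : D l (m * m') = D l m * D l m' := by
  induction l with
  | nil => rfl
  | cons g l ih =>
    have hl' : ∀ g ∈ l, g ∈ A := fun g hg => hl g (List.mem_cons_of_mem _ hg)
    rw [D_cons, D_cons, D_cons, ih hl']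
    apply comm_mul_right'
    exact hM _ (comm_mem_MM (hl g List.mem_cons_self) (D_mem_of hl' hm')) _ (D_mem_of hl' hm)

theorem D_cent {l : List G} (hl : ∀ g ∈ l, g ∈ A) (hne : l ≠ []) {c : G} (hc : ∀ g ∈ A, g * c = c * g) : D l c = 1 := by
  induction l with
  | nil => exact absurd rfl hne
  | cons g l ih =>
    by_cases h : l = []
    · subst h
      rw [D_cons, D_nil, commutatorElement_eq_one_iff_mul_comm]
      exact hc g (hl g List.mem_cons_self)
    · rw [D_cons, ih (fun g hg => hl g (List.mem_cons_of_mem _ hg)) h, commutatorElement_one_right]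

theorem D_swap (hAc : ∀ a ∈ A, ∀ b ∈ A, a * b = b * a) (hM : ∀ u ∈ MM A x, ∀ v ∈ MM A x, u * v = v * u) {l : List G}
    (hl : ∀ g ∈ l, g ∈ A) {g u : G} (hg : g ∈ A) (hu : u ∈ A) : D (g :: u :: l) x = D (u :: g :: l) x := by
  simp only [D_cons]
  apply comm_comm (hAc g hg u hu)
  exact hM _ (D_mem (l := g :: l) (by
      intro a ha
      rcases List.mem_cons.1 ha with rfl | ha
      · exact hg
      · exact hl a ha) (List.cons_ne_nil _ _)) _ (D_mem (l := u :: l) (by
      intro a ha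
      rcases List.mem_cons.1 ha with rfl | ha
      · exact hu
      · exact hl a ha) (List.cons_ne_nil _ _))

theorem D_perm (hAc : ∀ a ∈ A, ∀ b ∈ A, a * b = b * a) (hM : ∀ u ∈ MM A x, ∀ v ∈ MM A x, u * v = v * u) {l l' : List G}
    (h : l.Perm l') (hl : ∀ g ∈ l, g ∈ A) : D l x = D l' x := by
  induction h with
  | nil => rfl
  | cons g h ih =>
    rw [D_cons, D_cons, ih fun g hg => hl g (List.mem_cons_of_mem _ hg)]
  | swap g u l =>
    exact D_swap hAc hM (fun a ha => hl a (List.mem_cons_of_mem _ (List.mem_cons_of_mem _ ha)))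
      (hl _ List.mem_cons_self) (hl _ (List.mem_cons_of_mem _ List.mem_cons_self))
  | trans h1 h2 ih1 ih2 =>
    rw [ih1 hl, ih2 fun g hg => hl g (h1.mem_iff.2 hg)]

theorem exists_D_eq_one [Finite G] {S : Subgroup G} {p : ℕ} [Fact p.Prime] (hS : IsPGroup p S) {x : G} (hx : x ∈ S) :
    ∃ n : ℕ, ∀ l : List G, l.length = n → (∀ g ∈ l, g ∈ S) → D l x = 1 := by
  have : Group.IsNilpotent ↥S := hS.isNilpotent
  obtain ⟨n, hn⟩ := H39.KInf.exists_iterCommutator_eq_bot (G := ↥S) ⊤ ⊤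
  refine ⟨n, fun l hl hlS => ?_⟩
  have h : ∀ l : List G, (∀ g ∈ l, g ∈ S) → ∃ s ∈ iterCommutator (⊤ : Subgroup ↥S) ⊤ l.length, (s : G) = D l x := by
    intro l
    induction l with
    | nil => intro _; exact ⟨⟨x, hx⟩, trivial, rfl⟩
    | cons g l ih =>
      intro hl
      obtain ⟨s, hs, hs2⟩ := ih fun g hg => hl g (List.mem_cons_of_mem _ hg)
      refine ⟨⁅(⟨g, hl g List.mem_cons_self⟩ : ↥S), s⁆, ?_, ?_⟩
      · rw [List.length_cons]
        show _ ∈ ⁅iterCommutator (⊤ : Subgroup ↥S) ⊤ l.length, (⊤ : Subgroup ↥S)⁆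
        rw [Subgroup.commutator_comm]
        exact Subgroup.commutator_mem_commutator (Subgroup.mem_top _) hs
      · rw [D_cons, ← hs2]; rfl
  obtain ⟨s, hs, hs2⟩ := h l hlS
  rw [hl, hn, Subgroup.mem_bot] at hs
  rw [← hs2, hs]; rfl

theorem step [Finite G] {S A₀ : Subgroup G} {p : ℕ} [Fact p.Prime] (hS : IsPGroup p S) (hA : A ∈ maxIn false p S) (hx : x ∈ S)
    (hM : ∀ u ∈ MM A x, ∀ v ∈ MM A x, u * v = v * u) (hA₀ : A₀ < A) :
    ∃ g ∈ A, g ∉ A₀ ∧ ∃ b ∈ A₀, ∃ c ∈ A, ⁅g, ⁅g, x⁆⁆ = ⁅b, x⁆ * c := by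
  classical
  have hAc : ∀ a ∈ A, ∀ b ∈ A, a * b = b * a := fun a ha b hb => hA.2.1.comm ha hb
  let P : ℕ → Prop := fun k => ∃ g ∈ A, g ∉ A₀ ∧ ∀ l : List G, l.length = k + 1 → (∀ a ∈ l, a ∈ A) → ⁅g, D l x⁆ = 1
  have hP : ∃ k, P k := by
    obtain ⟨n, hn⟩ := exists_D_eq_one hS hx
    obtain ⟨g, hg, hg0⟩ := Set.exists_of_ssubset hA₀
    refine ⟨n, g, hg, hg0, fun l hl hlA => ?_⟩
    obtain ⟨a, l', rfl⟩ := List.exists_cons_of_length_eq_add_one hl
    have h1 : D l' x = 1 := hn l' (by simpa using hl) fun g hg => hA.1 (hlA g (List.mem_cons_of_mem _ hg))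
    rw [D_cons, h1, commutatorElement_one_right, commutatorElement_one_right]
  obtain ⟨g, hg, hg0, hl⟩ := Nat.find_spec hP
  have hmin : ∀ m < Nat.find hP, ¬ P m := fun m hm => Nat.find_min hP hm
  set k := Nat.find hP with hk
  refine ⟨g, hg, hg0, ?_⟩
  rcases Nat.eq_zero_or_pos k with hk0 | hkpos
  · refine ⟨1, one_mem _, 1, one_mem _, ?_⟩
    rw [commutatorElement_one_left, one_mul]
    have := hl [g] (by rw [hk0]; rfl) (by simpa using hg)
    simpa using this
  · obtain ⟨b, hb, c, hc, hbc⟩ := (key hA hx hM).2 _ (comm_mem_MM hg (mem_MM (x := x) hg))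
    refine ⟨b, ?_, c, (Subgroup.mem_inf.1 hc).1, hbc⟩
    by_contra hb0
    obtain ⟨k', hk'⟩ := Nat.exists_eq_succ_of_ne_zero hkpos.ne'
    apply hmin k' (by omega)
    refine ⟨b, hb, hb0, fun l hl1 hlA => ?_⟩
    have hlne : l ≠ [] := by
      intro h; rw [h] at hl1; simp at hl1
    have h1 : ⁅b, D l x⁆ = D l ⁅b, x⁆ := by
      rw [← D_cons, show (⁅b, x⁆ : G) = D [b] x from rfl, ← D_append]
      exact D_perm hAc hM (List.perm_append_singleton b l).symm (by
        intro a ha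
        rcases List.mem_cons.1 ha with rfl | ha
        · exact hb
        · exact hlA a ha)
    have hcM : c ∈ MM A x := (Subgroup.mem_inf.1 hc).2
    have h2 : D l ⁅g, ⁅g, x⁆⁆ = D l ⁅b, x⁆ := by
      rw [hbc, D_mul hM hlA (mem_MM hb) hcM, D_cent hlA hlne (fun a ha => hAc a ha c (Subgroup.mem_inf.1 hc).1), mul_one]
    rw [h1, ← h2, show (⁅g, ⁅g, x⁆⁆ : G) = D [g, g] x from rfl, ← D_append]
    have h3 : (l ++ [g, g]).Perm (g :: (l ++ [g])) := by
      rw [show l ++ [g, g] = (l ++ [g]) ++ [g] by simp]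
      exact List.perm_append_singleton g (l ++ [g])
    rw [D_perm hAc hM h3 (by
      intro a ha
      rcases List.mem_append.1 ha with ha | ha
      · exact hlA a ha
      · have : a = g := by simpa using ha
        rw [this]; exact hg), D_cons]
    apply hl
    · rw [List.length_append, hl1, hk', List.length_singleton]
    · intro a ha
      rcases List.mem_append.1 ha with ha | ha
      · exact hlA a ha
      · have : a = g := by simpa using ha
        rw [this]; exact hg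

end H56.JStep
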