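import Mathlib
import Cfsg.Agent.Lib.H56.JStep
import Cfsg.Agent.Lib.H39.SFMin

set_option autoImplicit false

/-! A large abelian subgroup acting quadratically on `Z(T)`. -/

namespace H56.JQuad

open Cfsg H14.MaxIn H56.JTrt H56.JStep
open scoped commutatorElement

variable {X : Type*} [Group X] [Finite X] {p : ℕ} [Fact p.Prime]

/-- in a `p`-group, `K ≤ [K, A]` forces `K = 1` -/
theorem eq_bot_of_le_commutator {S K A : Subgroup X} (hS : IsPGroup p S) (hK : K ≤ S) (hA : A ≤ S) (h : K ≤ ⁅A, K⁆) : K = ⊥ := by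
  have : Group.IsNilpotent ↥S := hS.isNilpotent
  obtain ⟨n, hn⟩ := H39.KInf.exists_iterCommutator_eq_bot (G := ↥S) ⊤ ⊤
  have h1 : ∀ n, K ≤ (iterCommutator (⊤ : Subgroup ↥S) ⊤ n).map S.subtype := by
    intro n
    induction n with
    | zero =>
      show K ≤ (⊤ : Subgroup ↥S).map S.subtype
      rw [← MonoidHom.range_eq_map, Subgroup.range_subtype]; exact hK
    | succ n ih =>
      refine h.trans ?_
      show _ ≤ (⁅iterCommutator (⊤ : Subgroup ↥S) ⊤ n, (⊤ : Subgroup ↥S)⁆).map S.subtype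
      rw [Subgroup.map_commutator, Subgroup.commutator_comm A K]
      refine Subgroup.commutator_mono ih ?_
      rw [← MonoidHom.range_eq_map, Subgroup.range_subtype]; exact hA
  have h2 := h1 n
  rw [hn, Subgroup.map_bot, le_bot_iff] at h2
  exact h2

theorem exists_quad {S T : Subgroup X} (hS : IsPGroup p S) [hTn : T.Normal] (hTS : T ≤ S)
    (h : ∃ A ∈ maxIn false p S, ¬ A ≤ T) :
    ∃ A ∈ maxIn false p S, ¬ A ≤ T ∧ ∀ x ∈ T ⊓ Subgroup.centralizer (T : Set X), ∀ g ∈ A, ∀ g' ∈ A, ⁅g', ⁅g, x⁆⁆ = 1 := by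
  classical
  set Z : Subgroup X := T ⊓ Subgroup.centralizer (T : Set X) with hZ
  have hZn : Z.Normal := inferInstance
  obtain ⟨A₀, hA₀, hA₀T⟩ := h
  obtain ⟨A, ⟨hA, hAT⟩, hmax⟩ := Set.exists_max_image {A : Subgroup X | A ∈ maxIn false p S ∧ ¬ A ≤ T}
    (fun A => Nat.card (A ⊓ Z : Subgroup X)) (Set.toFinite _) ⟨A₀, hA₀, hA₀T⟩
  refine ⟨A, hA, hAT, fun x hx g hg g' hg' => ?_⟩
  have hZc : ∀ u ∈ Z, ∀ v ∈ Z, u * v = v * u := fun u hu v hv =>
    Subgroup.mem_centralizer_iff.1 (Subgroup.mem_inf.1 hv).2 u (Subgroup.mem_inf.1 hu).1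
  have hxS : x ∈ S := hTS (Subgroup.mem_inf.1 hx).1
  have hMZ : MM A x ≤ Z := by
    rw [MM, Subgroup.closure_le]
    rintro _ ⟨u, _, rfl⟩
    rw [commutatorElement_def]
    exact mul_mem (hZn.conj_mem x hx u) (inv_mem hx)
  have hM : ∀ u ∈ MM A x, ∀ v ∈ MM A x, u * v = v * u := fun u hu v hv => hZc u (hMZ hu) v (hMZ hv)
  have hR := Rep_mem hA hxS hM
  have hAZ : A ⊓ Z ≤ Rep A x := by
    refine le_trans ?_ le_sup_right
    refine le_inf inf_le_left ?_
    intro u hu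
    rw [Subgroup.mem_centralizer_iff]
    exact fun v hv => hZc v (hMZ hv) u (Subgroup.mem_inf.1 hu).2
  by_cases hRT : Rep A x ≤ T
  · -- then `Z ≤ Rep A x`
    have hZR : Z ≤ Rep A x := by
      intro z hz
      refine cent_mem hR (hTS (Subgroup.mem_inf.1 hz).1) fun a ha => ?_
      exact (Subgroup.mem_centralizer_iff.1 (Subgroup.mem_inf.1 hz).2 a (hRT ha)).symm
    have h1 : MM A x ≤ ⁅A, MM A x⁆ := by
      rw [MM, Subgroup.closure_le]
      rintro _ ⟨u, hu, rfl⟩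
      have hxR := hZR hx
      have hn : MM A x ≤ Subgroup.normalizer ((A ⊓ Subgroup.centralizer (MM A x : Set X) : Subgroup X) : Set X) := by
        refine le_trans ?_ (Subgroup.centralizer_le_normalizer _)
        rw [Subgroup.le_centralizer_iff]; exact inf_le_right
      obtain ⟨m, hm, c, hc, rfl⟩ := H39.SFMin.mem_sup_of_norm hn hxR
      have hcA : c ∈ A := (Subgroup.mem_inf.1 hc).1
      have h2 : ⁅u, m * c⁆ = ⁅u, m⁆ := by
        have e : ⁅u, m * c⁆ = ⁅u, m⁆ * (m * ⁅u, c⁆ * m⁻¹) := by simp only [commutatorElement_def]; group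
        rw [e, commutatorElement_eq_one_iff_mul_comm.2 (hA.2.1.comm hu hcA)]; group
      rw [SetLike.mem_coe, h2]
      exact Subgroup.commutator_mem_commutator hu hm
    have h2 := eq_bot_of_le_commutator hS (MM_le hA.1 hxS) hA.1 h1
    have h3 : ⁅g, x⁆ ∈ MM A x := mem_MM hg
    rw [h2, Subgroup.mem_bot] at h3
    rw [h3, commutatorElement_one_right]
  · have h1 := hmax _ ⟨hR, hRT⟩
    have h2 : A ⊓ Z ≤ Rep A x ⊓ Z := le_inf hAZ inf_le_right
    have h3 := Subgroup.eq_of_le_of_card_ge h2 h1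
    have h4 : MM A x ≤ A := by
      have : MM A x ≤ Rep A x ⊓ Z := le_inf le_sup_left hMZ
      rw [← h3] at this
      exact this.trans inf_le_left
    rw [commutatorElement_eq_one_iff_mul_comm]
    exact hA.2.1.comm hg' (h4 (mem_MM hg))

end H56.JQuad
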