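import Mathlib
import Cfsg.Prelude.Def_Local
import Cfsg.Agent.Lib.H1.Cores
import Cfsg.Agent.Lib.H28.RelSyl
import Cfsg.Agent.Lib.H52.PCore
import Cfsg.Agent.Lib.H52.PRes
import Cfsg.Agent.Lib.H52.Syl

/-! preimages of `O_p(M/K)`; central Sylow subgroups -/

set_option autoImplicit false

namespace H56.PP

open Subgroup H28.Cj H28.RelSyl

variable {M : Type*} [Group M]

/-- the preimage of `O_p(M/K)` -/
def pOver (p : ℕ) (K : Subgroup M) [K.Normal] : Subgroup M :=
  (Cfsg.pCore p (M ⧸ K)).comap (QuotientGroup.mk' K)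

theorem le_pOver (p : ℕ) (K : Subgroup M) [K.Normal] : K ≤ pOver p K := by
  intro x hx
  have : QuotientGroup.mk' K x = 1 := (QuotientGroup.eq_one_iff x).mpr hx
  change QuotientGroup.mk' K x ∈ Cfsg.pCore p (M ⧸ K)
  rw [this]; exact one_mem _

theorem exists_pow_mem {p : ℕ} [Fact p.Prime] [Finite M] {K : Subgroup M} [K.Normal] {x : M}
    (hx : x ∈ pOver p K) : ∃ k : ℕ, x ^ p ^ k ∈ K := by
  have h1 : QuotientGroup.mk' K x ∈ Cfsg.pCore p (M ⧸ K) := hx
  obtain ⟨k, hk⟩ := H1.Cores.isPGroup_pCore p ⟨_, h1⟩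
  refine ⟨k, ?_⟩
  rw [← QuotientGroup.eq_one_iff]
  have h2 := congrArg Subtype.val hk
  simpa using h2

theorem le_pOver_of {p : ℕ} [Fact p.Prime] [Finite M] {K L : Subgroup M} [K.Normal] [hL : L.Normal]
    (h : ∀ x ∈ L, ∃ k : ℕ, x ^ p ^ k ∈ K) : L ≤ pOver p K := by
  unfold pOver
  rw [← map_le_iff_le_comap]
  haveI : (L.map (QuotientGroup.mk' K)).Normal := hL.map _ (QuotientGroup.mk'_surjective K)
  rw [H1.Cores.le_pCore_iff]
  rintro ⟨_, x, hx, rfl⟩
  obtain ⟨k, hk⟩ := h x hx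
  refine ⟨k, ?_⟩
  apply Subtype.ext
  have : QuotientGroup.mk' K (x ^ p ^ k) = 1 := (QuotientGroup.eq_one_iff _).mpr hk
  simpa using this

instance pOver_normal (p : ℕ) (K : Subgroup M) [K.Normal] : (pOver p K).Normal := by
  unfold pOver
  haveI : (Cfsg.pCore p (M ⧸ K)).Normal := inferInstance
  infer_instance

theorem pPrimePCore_eq (p : ℕ) : Cfsg.pPrimePCore p M = pOver p (Cfsg.pPrimeCore p M) := rfl

/-- a group with a central Sylow `p`-subgroup: every element has a `p`-power in `O_{p'}`. -/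
theorem exists_pow_mem_of_central {p : ℕ} [hp : Fact p.Prime] [Finite M] (P : Sylow p M)
    (hZ : (P : Subgroup M) ≤ center M) (x : M) : ∃ k : ℕ, x ^ p ^ k ∈ Cfsg.pPrimeCore p M := by
  have hP : normalizer ((P : Subgroup M) : Set M) ≤ centralizer ((P : Subgroup M) : Set M) := by
    intro g _
    rw [mem_centralizer_iff]
    intro h hh
    exact (mem_center_iff.mp (hZ hh) g).symm
  have h1 : ¬ p ∣ Nat.card (MonoidHom.transferSylow P hP).ker :=
    MonoidHom.not_dvd_card_ker_transferSylow P hP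
  have h2 : (MonoidHom.transferSylow P hP).ker ≤ Cfsg.pPrimeCore p M :=
    H1.Cores.le_pPrimeCore inferInstance (hp.out.coprime_iff_not_dvd.mpr h1).symm
  obtain ⟨k, hk⟩ := P.2 (MonoidHom.transferSylow P hP x)
  refine ⟨k, h2 ?_⟩
  rw [MonoidHom.mem_ker, map_pow, hk]

/-- `C` normal in `M`, with a Sylow `p`-subgroup centralized by `C`. -/
theorem exists_pow_mem_of_central_in {p : ℕ} [hp : Fact p.Prime] [Finite M] {C Z : Subgroup M}
    [C.Normal] (hZ : IsSyl p Z C) (hc : C ≤ centralizer (Z : Set M)) {x : M} (hx : x ∈ C) :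
    ∃ k : ℕ, x ^ p ^ k ∈ Cfsg.pPrimeCore p M := by
  have h1 : ((hZ.toSylow : Sylow p C) : Subgroup C) ≤ center C := by
    rw [hZ.coe_toSylow]
    intro z hz
    rw [mem_center_iff]
    intro g
    have := mem_centralizer_iff.mp (hc g.2) z hz
    exact Subtype.ext this.symm
  obtain ⟨k, hk⟩ := exists_pow_mem_of_central hZ.toSylow h1 ⟨x, hx⟩
  refine ⟨k, ?_⟩
  have h2 : (⟨x, hx⟩ ^ p ^ k : C).1 ∈ (Cfsg.pPrimeCore p C).map C.subtype := ⟨_, hk, rfl⟩
  rw [H1.Cores.map_subtype_pPrimeCore] at h2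
  exact h2.2

theorem abstract {p : ℕ} [hp : Fact p.Prime] [Finite M] (S : Subgroup M) (hS : IsSyl p S ⊤)
    (H : Subgroup M) (hHS : H ≤ S) (hHn : H.Normal) (C : Subgroup M) (hCn : C.Normal)
    (hC : C = centralizer (H : Set M)) :
    (H ≤ pOver p C ∧ ¬ p ∣ H.relIndex (pOver p C)) ↔
      (S ⊓ C ≤ H ∧ Cfsg.pPrimePCore p M = H ⊔ C) := by
  have hHp : IsPGroup p H := hS.isPGroup.to_le hHS
  have hHC : C ≤ centralizer (H : Set M) := hC.le
  have hcomm : ∀ h ∈ H, ∀ c ∈ C, c * h = h * c := by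
    intro h hh c hc
    exact (mem_centralizer_iff.mp (hHC hc) h hh).symm
  have hOC : Cfsg.pPrimeCore p M ≤ C := by
    rw [hC]
    have h1 := H1.Cores.disjoint_of_isPGroup hHp (H1.Cores.coprime_card_pPrimeCore (G := M) p)
    intro q hq
    rw [mem_centralizer_iff]
    intro h hh
    have h2 : h * q * h⁻¹ * q⁻¹ ∈ H ⊓ Cfsg.pPrimeCore p M := by
      constructor
      · have : h * q * h⁻¹ * q⁻¹ = h * (q * h⁻¹ * q⁻¹) := by group
        rw [this]
        exact H.mul_mem hh (hHn.conj_mem _ (H.inv_mem hh) _)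
      · exact Subgroup.mul_mem _ (Normal.conj_mem inferInstance _ hq _) (Subgroup.inv_mem _ hq)
    rw [h1, mem_bot] at h2
    have := congrArg (fun t => t * q * h) h2
    simpa [mul_assoc] using this
  constructor
  · rintro ⟨hHN, hidx⟩
    have hHs : IsSyl p H (pOver p C) := ⟨hHN, hHp, hidx⟩
    have hNe : pOver p C = H ⊔ C := by
      apply le_antisymm
      · have : H52.Syl.SylIn p H (pOver p C) := ⟨hHs.toSylow, hHs.map_toSylow⟩
        exact this.le_sup_of_pMod (fun x hx => exists_pow_mem hx)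
      · exact sup_le hHN (le_pOver p C)
    have hHCs : IsSyl p (H ⊓ C) C := hHs.inf_normal (by rw [normalizer_eq_top]; exact le_top) (le_pOver p C)
    have hcen : C ≤ centralizer ((H ⊓ C : Subgroup M) : Set M) := by
      refine hHC.trans (centralizer_le ?_)
      exact fun x hx => hx.1
    refine ⟨?_, ?_⟩
    · exact hHs.le_of_normal (by rw [normalizer_eq_top]; exact le_top)
        (hS.isPGroup.to_le inf_le_left) (inf_le_right.trans (le_pOver p C))
    · rw [pPrimePCore_eq]
      apply le_antisymm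
      · rw [← hNe]
        apply le_pOver_of
        intro x hx
        obtain ⟨k, hk⟩ := exists_pow_mem hx
        exact ⟨k, hOC hk⟩
      · apply le_pOver_of
        intro x hx
        rw [← hNe] at hx
        obtain ⟨k, hk⟩ := exists_pow_mem hx
        obtain ⟨l, hl⟩ := exists_pow_mem_of_central_in hHCs hcen hk
        exact ⟨k + l, by rw [pow_add, pow_mul]; exact hl⟩
  · rintro ⟨hle, heq⟩
    have hSC : IsSyl p (S ⊓ C) C := hS.inf_normal (by rw [normalizer_eq_top]) le_top
    have hcen : C ≤ centralizer ((S ⊓ C : Subgroup M) : Set M) :=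
      hHC.trans (centralizer_le (fun x hx => hle hx))
    have hN1 : pOver p C ≤ H ⊔ C := by
      rw [← heq, pPrimePCore_eq]
      apply le_pOver_of
      intro x hx
      obtain ⟨k, hk⟩ := exists_pow_mem hx
      obtain ⟨l, hl⟩ := exists_pow_mem_of_central_in hSC hcen hk
      exact ⟨k + l, by rw [pow_add, pow_mul]; exact hl⟩
    have hHN : H ≤ pOver p C := by
      apply le_pOver_of
      intro x hx
      obtain ⟨k, hk⟩ := hHp ⟨x, hx⟩
      refine ⟨k, ?_⟩
      have : x ^ p ^ k = 1 := by simpa [Subtype.ext_iff] using hk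
      rw [this]; exact one_mem _
    have hNe : pOver p C = H ⊔ C := le_antisymm hN1 (sup_le hHN (le_pOver p C))
    refine ⟨hHN, ?_⟩
    rw [hNe, relIndex_sup_left]
    intro hd
    apply hSC.not_dvd
    have h1 : (S ⊓ C).relIndex C = (S ⊓ C).relIndex C := rfl
    have h2 : H.relIndex C ∣ (S ⊓ C).relIndex C := by
      apply relIndex_dvd_of_le_left
      exact hle
    exact hd.trans h2

end H56.PP
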