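import Mathlib
import Cfsg.Prelude.Def_CaseTheorems
import Cfsg.Prelude.Def_PLocal
import Cfsg.Agent.Lib.H3.ClassTwo
import Cfsg.Agent.Lib.H3.RankTwo
import Cfsg.Agent.Lib.H39.NPS
import Cfsg.Agent.Lib.H56.JQuad

set_option autoImplicit false

/-! `p`-groups of rank 2, `p` odd: generic computations. -/

namespace H56.Rk2

open Cfsg
open scoped commutatorElement

universe u

section generic

variable {G : Type u} [Group G]

theorem conj_iter {x w v e f : G} (h1 : x⁻¹ * w * x = w * v) (h2 : x⁻¹ * v * x = v * e) (h3 : x⁻¹ * e * x = e * f)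
    (h4 : x⁻¹ * f * x = f) (cve : Commute v e) (cef : Commute e f) (k : ℕ) :
    (x ^ k)⁻¹ * w * x ^ k = w * (v ^ k * (e ^ k.choose 2 * f ^ k.choose 3)) := by
  have hconj : ∀ a : G, MulAut.conj x⁻¹ a = x⁻¹ * a * x := fun a => by simp
  induction k with
  | zero => simp
  | succ k ih =>
    have e1 : (x ^ (k + 1))⁻¹ * w * x ^ (k + 1) = x⁻¹ * ((x ^ k)⁻¹ * w * x ^ k) * x := by
      rw [pow_succ]; group
    rw [e1, ih, ← hconj, map_mul, map_mul, map_mul, map_pow, map_pow, map_pow, hconj, hconj, hconj, hconj, h1, h2, h3, h4,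
      cve.mul_pow, cef.mul_pow, Nat.choose_succ_succ k 1, Nat.choose_succ_succ k 2, Nat.choose_one_right, pow_add e,
      pow_add f, pow_succ' v]
    simp only [mul_assoc]

theorem pow_formula {g u e f : G} (h1 : g⁻¹ * u * g = u * e) (h2 : g⁻¹ * e * g = e * f) (h3 : g⁻¹ * f * g = f)
    (cue : Commute u e) (cef : Commute e f) (k : ℕ) :
    (g * u⁻¹) ^ k = g ^ k * (u ^ k * (e ^ k.choose 2 * f ^ k.choose 3))⁻¹ := by
  have hconj : ∀ a : G, MulAut.conj g⁻¹ a = g⁻¹ * a * g := fun a => by simp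
  induction k with
  | zero => simp
  | succ k ih =>
    rw [pow_succ (g * u⁻¹), ih]
    set W := u ^ k * (e ^ k.choose 2 * f ^ k.choose 3) with hW
    have e1 : g ^ k * W⁻¹ * (g * u⁻¹) = g ^ (k + 1) * (u * (g⁻¹ * W * g))⁻¹ := by
      rw [pow_succ]; group
    rw [e1]
    congr 2
    rw [hW, ← hconj, map_mul, map_mul, map_pow, map_pow, map_pow, hconj, hconj, hconj, h1, h2, h3,
      cue.mul_pow, cef.mul_pow, Nat.choose_succ_succ k 1, Nat.choose_succ_succ k 2, Nat.choose_one_right, pow_add e,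
      pow_add f, pow_succ' u]
    simp only [mul_assoc]

theorem dvd_choose_two {p : ℕ} (hp : p.Prime) (hp2 : p ≠ 2) : p ∣ p.choose 2 :=
  H3.ClassTwo.prime_dvd_choose_two hp hp2

theorem dvd_choose_three {p : ℕ} (hp : p.Prime) (hp3 : 3 < p) : p ∣ p.choose 3 :=
  hp.dvd_choose_self (by norm_num) hp3

end generic

/-- In a `p`-group of odd order whose elements of order `p` are central, the `p`-th power map is injective modulo
elements of order `p`. -/
theorem pcentral (p : ℕ) [hp : Fact p.Prime] (hp2 : p ≠ 2) : ∀ (n : ℕ) (L : Type u) [Group L] [Finite L], IsPGroup p L →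
    Nat.card L ≤ n → (∀ x : L, x ^ p = 1 → x ∈ Subgroup.center L) → ∀ a b : L, a ^ p = b ^ p → (a⁻¹ * b) ^ p = 1 := by
  intro n
  induction n with
  | zero =>
    intro L _ _ _ hn
    exact absurd (Nat.card_pos (α := L)) (by omega)
  | succ n ih =>
    intro L _ _ hL hn hc a b hab
    rcases eq_top_or_exists_le_coatom (Subgroup.zpowers a) with htop | ⟨M, hM, haM⟩
    · have hb : b ∈ Subgroup.zpowers a := by rw [htop]; trivial
      obtain ⟨i, rfl⟩ := hb
      have hcomm : Commute a⁻¹ (a ^ i) := ((Commute.refl a).inv_left).zpow_right i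
      rw [hcomm.mul_pow, inv_pow, hab, inv_mul_cancel]
    · have hnil : Group.IsNilpotent L := hL.isNilpotent
      have hMn : M.Normal := Subgroup.NormalizerCondition.normal_of_coatom M (Group.normalizerCondition_of_isNilpotent) hM
      have haM' : a ∈ M := haM (Subgroup.mem_zpowers a)
      have hbM : b⁻¹ * a * b ∈ M := by
        have := hMn.conj_mem a haM' b⁻¹
        rwa [inv_inv] at this
      have hcard : Nat.card M ≤ n := by
        have h1 : Nat.card M < Nat.card L := by
          rw [← Subgroup.card_top (G := L)]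
          exact Set.ncard_lt_ncard (s := (M : Set L)) (t := ((⊤ : Subgroup L) : Set L)) hM.lt_top (Set.toFinite _)
        omega
      have hp1 : (b⁻¹ * a * b) ^ p = b ^ p := by
        have h0 : (b⁻¹ * a * b) ^ p = b⁻¹ * a ^ p * b := by
          have : b⁻¹ * a * b = MulAut.conj b⁻¹ a := by simp
          rw [this, ← map_pow]; simp
        rw [h0, hab, mul_assoc, ← pow_succ, pow_succ', inv_mul_cancel_left]
      have h1 := ih M (hL.to_subgroup M) hcard (by
        rintro ⟨x, hx⟩ hxp
        rw [Subgroup.mem_center_iff]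
        intro y
        have := hc x (by simpa using congrArg Subtype.val hxp)
        exact Subtype.ext (Subgroup.mem_center_iff.1 this y)) ⟨a, haM'⟩ ⟨b⁻¹ * a * b, hbM⟩ (Subtype.ext (by
          show a ^ p = (b⁻¹ * a * b) ^ p
          rw [hab, hp1]))
      have h2 : (a⁻¹ * (b⁻¹ * a * b)) ^ p = 1 := congrArg Subtype.val h1
      set u := a⁻¹ * (b⁻¹ * a * b) with hu
      have hucen := hc u h2
      have hub : ⁅b, a⁻¹⁆ = u := by
        have h3 : b * u = u * b := Subgroup.mem_center_iff.1 hucen b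
        have h4 : ⁅b, a⁻¹⁆ = b * u * b⁻¹ := by rw [hu, commutatorElement_def]; group
        rw [h4, h3, mul_inv_cancel_right]
      have hcom : ∀ y : L, Commute ⁅b, a⁻¹⁆ y := fun y => by
        rw [hub]; exact (Subgroup.mem_center_iff.1 hucen y).symm
      rw [H3.ClassTwo.mul_pow_eq (hcom _) (hcom _), hub]
      obtain ⟨k, hk⟩ := dvd_choose_two hp.out hp2
      rw [hk, pow_mul, h2, one_pow, mul_one, inv_pow, hab, inv_mul_cancel]

/-- The configuration: a normal elementary abelian subgroup `E` of order `p ^ 2` which contains all elements of order `p`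
of its centralizer `C`. -/
structure Cfg {G : Type u} [Group G] (p : ℕ) (E C : Subgroup G) : Prop where
  hp2 : p ≠ 2
  hG : IsPGroup p G
  nE : E.Normal
  cE : ∀ a ∈ E, ∀ b ∈ E, a * b = b * a
  pE : ∀ a ∈ E, a ^ p = 1
  cardE : Nat.card E = p ^ 2
  hC : C = Subgroup.centralizer (E : Set G)
  om : ∀ c ∈ C, c ^ p = 1 → c ∈ E

section cfg

variable {G : Type u} [Group G] [Finite G] {p : ℕ} [hp : Fact p.Prime] {E C : Subgroup G}

theorem exists_cfg (hp2 : p ≠ 2) (hG : IsPGroup p G) (hrk : PRankLE p 2 G) (hnc : ¬ IsCyclic G) :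
    ∃ E C : Subgroup G, Cfg p E C := by
  obtain ⟨E, hEn, hE, hEc⟩ := H3.RankTwo.exists_normal_rank_two hp2 hG hnc
  have hEcomm : ∀ a ∈ E, ∀ b ∈ E, a * b = b * a := by
    intro a ha b hb
    have := hE.1
    exact setLike_mul_comm (s := E) ha hb
  refine ⟨E, _, hp2, hG, hEn, hEcomm, hE.2, hEc, rfl, ?_⟩
  intro c hc hcp
  by_contra hcE
  have hcomm : ∀ a ∈ E, ∀ b ∈ Subgroup.zpowers c, a * b = b * a := by
    rintro a ha _ ⟨i, rfl⟩
    exact ((show Commute a c from Subgroup.mem_centralizer_iff.1 hc a ha).zpow_right i).eq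
  have hle : Subgroup.zpowers c ≤ Subgroup.normalizer (E : Set G) := by
    rw [Subgroup.normalizer_eq_top]; exact le_top
  have hmem : ∀ x ∈ Subgroup.zpowers c ⊔ E, ∃ b ∈ Subgroup.zpowers c, ∃ a ∈ E, b * a = x :=
    fun x hx => H39.SFMin.mem_sup_of_norm hle hx
  have h1 : Nat.card (Subgroup.zpowers c ⊔ E : Subgroup G) ≤ p ^ 2 := by
    apply hrk
    · refine ⟨⟨?_⟩⟩
      rintro ⟨x, hx⟩ ⟨y, hy⟩
      apply Subtype.ext
      obtain ⟨b, hb, a, ha, rfl⟩ := hmem x hx
      obtain ⟨b', hb', a', ha', rfl⟩ := hmem y hy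
      show b * a * (b' * a') = b' * a' * (b * a)
      have e1 : b * b' = b' * b := setLike_mul_comm (s := Subgroup.zpowers c) hb hb'
      have e2 := hcomm a ha b' hb'
      have e3 := hcomm a' ha' b hb
      have e4 := hEcomm a ha a' ha'
      calc b * a * (b' * a') = b * (a * b') * a' := by group
        _ = b * (b' * a) * a' := by rw [e2]
        _ = (b * b') * (a * a') := by group
        _ = (b' * b) * (a' * a) := by rw [e1, e4]
        _ = b' * (b * a') * a := by group
        _ = b' * (a' * b) * a := by rw [e3]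
        _ = b' * a' * (b * a) := by group
    · intro x hx
      obtain ⟨b, hb, a, ha, rfl⟩ := hmem x hx
      have e1 : Commute b a := (hcomm a ha b hb).symm
      rw [e1.mul_pow, hE.2 a ha, mul_one]
      obtain ⟨i, rfl⟩ := hb
      show (c ^ i) ^ p = 1
      rw [← zpow_natCast, ← zpow_mul, mul_comm, zpow_mul, zpow_natCast, hcp, one_zpow]
  have h2 : E < Subgroup.zpowers c ⊔ E := by
    refine lt_of_le_of_ne le_sup_right fun h => hcE ?_
    rw [h]; exact Subgroup.mem_sup_left (Subgroup.mem_zpowers c)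
  have h3 : Nat.card E < Nat.card (Subgroup.zpowers c ⊔ E : Subgroup G) :=
    Set.ncard_lt_ncard (s := (E : Set G)) (t := ((Subgroup.zpowers c ⊔ E : Subgroup G) : Set G)) h2 (Set.toFinite _)
  omega

namespace Cfg

omit hp [Finite G] in
theorem conj_mem (h : Cfg p E C) {a : G} (ha : a ∈ E) (g : G) : g⁻¹ * a * g ∈ E := by
  have := h.nE.conj_mem a ha g⁻¹
  rwa [inv_inv] at this

omit hp [Finite G] in
theorem E_le_C (h : Cfg p E C) : E ≤ C := by
  rw [h.hC]
  intro a ha
  rw [Subgroup.mem_centralizer_iff]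
  exact fun b hb => h.cE b hb a ha

omit hp [Finite G] in
theorem commC (h : Cfg p E C) {c e : G} (hc : c ∈ C) (he : e ∈ E) : Commute c e := by
  rw [h.hC] at hc
  exact (Subgroup.mem_centralizer_iff.1 hc e he).symm

omit hp [Finite G] in
theorem normalC (h : Cfg p E C) : C.Normal := by
  have := h.nE
  rw [h.hC]; infer_instance

omit hp [Finite G] in
theorem conj_memC (h : Cfg p E C) {a : G} (ha : a ∈ C) (g : G) : g⁻¹ * a * g ∈ C := by
  have := h.normalC.conj_mem a ha g⁻¹
  rwa [inv_inv] at this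

/-- the `p`-central property of `C` -/
theorem key (h : Cfg p E C) {a b : G} (ha : a ∈ C) (hb : b ∈ C) (hab : a ^ p = b ^ p) : a⁻¹ * b ∈ E := by
  apply h.om _ (mul_mem (inv_mem ha) hb)
  have h1 := pcentral p h.hp2 (Nat.card C) C (h.hG.to_subgroup C) le_rfl (by
    rintro ⟨x, hx⟩ hxp
    have hxp' : x ^ p = 1 := by simpa using congrArg Subtype.val hxp
    rw [Subgroup.mem_center_iff]
    rintro ⟨y, hy⟩
    exact Subtype.ext (h.commC hy (h.om x hx hxp')).eq) ⟨a, ha⟩ ⟨b, hb⟩ (Subtype.ext hab)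
  exact congrArg Subtype.val h1

/-- `[E, G]` is central -/
theorem comm_mem_center (h : Cfg p E C) {e : G} (he : e ∈ E) (g : G) : e⁻¹ * (g⁻¹ * e * g) ∈ Subgroup.center G := by
  have hEn := h.nE
  set K : Subgroup G := ⁅E, (⊤ : Subgroup G)⁆ with hK
  have hKE : K ≤ E := Subgroup.commutator_le_left E ⊤
  have hKn : K.Normal := inferInstance
  have hmem : e⁻¹ * (g⁻¹ * e * g) ∈ K := by
    have : ⁅e⁻¹, g⁻¹⁆ ∈ K := Subgroup.commutator_mem_commutator (inv_mem he) (Subgroup.mem_top _)
    rw [commutatorElement_def, inv_inv, inv_inv] at this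
    simpa [mul_assoc] using this
  have hKne : K ≠ E := by
    intro hKe
    have h1 := JQuad.eq_bot_of_le_commutator (S := (⊤ : Subgroup G)) (K := E) (A := ⊤)
      (h.hG.of_equiv Subgroup.topEquiv.symm) le_top le_rfl (by rw [Subgroup.commutator_comm]; exact hKe.ge)
    have h2 := h.cardE
    rw [h1, Subgroup.card_bot] at h2
    have := Nat.one_lt_pow (n := 2) (by norm_num) hp.out.one_lt
    omega
  -- `K` has order at most `p`
  by_cases hKb : K = ⊥
  · rw [hKb, Subgroup.mem_bot] at hmem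
    rw [hmem]; exact one_mem _
  have hfix := H39.NPS.inf_centralizer_ne_bot (P := K) (K := ⊤) (h.hG.to_subgroup K) hKb (fun k _ => by
    obtain ⟨j, hj⟩ := h.hG k
    exact ⟨j, by rw [hj]; exact one_mem _⟩)
  have hcard : Nat.card K = p := by
    have h1 : Nat.card K ∣ p ^ 2 := by rw [← h.cardE]; exact Subgroup.card_dvd_of_le hKE
    obtain ⟨i, hi, hi2⟩ := (Nat.dvd_prime_pow hp.out).1 h1
    interval_cases i
    · exfalso; apply hKb; rw [← Subgroup.card_eq_one, hi2, pow_zero]
    · rw [hi2, pow_one]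
    · exfalso; exact hKne (Subgroup.eq_of_le_of_card_ge hKE (by rw [hi2, h.cardE]))
  have h2 : K ⊓ Subgroup.centralizer ((⊤ : Subgroup G) : Set G) = K := by
    apply Subgroup.eq_of_le_of_card_ge inf_le_left
    have h3 : Nat.card (K ⊓ Subgroup.centralizer ((⊤ : Subgroup G) : Set G) : Subgroup G) ∣ p := by
      rw [← hcard]; exact Subgroup.card_dvd_of_le inf_le_left
    rcases (Nat.dvd_prime hp.out).1 h3 with h4 | h4
    · exact absurd (Subgroup.card_eq_one.1 h4) hfix
    · rw [h4, hcard]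
  rw [← h2] at hmem
  rw [Subgroup.mem_center_iff]
  intro y
  exact Subgroup.mem_centralizer_iff.1 (Subgroup.mem_inf.1 hmem).2 y (Subgroup.mem_top y)

end Cfg

end cfg

end H56.Rk2
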