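import Mathlib
import Cfsg.Agent.S0112
import Cfsg.Prelude.Def_OddOrderLocal
import Cfsg.Agent.Lib.H1.OddRank
import Cfsg.Agent.Lib.H13.Huppert
import Cfsg.Agent.Lib.H56.Rk2a

set_option autoImplicit false

/-! `p`-groups of rank 2, `p` odd: the index of the centralizer and elements of order `p` outside it. -/

namespace H56.Rk2

open Cfsg
open scoped commutatorElement

universe u

/-- The last alternative of the classification. -/
def MaxCl (G : Type u) [Group G] (n : ℕ) : Prop :=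
  2 ≤ n ∧ (⊤ : Subgroup G).lowerCentralSeries (n - 2) ≠ ⊥

theorem maxcl {G : Type u} [Group G] [Finite G] {p : ℕ} [hp : Fact p.Prime] {n : ℕ} (hX : Nat.card G = p ^ n)
    {A : Subgroup G} (hA : Nat.card A = p ^ 2) (hC : Subgroup.centralizer (A : Set G) = A) : MaxCl G n := by
  have h1 := Cfsg.Agent.S0112.result n hX A hA hC
  have h2 : 2 ≤ n := by
    have : Nat.card A ∣ Nat.card G := Subgroup.card_subgroup_dvd_card A
    rw [hA, hX] at this
    exact (Nat.pow_dvd_pow_iff_le_right hp.out.one_lt).1 this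
  refine ⟨h2, fun h => ?_⟩
  have : Group.IsNilpotent G := (IsPGroup.of_card hX).isNilpotent
  have h3 := Subgroup.lowerCentralSeries_eq_bot_iff_nilpotencyClass_le.1 h
  omega

section cfg

variable {G : Type u} [Group G] [Finite G] {p : ℕ} [hp : Fact p.Prime] {E C : Subgroup G}

namespace Cfg

omit hp [Finite G] in
theorem exists_not_mem_center (h : Cfg p E C) (hC : C ≠ ⊤) : ∃ y ∈ E, y ∉ Subgroup.center G := by
  by_contra hcon
  push Not at hcon
  apply hC
  rw [h.hC, eq_top_iff]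
  intro g _
  rw [Subgroup.mem_centralizer_iff]
  intro a ha
  exact ((Subgroup.mem_center_iff.1 (hcon a ha)) g).symm

theorem card_Z (h : Cfg p E C) (hC : C ≠ ⊤) : Nat.card (E ⊓ Subgroup.center G : Subgroup G) = p := by
  obtain ⟨y, hyE, hyc⟩ := h.exists_not_mem_center hC
  have h1 : Nat.card (E ⊓ Subgroup.center G : Subgroup G) ∣ p ^ 2 := by
    rw [← h.cardE]; exact Subgroup.card_dvd_of_le inf_le_left
  obtain ⟨i, hi, hi2⟩ := (Nat.dvd_prime_pow hp.out).1 h1
  have h2 : E ⊓ Subgroup.center G ≠ E := fun h3 => hyc (Subgroup.mem_inf.1 (h3.ge hyE)).2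
  have h3 : E ⊓ Subgroup.center G ≠ ⊥ := by
    intro h4
    have : ∃ g, ¬ y⁻¹ * (g⁻¹ * y * g) = 1 := by
      by_contra hcon
      push Not at hcon
      apply hyc
      rw [Subgroup.mem_center_iff]
      intro g
      have h5 := hcon g
      rw [inv_mul_eq_one] at h5
      calc g * y = g * (g⁻¹ * y * g) := by rw [← h5]
        _ = y * g := by group
    obtain ⟨g, hg⟩ := this
    apply hg
    rw [← Subgroup.mem_bot, ← h4, Subgroup.mem_inf]
    exact ⟨mul_mem (inv_mem hyE) (h.conj_mem hyE g), h.comm_mem_center hyE g⟩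
  interval_cases i
  · exfalso; apply h3; rw [← Subgroup.card_eq_one, hi2, pow_zero]
  · rw [hi2, pow_one]
  · exfalso; exact h2 (Subgroup.eq_of_le_of_card_ge inf_le_left (by rw [hi2, h.cardE]))

/-- `E` is generated by `Z` and any element outside the center. -/
theorem E_eq_sup (h : Cfg p E C) (hC : C ≠ ⊤) {y : G} (hy : y ∈ E) (hyc : y ∉ Subgroup.center G) :
    E = (E ⊓ Subgroup.center G) ⊔ Subgroup.zpowers y := by
  symm
  apply Subgroup.eq_of_le_of_card_ge
  · exact sup_le inf_le_left ((Subgroup.zpowers_le).2 hy)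
  · have h1 : E ⊓ Subgroup.center G < (E ⊓ Subgroup.center G) ⊔ Subgroup.zpowers y := by
      refine lt_of_le_of_ne le_sup_left fun h2 => hyc ?_
      have : y ∈ E ⊓ Subgroup.center G := by rw [h2]; exact Subgroup.mem_sup_right (Subgroup.mem_zpowers y)
      exact (Subgroup.mem_inf.1 this).2
    have h3 : Nat.card (E ⊓ Subgroup.center G : Subgroup G) <
        Nat.card ((E ⊓ Subgroup.center G) ⊔ Subgroup.zpowers y : Subgroup G) :=
      Set.ncard_lt_ncard (s := ((E ⊓ Subgroup.center G : Subgroup G) : Set G))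
        (t := (((E ⊓ Subgroup.center G) ⊔ Subgroup.zpowers y : Subgroup G) : Set G)) h1 (Set.toFinite _)
    rw [h.card_Z hC] at h3
    have h4 : Nat.card ((E ⊓ Subgroup.center G) ⊔ Subgroup.zpowers y : Subgroup G) ∣ p ^ 2 := by
      rw [← h.cardE]; exact Subgroup.card_dvd_of_le (sup_le inf_le_left ((Subgroup.zpowers_le).2 hy))
    obtain ⟨i, hi, hi2⟩ := (Nat.dvd_prime_pow hp.out).1 h4
    interval_cases i
    · have := hp.out.one_lt; rw [hi2, pow_zero] at h3; omega
    · rw [hi2, pow_one] at h3; omega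
    · rw [hi2, h.cardE]

/-- `E` is generated by `Z` and any element outside the center: element form. -/
theorem exists_E (h : Cfg p E C) (hC : C ≠ ⊤) {y : G} (hy : y ∈ E) (hyc : y ∉ Subgroup.center G) {a : G} (ha : a ∈ E) :
    ∃ z ∈ E ⊓ Subgroup.center G, ∃ i : ℕ, a = z * y ^ i := by
  rw [h.E_eq_sup hC hy hyc] at ha
  have hn : E ⊓ Subgroup.center G ≤ Subgroup.normalizer ((Subgroup.zpowers y : Subgroup G) : Set G) := by
    intro z hz
    rw [Subgroup.mem_normalizer_iff]
    intro w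
    have := Subgroup.mem_center_iff.1 (Subgroup.mem_inf.1 hz).2 w
    rw [← this, mul_inv_cancel_right]
  obtain ⟨z, hz, w, hw, rfl⟩ := H39.SFMin.mem_sup_of_norm hn ha
  obtain ⟨i, hi⟩ := (mem_powers_iff_mem_zpowers.2 hw)
  exact ⟨z, hz, i, by rw [← hi]⟩

/-- Elements which centralize a non-central element of `E` are in `C`. -/
theorem mem_C_of (h : Cfg p E C) {y : G} (hy : y ∈ E) (hyc : y ∉ Subgroup.center G) {g : G} (hg : g⁻¹ * y * g = y) :
    g ∈ C := by
  by_cases hC : C = ⊤
  · rw [hC]; trivial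
  rw [h.hC, Subgroup.mem_centralizer_iff]
  intro a ha
  obtain ⟨z, hz, i, rfl⟩ := h.exists_E hC hy hyc ha
  have h1 := Subgroup.mem_center_iff.1 (Subgroup.mem_inf.1 hz).2
  have h2 : Commute y g := by
    show y * g = g * y
    nth_rw 2 [← hg]
    group
  exact ((show Commute z g from (h1 g).symm).mul_left (h2.pow_left i)).eq

theorem index_C_le (h : Cfg p E C) : C.index ∣ p := by
  by_cases hC : C = ⊤
  · rw [hC, Subgroup.index_top]; exact one_dvd _
  obtain ⟨y, hyE, hyc⟩ := h.exists_not_mem_center hC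
  let φ : G →* (E ⊓ Subgroup.center G : Subgroup G) := MonoidHom.mk' (fun g => ⟨y⁻¹ * (g⁻¹ * y * g),
      Subgroup.mem_inf.2 ⟨mul_mem (inv_mem hyE) (h.conj_mem hyE g), h.comm_mem_center hyE g⟩⟩) (by
    intro a b
    apply Subtype.ext
    show y⁻¹ * ((a * b)⁻¹ * y * (a * b)) = y⁻¹ * (a⁻¹ * y * a) * (y⁻¹ * (b⁻¹ * y * b))
    have h1 := Subgroup.mem_center_iff.1 (h.comm_mem_center hyE a)
    calc y⁻¹ * ((a * b)⁻¹ * y * (a * b)) = y⁻¹ * b⁻¹ * y * ((y⁻¹ * (a⁻¹ * y * a)) * b) := by group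
      _ = y⁻¹ * b⁻¹ * y * (b * (y⁻¹ * (a⁻¹ * y * a))) := by rw [← h1 b]
      _ = (y⁻¹ * (b⁻¹ * y * b)) * (y⁻¹ * (a⁻¹ * y * a)) := by group
      _ = _ := h1 _)
  have hker : φ.ker ≤ C := by
    intro g hg
    rw [MonoidHom.mem_ker] at hg
    have h1 : y⁻¹ * (g⁻¹ * y * g) = 1 := congrArg Subtype.val hg
    rw [inv_mul_eq_one] at h1
    exact h.mem_C_of hyE hyc h1.symm
  have h1 : C.index ∣ φ.ker.index := Subgroup.index_dvd_of_le hker
  have h2 : φ.ker.index ∣ p := by
    rw [Subgroup.index_ker, ← h.card_Z hC]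
    exact Subgroup.card_subgroup_dvd_card _
  exact h1.trans h2

theorem index_C (h : Cfg p E C) (hC : C ≠ ⊤) : C.index = p := by
  rcases (Nat.dvd_prime hp.out).1 h.index_C_le with h1 | h1
  · exact absurd (Subgroup.index_eq_one.1 h1) hC
  · exact h1

theorem pow_mem_C (h : Cfg p E C) (g : G) : g ^ p ∈ C := by
  have hn := h.normalC
  have h1 := Subgroup.pow_index_mem C g
  obtain ⟨k, hk⟩ := h.index_C_le
  rw [hk, pow_mul]
  exact pow_mem h1 k

/-- Counting `p`-th powers in `C`. -/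
theorem card_C_le (h : Cfg p E C) : Nat.card C ≤ p ^ 2 * {y : G | ∃ u ∈ C, y = u ^ p}.ncard := by
  classical
  set T := {y : G | ∃ u ∈ C, y = u ^ p} with hT
  have hr : ∀ t : T, ∃ u ∈ C, (t : G) = u ^ p := fun t => t.2
  choose r hrC hr using hr
  have h1 : Nat.card C ≤ Nat.card (E × T) := by
    refine Nat.card_le_card_of_injective (fun c : C => (⟨(r ⟨(c : G) ^ p, c, c.2, rfl⟩)⁻¹ * c, ?_⟩,
      ⟨(c : G) ^ p, c, c.2, rfl⟩)) ?_
    · exact h.key (hrC _) c.2 (hr ⟨(c : G) ^ p, c, c.2, rfl⟩).symm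
    · intro a b hab
      simp only [Prod.mk.injEq, Subtype.mk.injEq] at hab
      obtain ⟨h1, h2⟩ := hab
      apply Subtype.ext
      have h3 : (⟨(a : G) ^ p, a, a.2, rfl⟩ : T) = ⟨(b : G) ^ p, b, b.2, rfl⟩ := Subtype.ext h2
      rw [h3] at h1
      exact mul_left_cancel h1
  rw [Nat.card_prod, h.cardE] at h1
  exact h1

theorem exists_pow_eq (h : Cfg p E C) (hm : ¬ IsMetacyclic G) (g : G) : C ≠ ⊤ ∧ ∃ u ∈ C, g ^ p = u ^ p := by
  set U := Cfsg.powerClosure p 1 (⊤ : Subgroup G) with hU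
  set T := {y : G | ∃ u ∈ C, y = u ^ p} with hT
  have hTU : T ⊆ (U : Set G) := by
    rintro y ⟨u, hu, rfl⟩
    exact Subgroup.subset_closure ⟨u, trivial, by rw [pow_one]⟩
  have hTU' : T.ncard ≤ Nat.card U := Set.ncard_le_ncard hTU (Set.toFinite _)
  have hi : p ^ 2 < U.index := by
    by_contra hcon
    exact hm (H13.Huppert.metacyclic h.hp2 (Nat.card G) G h.hG le_rfl (not_lt.1 hcon))
  obtain ⟨n, hn⟩ := (IsPGroup.iff_card.1 h.hG)
  have hi3 : p ^ 3 ≤ U.index := by
    have h1 : U.index ∣ p ^ n := by rw [← hn]; exact Subgroup.index_dvd_card U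
    obtain ⟨i, hi1, hi2⟩ := (Nat.dvd_prime_pow hp.out).1 h1
    rw [hi2] at hi ⊢
    have := (Nat.pow_lt_pow_iff_right hp.out.one_lt).1 hi
    exact Nat.pow_le_pow_right hp.out.pos this
  have h1 : Nat.card U * U.index = Nat.card C * C.index := by
    rw [Subgroup.card_mul_index, Subgroup.card_mul_index]
  have hUpos : 0 < Nat.card U := Nat.card_pos
  have hCi : C.index ≤ p := Nat.le_of_dvd hp.out.pos h.index_C_le
  have h2 : Nat.card U * p ^ 3 ≤ p ^ 2 * T.ncard * C.index :=
    calc Nat.card U * p ^ 3 ≤ Nat.card U * U.index := Nat.mul_le_mul_left _ hi3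
      _ = Nat.card C * C.index := h1
      _ ≤ _ := Nat.mul_le_mul_right _ h.card_C_le
  have hp0 : 0 < p ^ 2 := pow_pos hp.out.pos 2
  have h3 : Nat.card U * p ≤ T.ncard * C.index := by
    have : p ^ 2 * (Nat.card U * p) ≤ p ^ 2 * (T.ncard * C.index) := by
      calc p ^ 2 * (Nat.card U * p) = Nat.card U * p ^ 3 := by ring
        _ ≤ _ := h2
        _ = _ := by ring
    exact Nat.le_of_mul_le_mul_left this hp0
  have h4 : Nat.card U * p ≤ T.ncard * p := h3.trans (Nat.mul_le_mul_left _ hCi)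
  have h5 : Nat.card U ≤ T.ncard := Nat.le_of_mul_le_mul_right h4 hp.out.pos
  refine ⟨?_, ?_⟩
  · intro hC
    rw [hC, Subgroup.index_top, mul_one] at h3
    have h6 : Nat.card U * p ≤ Nat.card U * 1 := by rw [mul_one]; exact h3.trans hTU'
    have := Nat.le_of_mul_le_mul_left h6 hUpos
    have := hp.out.one_lt
    omega
  · have h6 : T = (U : Set G) := Set.eq_of_subset_of_ncard_le hTU h5 (Set.toFinite _)
    have h7 : g ^ p ∈ T := by
      rw [h6]
      exact Subgroup.subset_closure ⟨g, trivial, by rw [pow_one]⟩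
    exact h7

omit hp [Finite G] in
theorem noncent {e : G} {g : G} (h1 : e⁻¹ * (g⁻¹ * e * g) ≠ 1) : e ∉ Subgroup.center G := by
  intro hc
  apply h1
  have := Subgroup.mem_center_iff.1 hc g
  rw [mul_assoc, ← this]
  group

/-- Elements of order `p` outside `C`, or maximal class. -/
theorem exists_order_p (h : Cfg p E C) (hm : ¬ IsMetacyclic G) {n : ℕ} (hn : Nat.card G = p ^ n) :
    (∃ x, x ∉ C ∧ x ^ p = 1) ∨ (p = 3 ∧ MaxCl G n) := by
  have hC := (h.exists_pow_eq hm 1).1
  obtain ⟨g, hg⟩ : ∃ g, g ∉ C := by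
    by_contra hcon
    push Not at hcon
    exact hC (eq_top_iff.2 fun x _ => hcon x)
  obtain ⟨-, u, huC, hu⟩ := h.exists_pow_eq hm g
  set e := u⁻¹ * (g⁻¹ * u * g) with he
  have heE : e ∈ E := by
    apply h.key huC (h.conj_memC huC g)
    have h0 : (g⁻¹ * u * g) ^ p = g⁻¹ * u ^ p * g := by
      have : g⁻¹ * u * g = MulAut.conj g⁻¹ u := by simp
      rw [this, ← map_pow]; simp
    rw [h0, ← hu, mul_assoc, ← pow_succ, pow_succ', inv_mul_cancel_left]
  set f := e⁻¹ * (g⁻¹ * e * g) with hf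
  have hfE : f ∈ E := mul_mem (inv_mem heE) (h.conj_mem heE g)
  have hfc : f ∈ Subgroup.center G := h.comm_mem_center heE g
  have hfc' := Subgroup.mem_center_iff.1 hfc
  have hfm := pow_formula (g := g) (u := u) (e := e) (f := f) (by rw [he]; group) (by rw [hf]; group)
    (by rw [mul_assoc, ← hfc' g]; group) (h.commC huC heE) (h.commC (h.E_le_C heE) hfE) p
  have hep : e ^ p.choose 2 = 1 := by
    obtain ⟨k, hk⟩ := dvd_choose_two hp.out h.hp2
    rw [hk, pow_mul, h.pE e heE, one_pow]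
  rw [hep, one_mul] at hfm
  have hcomm : (f ^ p.choose 3) * u ^ p = u ^ p * f ^ p.choose 3 :=
    ((show Commute f u from (hfc' u).symm).pow_pow _ _).eq
  have hfm' : (g * u⁻¹) ^ p = (f ^ p.choose 3)⁻¹ := by
    rw [hfm, hu, ← hcomm, mul_inv_rev, mul_inv_cancel_left]
  have hgu : g * u⁻¹ ∉ C := fun h1 => hg (by simpa using mul_mem h1 huC)
  by_cases hf1 : f ^ p.choose 3 = 1
  · exact Or.inl ⟨_, hgu, by rw [hfm', hf1, inv_one]⟩
  by_cases hex : ∃ x, x ∉ C ∧ x ^ p = 1
  · exact Or.inl hex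
  right
  push Not at hex
  have hp3 : p = 3 := by
    by_contra h3
    have h4 : 3 < p := by
      have := hp.out.two_le
      have := h.hp2
      omega
    obtain ⟨k, hk⟩ := dvd_choose_three hp.out h4
    apply hf1
    rw [hk, pow_mul, h.pE f hfE, one_pow]
  refine ⟨hp3, ?_⟩
  set d := g * u⁻¹ with hd
  have hdp : d ^ p ≠ 1 := hex d hgu
  have hdp2 : d ^ p ^ 2 = 1 := by
    rw [pow_two, pow_mul, hfm', inv_pow, ← pow_mul, mul_comm, pow_mul, h.pE f hfE, one_pow, inv_one]
  have hdo : orderOf d = p ^ 2 := by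
    apply orderOf_eq_prime_pow (n := 1)
    · rwa [pow_one]
    · exact hdp2
  have hcz : Nat.card (Subgroup.zpowers d) = p ^ 2 := by rw [Nat.card_zpowers, hdo]
  refine maxcl hn hcz ?_
  apply le_antisymm
  · intro b hb
    have hbd : Commute d b := Subgroup.mem_centralizer_iff.1 hb d (Subgroup.mem_zpowers d)
    set D : Subgroup G := Subgroup.closure {d, b} with hD
    have hDc : ∀ x ∈ D, ∀ y ∈ D, x * y = y * x := by
      have hcomm : ∀ x ∈ ({d, b} : Set G), ∀ y ∈ ({d, b} : Set G), x * y = y * x := by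
        rintro x (rfl | rfl) y (rfl | rfl)
        · rfl
        · exact hbd
        · exact hbd.symm
        · rfl
      have := Subgroup.isMulCommutative_closure hcomm
      intro x hx y hy
      exact setLike_mul_comm (s := D) hx hy
    have hdD : d ∈ D := Subgroup.subset_closure (by simp)
    have hbD : b ∈ D := Subgroup.subset_closure (by simp)
    have hDcyc : IsCyclic D := by
      apply H1.OddRank.isCyclic_of_pRankLE_one h.hp2 (h.hG.to_subgroup D)
      intro A hA hAp
      have h1 : A.map D.subtype ≤ E ⊓ Subgroup.center G := by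
        rintro _ ⟨a, ha, rfl⟩
        have h2 : (a : G) ^ p = 1 := by simpa using congrArg Subtype.val (hAp a ha)
        have h3 : (a : G) ∈ C := by
          by_contra hcon
          exact hex _ hcon h2
        have h4 : (a : G) ∈ E := h.om _ h3 h2
        refine Subgroup.mem_inf.2 ⟨h4, ?_⟩
        by_contra h5
        apply hgu
        apply h.mem_C_of h4 h5
        rw [mul_assoc, hDc a a.2 d hdD, inv_mul_cancel_left]
      have h2 := Subgroup.card_le_of_le h1
      rw [h.card_Z hC] at h2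
      have h3 : Nat.card (A.map D.subtype) = Nat.card A := by
        exact Nat.card_congr (Subgroup.equivMapOfInjective A D.subtype (Subgroup.subtype_injective D)).toEquiv.symm
      rw [h3] at h2
      rwa [pow_one]
    obtain ⟨⟨w, hwD⟩, hw⟩ := hDcyc.exists_generator
    obtain ⟨i, hi⟩ := hw ⟨d, hdD⟩
    have hi' : w ^ i = d := congrArg Subtype.val hi
    -- `p` does not divide `i`
    have hpi : ¬ (p : ℤ) ∣ i := by
      rintro ⟨k, rfl⟩
      apply hgu
      rw [← hi', mul_comm, zpow_mul, zpow_natCast]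
      exact h.pow_mem_C _
    have hwd : Subgroup.zpowers w ≤ Subgroup.zpowers d := by
      rw [← hi']
      obtain ⟨m, hm⟩ := h.hG w
      have hcop : IsCoprime i (p ^ m : ℤ) := by
        apply IsCoprime.pow_right
        rw [isCoprime_comm]
        exact (Nat.prime_iff_prime_int.1 hp.out).coprime_iff_not_dvd.2 hpi
      obtain ⟨α, β, hαβ⟩ := hcop
      rw [Subgroup.zpowers_le]
      refine ⟨α, ?_⟩
      show (w ^ i) ^ α = w
      have h1 : w = w ^ (α * i + β * (p ^ m : ℤ)) := by rw [hαβ, zpow_one]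
      nth_rw 2 [h1]
      rw [zpow_add, mul_comm β, zpow_mul w ((p : ℤ) ^ m) β]
      have h2 : w ^ ((p : ℤ) ^ m) = 1 := by exact_mod_cast hm
      rw [h2, one_zpow, mul_one, mul_comm, zpow_mul]
    obtain ⟨j, hj⟩ := hw ⟨b, hbD⟩
    have hj' : w ^ j = b := congrArg Subtype.val hj
    rw [← hj']
    exact hwd ⟨j, rfl⟩
  · intro b hb
    rw [Subgroup.mem_centralizer_iff]
    intro c hc
    exact setLike_mul_comm (s := Subgroup.zpowers d) hc hb

end Cfg

end cfg

end H56.Rk2
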