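import Mathlib
import Cfsg.Agent.Lib.H56.Rk2b

set_option autoImplicit false

/-! `p`-groups of rank 2, `p` odd: the structure in the presence of an element of order `p` outside `C`. -/

namespace H56.Rk2

open Cfsg
open scoped commutatorElement

universe u

section cfg

variable {G : Type u} [Group G] [Finite G] {p : ℕ} [hp : Fact p.Prime] {E C : Subgroup G}

namespace Cfg

theorem G_eq (h : Cfg p E C) {x : G} (hx : x ∉ C) {K : Subgroup G} (hCK : C ≤ K) (hxK : x ∈ K) : K = ⊤ := by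
  have hC : C ≠ ⊤ := fun hC => hx (hC ▸ Subgroup.mem_top x)
  have h1 : C.relIndex K * K.index = p := by
    rw [Subgroup.relIndex_mul_index hCK, h.index_C hC]
  have h2 : C.relIndex K ≠ 1 := by
    rw [Ne, Subgroup.relIndex_eq_one]
    exact fun h3 => hx (h3 hxK)
  have h3 : C.relIndex K ∣ p := ⟨_, h1.symm⟩
  rcases (Nat.dvd_prime hp.out).1 h3 with h4 | h4
  · exact absurd h4 h2
  · rw [h4] at h1
    have : K.index = 1 := by
      have := hp.out.pos
      exact Nat.eq_of_mul_eq_mul_left this (by rw [h1, mul_one])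
    exact Subgroup.index_eq_one.1 this

/-- Powers of a nontrivial element of `Z`. -/
theorem exists_pow (h : Cfg p E C) (hC : C ≠ ⊤) {z₀ a : G} (hz : z₀ ∈ E) (hzc : z₀ ∈ Subgroup.center G) (hz1 : z₀ ≠ 1)
    (ha : a ∈ E) (hac : a ∈ Subgroup.center G) : ∃ i : ℕ, a = z₀ ^ i := by
  have h1 : Subgroup.zpowers z₀ ≤ E ⊓ Subgroup.center G := (Subgroup.zpowers_le).2 ⟨hz, hzc⟩
  have h2 : Subgroup.zpowers z₀ = E ⊓ Subgroup.center G := by
    apply Subgroup.eq_of_le_of_card_ge h1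
    rw [h.card_Z hC, Nat.card_zpowers, orderOf_eq_prime (h.pE _ hz) hz1]
  have h3 : a ∈ Subgroup.zpowers z₀ := by rw [h2]; exact ⟨ha, hac⟩
  obtain ⟨i, hi⟩ := mem_powers_iff_mem_zpowers.2 h3
  exact ⟨i, hi.symm⟩

omit [Finite G] in
theorem pow_conj (g a : G) (k : ℕ) : (g⁻¹ * a * g) ^ k = g⁻¹ * a ^ k * g := by
  have : g⁻¹ * a * g = MulAut.conj g⁻¹ a := by simp
  rw [this, ← map_pow]; simp

theorem mul_pow_C (h : Cfg p E C) {a b : G} (ha : a ∈ C) (hb : b ∈ C) (hap : a ^ p ∈ E) : (a * b) ^ p = a ^ p * b ^ p := by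
  have h1 : ⁅b, a⁆ ∈ E := by
    have h2 : (b * a⁻¹ * b⁻¹) ^ p = (a⁻¹) ^ p := by
      have h3 : (b * a⁻¹ * b⁻¹) ^ p = b * (a⁻¹) ^ p * b⁻¹ := by
        have := pow_conj b⁻¹ a⁻¹ p
        rwa [inv_inv] at this
      have h4 : Commute b ((a⁻¹) ^ p) := by
        rw [inv_pow]; exact (h.commC hb hap).inv_right
      rw [h3, h4.eq, mul_inv_cancel_right]
    have h5 := h.key (mul_mem (mul_mem hb (inv_mem ha)) (inv_mem hb)) (inv_mem ha) h2
    rw [commutatorElement_def]
    simpa [mul_assoc] using h5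
  rw [H3.ClassTwo.mul_pow_eq (h.commC ha h1).symm (h.commC hb h1).symm]
  obtain ⟨k, hk⟩ := dvd_choose_two hp.out h.hp2
  rw [hk, pow_mul, h.pE _ h1, one_pow, mul_one]

/-- Either the group has maximal class or there is an element of order `p ^ 2` in `C` commuting with `x`. -/
theorem maxcl_or (h : Cfg p E C) {x : G} (hx : x ∉ C) (hxp : x ^ p = 1) {n : ℕ} (hn : Nat.card G = p ^ n) :
    MaxCl G n ∨ ∃ z ∈ C, Commute x z ∧ z ^ p ≠ 1 ∧ z ^ p ∈ E ∧ z ^ p ∈ Subgroup.center G := by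
  have hC : C ≠ ⊤ := fun hC => hx (hC ▸ Subgroup.mem_top x)
  by_cases hw : ∃ w ∈ C, Commute x w ∧ w ∉ E ⊓ Subgroup.center G
  · right
    obtain ⟨w, hwC, hxw, hwZ⟩ := hw
    have hex : ∃ k, w ^ p ^ k ∈ E ⊓ Subgroup.center G := by
      obtain ⟨k, hk⟩ := h.hG w
      exact ⟨k, by rw [hk]; exact one_mem _⟩
    classical
    obtain ⟨k, hk, hk2⟩ : ∃ k, w ^ p ^ k ∉ E ⊓ Subgroup.center G ∧ w ^ p ^ (k + 1) ∈ E ⊓ Subgroup.center G := by
      have h0 : Nat.find hex ≠ 0 := by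
        intro h0
        have := Nat.find_spec hex
        rw [h0, pow_zero, pow_one] at this
        exact hwZ this
      obtain ⟨k, hk⟩ := Nat.exists_eq_succ_of_ne_zero h0
      refine ⟨k, Nat.find_min hex (by omega), ?_⟩
      have := Nat.find_spec hex
      rwa [hk] at this
    rw [pow_succ, pow_mul] at hk2
    set z := w ^ p ^ k with hz
    have hzC : z ∈ C := pow_mem hwC _
    have hxz : Commute x z := hxw.pow_right _
    refine ⟨z, hzC, hxz, fun h1 => hk ?_, (Subgroup.mem_inf.1 hk2).1, (Subgroup.mem_inf.1 hk2).2⟩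
    have hzE := h.om z hzC h1
    refine Subgroup.mem_inf.2 ⟨hzE, ?_⟩
    by_contra hcon
    exact hx (h.mem_C_of hzE hcon (by rw [mul_assoc, ← hxz.eq, inv_mul_cancel_left]))
  · left
    push Not at hw
    have hx1 : x ≠ 1 := fun h1 => hx (h1 ▸ one_mem C)
    set Z := E ⊓ Subgroup.center G with hZ
    have hZc : ∀ z ∈ Z, ∀ g, Commute z g := fun z hz g => (Subgroup.mem_center_iff.1 (Subgroup.mem_inf.1 hz).2 g).symm
    have hnorm : ∀ D : Subgroup G, Z ≤ Subgroup.normalizer (D : Set G) := by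
      intro D z hz
      rw [Subgroup.mem_normalizer_iff]
      intro w
      rw [(hZc z hz w).eq, mul_inv_cancel_right]
    have hA : Nat.card (Z ⊔ Subgroup.zpowers x : Subgroup G) = p ^ 2 := by
      apply le_antisymm
      · have h1 : Function.Surjective (fun q : Z × Subgroup.zpowers x =>
            (⟨q.1 * q.2, mul_mem (Subgroup.mem_sup_left q.1.2) (Subgroup.mem_sup_right q.2.2)⟩ :
              (Z ⊔ Subgroup.zpowers x : Subgroup G))) := by
          rintro ⟨g, hg⟩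
          obtain ⟨z, hz, w, hw, rfl⟩ := H39.SFMin.mem_sup_of_norm (hnorm (Subgroup.zpowers x)) hg
          exact ⟨⟨⟨z, hz⟩, ⟨w, hw⟩⟩, rfl⟩
        have h2 := Nat.card_le_card_of_surjective _ h1
        rwa [Nat.card_prod, h.card_Z hC, Nat.card_zpowers, orderOf_eq_prime hxp hx1, ← pow_two] at h2
      · have h1 : Z < Z ⊔ Subgroup.zpowers x := by
          refine lt_of_le_of_ne le_sup_left fun h2 => hx ?_
          have : x ∈ Z := by rw [h2]; exact Subgroup.mem_sup_right (Subgroup.mem_zpowers x)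
          exact h.E_le_C (Subgroup.mem_inf.1 this).1
        have h3 : Nat.card Z < Nat.card (Z ⊔ Subgroup.zpowers x : Subgroup G) :=
          Set.ncard_lt_ncard (s := (Z : Set G)) (t := ((Z ⊔ Subgroup.zpowers x : Subgroup G) : Set G)) h1 (Set.toFinite _)
        rw [h.card_Z hC] at h3
        obtain ⟨i, hi⟩ := IsPGroup.iff_card.1 (h.hG.to_subgroup (Z ⊔ Subgroup.zpowers x : Subgroup G))
        rw [hi] at h3 ⊢
        nth_rw 1 [← pow_one p] at h3
        have := (Nat.pow_lt_pow_iff_right hp.out.one_lt).1 h3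
        exact Nat.pow_le_pow_right hp.out.pos this
    refine maxcl hn hA ?_
    apply le_antisymm
    · intro g hg
      have hgx : Commute x g := Subgroup.mem_centralizer_iff.1 hg x (Subgroup.mem_sup_right (Subgroup.mem_zpowers x))
      have hnC := h.normalC
      have hT : C ⊔ Subgroup.zpowers x = ⊤ :=
        h.G_eq hx le_sup_left (Subgroup.mem_sup_right (Subgroup.mem_zpowers x))
      have hgT : g ∈ Subgroup.zpowers x ⊔ C := by rw [sup_comm, hT]; trivial
      obtain ⟨w, hw', c, hc, rfl⟩ := H39.SFMin.mem_sup_of_norm (P := Subgroup.zpowers x) (E := C) (by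
        rw [Subgroup.normalizer_eq_top]; exact le_top) hgT
      have hxw : Commute x w := by
        obtain ⟨i, rfl⟩ := hw'
        exact (Commute.refl x).zpow_right i
      have hxc : Commute x c := by
        have := hxw.inv_right.mul_right hgx
        rwa [inv_mul_cancel_left] at this
      have := hw c hc hxc
      exact mul_mem (Subgroup.mem_sup_right hw') (Subgroup.mem_sup_left this)
    · refine sup_le ?_ ?_
      · intro z hz
        rw [Subgroup.mem_centralizer_iff]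
        exact fun g _ => (hZc z hz g).eq.symm
      · rw [Subgroup.zpowers_le, Subgroup.mem_centralizer_iff]
        intro g hg
        obtain ⟨z, hz, w, hw', rfl⟩ := H39.SFMin.mem_sup_of_norm (hnorm (Subgroup.zpowers x)) hg
        obtain ⟨i, rfl⟩ := hw'
        exact ((hZc z hz x).mul_left ((Commute.refl x).zpow_left i)).eq

theorem lemN (h : Cfg p E C) (hC : C ≠ ⊤) {x z : G} (hzC : z ∈ C) (hxz : Commute x z) (hz1 : z ^ p ≠ 1) (hzE : z ^ p ∈ E)
    (hzc : z ^ p ∈ Subgroup.center G) {b : G} (hbC : b ∈ C) (hbE : b ^ p ∈ E) (hbc : b ^ p ∈ Subgroup.center G) :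
    b⁻¹ * (x⁻¹ * b * x) ∈ Subgroup.center G := by
  obtain ⟨j, hj⟩ := h.exists_pow hC hzE hzc hz1 hbE hbc
  have h1 : (z ^ j)⁻¹ * b ∈ E := by
    apply h.key (pow_mem hzC j) hbC
    rw [hj, ← pow_mul, ← pow_mul, mul_comm]
  set a := (z ^ j)⁻¹ * b with ha
  have hb : b = z ^ j * a := by rw [ha, mul_inv_cancel_left]
  have h2 := h.comm_mem_center h1 x
  have h3 : b⁻¹ * (x⁻¹ * b * x) = a⁻¹ * (x⁻¹ * a * x) := by
    have h4 : x⁻¹ * z ^ j = z ^ j * x⁻¹ := ((hxz.pow_right j).inv_left).eq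
    rw [hb]
    calc (z ^ j * a)⁻¹ * (x⁻¹ * (z ^ j * a) * x) = a⁻¹ * (z ^ j)⁻¹ * (x⁻¹ * z ^ j) * a * x := by group
      _ = a⁻¹ * (z ^ j)⁻¹ * (z ^ j * x⁻¹) * a * x := by rw [h4]
      _ = _ := by group
  rw [h3]; exact h2

/-- The basic step. -/
theorem step (h : Cfg p E C) {x : G} (hx : x ∉ C) (hxp : x ^ p = 1)
    (hz : p = 3 → ∃ z ∈ C, Commute x z ∧ z ^ p ≠ 1 ∧ z ^ p ∈ E ∧ z ^ p ∈ Subgroup.center G)
    {w : G} (hw : w ∈ C) (hvE : (w⁻¹ * (x⁻¹ * w * x)) ^ p ∈ E)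
    (hvc : (w⁻¹ * (x⁻¹ * w * x)) ^ p ∈ Subgroup.center G) : (w⁻¹ * (x⁻¹ * w * x)) ^ p = 1 := by
  have hC : C ≠ ⊤ := fun hC => hx (hC ▸ Subgroup.mem_top x)
  have hvC : w⁻¹ * (x⁻¹ * w * x) ∈ C := mul_mem (inv_mem hw) (h.conj_memC hw x)
  set v := w⁻¹ * (x⁻¹ * w * x) with hv
  set e := v⁻¹ * (x⁻¹ * v * x) with he
  have hfix : ∀ a ∈ Subgroup.center G, x⁻¹ * a * x = a := by
    intro a ha
    rw [mul_assoc, ← Subgroup.mem_center_iff.1 ha x, inv_mul_cancel_left]
  have heE : e ∈ E := by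
    apply h.key hvC (h.conj_memC hvC x)
    rw [pow_conj, hfix _ hvc]
  set f := e⁻¹ * (x⁻¹ * e * x) with hf
  have hfE : f ∈ E := mul_mem (inv_mem heE) (h.conj_mem heE x)
  have hfc : f ∈ Subgroup.center G := h.comm_mem_center heE x
  have h1 := conj_iter (x := x) (w := w) (v := v) (e := e) (f := f) (by rw [hv]; group) (by rw [he]; group)
    (by rw [hf]; group) (hfix f hfc) (h.commC hvC heE) (h.commC (h.E_le_C heE) hfE) p
  have h2 : e ^ p.choose 2 = 1 := by
    obtain ⟨k, hk⟩ := dvd_choose_two hp.out h.hp2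
    rw [hk, pow_mul, h.pE _ heE, one_pow]
  rw [hxp, inv_one, one_mul, mul_one, h2, one_mul, left_eq_mul] at h1
  have h3 : f ^ p.choose 3 = 1 := by
    by_cases hp3 : p = 3
    · obtain ⟨z, hzC, hxz, hz1, hzE, hzc⟩ := hz hp3
      have h4 := h.lemN hC hzC hxz hz1 hzE hzc hvC hvE hvc
      have h5 : f = 1 := by rw [hf, hfix e h4, inv_mul_cancel]
      rw [h5, one_pow]
    · have h4 : 3 < p := by
        have := hp.out.two_le
        have := h.hp2
        omega
      obtain ⟨k, hk⟩ := dvd_choose_three hp.out h4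
      rw [hk, pow_mul, h.pE f hfE, one_pow]
  rwa [h3, mul_one] at h1

theorem noW (h : Cfg p E C) {x : G} (hx : x ∉ C) (hxp : x ^ p = 1)
    (hz : p = 3 → ∃ z ∈ C, Commute x z ∧ z ^ p ≠ 1 ∧ z ^ p ∈ E ∧ z ^ p ∈ Subgroup.center G)
    {w : G} (hw : w ∈ C) (hwE : w ^ p ∈ E) : w ^ p ∈ Subgroup.center G := by
  by_contra hcon
  have h1 : (w⁻¹ * (x⁻¹ * w * x)) ^ p = (w ^ p)⁻¹ * (x⁻¹ * w ^ p * x) := by
    rw [h.mul_pow_C (inv_mem hw) (h.conj_memC hw x) (by rw [inv_pow]; exact inv_mem hwE), inv_pow, pow_conj]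
  have h2 := h.step hx hxp hz hw (by
    rw [h1]; exact mul_mem (inv_mem hwE) (h.conj_mem hwE x)) (by
    rw [h1]; exact h.comm_mem_center hwE x)
  rw [h1, inv_mul_eq_one] at h2
  exact hx (h.mem_C_of hwE hcon h2.symm)

theorem cyc (h : Cfg p E C) {x : G} (hx : x ∉ C) (hxp : x ^ p = 1)
    (hz : p = 3 → ∃ z ∈ C, Commute x z ∧ z ^ p ≠ 1 ∧ z ^ p ∈ E ∧ z ^ p ∈ Subgroup.center G)
    {n : ℕ} (hn : Nat.card G = p ^ n) :
    3 ≤ n ∧ ∃ c ∈ C, (∀ b ∈ C, ∃ i : ℕ, ∃ a ∈ E, b = c ^ i * a) ∧ c ^ p ^ (n - 3) ∈ E ∧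
      (4 ≤ n → c ^ p ^ (n - 3) ∈ Subgroup.center G ∧ c ^ p ^ (n - 3) ≠ 1) := by
  have hC : C ≠ ⊤ := fun hC => hx (hC ▸ Subgroup.mem_top x)
  have hEn := h.nE
  set Q := C.map (QuotientGroup.mk' E) with hQ
  have hcyc : IsCyclic Q := by
    apply H1.OddRank.isCyclic_of_pRankLE_one h.hp2 ((h.hG.to_quotient E).to_subgroup Q)
    intro A hA hAp
    have hl : ∀ a : A, ∃ c ∈ C, QuotientGroup.mk' E c = ((a : Q) : G ⧸ E) := fun a => (a : Q).2
    choose l hlC hl using hl
    have hlE : ∀ a : A, l a ^ p ∈ E := by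
      intro a
      rw [← QuotientGroup.eq_one_iff]
      have : QuotientGroup.mk' E (l a ^ p) = 1 := by
        rw [map_pow, hl]
        exact congrArg Subtype.val (hAp a a.2)
      exact this
    rw [pow_one, ← h.card_Z hC]
    refine Nat.card_le_card_of_injective (fun a : A => (⟨l a ^ p, Subgroup.mem_inf.2 ⟨hlE a,
      h.noW hx hxp hz (hlC a) (hlE a)⟩⟩ : (E ⊓ Subgroup.center G : Subgroup G))) ?_
    intro a b hab
    have h1 : l a ^ p = l b ^ p := congrArg Subtype.val hab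
    have h2 := h.key (hlC a) (hlC b) h1
    apply Subtype.ext
    apply Subtype.ext
    rw [← hl a, ← hl b]
    exact QuotientGroup.eq.2 h2
  have hcardQ : Nat.card Q * p ^ 3 = p ^ n := by
    have h1 : Nat.card C * p = p ^ n := by rw [← hn, ← h.index_C hC]; exact Subgroup.card_mul_index C
    have h2 : Nat.card Q * p ^ 2 = Nat.card C := by
      have h3 := Subgroup.relIndex_ker (QuotientGroup.mk' E) (K := C)
      rw [QuotientGroup.ker_mk'] at h3
      have h4 := Subgroup.relIndex_mul_relIndex ⊥ E C bot_le h.E_le_C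
      rw [Subgroup.relIndex_bot_left, Subgroup.relIndex_bot_left, h3, h.cardE] at h4
      rw [← h4, mul_comm]
    rw [← h1, ← h2]; ring
  have hn3 : 3 ≤ n := by
    have : p ^ 3 ∣ p ^ n := ⟨_, by rw [← hcardQ, mul_comm]⟩
    exact (Nat.pow_dvd_pow_iff_le_right hp.out.one_lt).1 this
  have hcardQ' : Nat.card Q = p ^ (n - 3) := by
    have h1 : p ^ n = p ^ (n - 3) * p ^ 3 := by rw [← pow_add]; congr 1; omega
    rw [h1] at hcardQ
    exact Nat.eq_of_mul_eq_mul_right (pow_pos hp.out.pos 3) hcardQ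
  obtain ⟨g, hg⟩ := hcyc.exists_generator
  obtain ⟨c, hcC, hc⟩ := g.2
  refine ⟨hn3, c, hcC, ?_, ?_, ?_⟩
  · intro b hb
    have h1 : (⟨QuotientGroup.mk' E b, b, hb, rfl⟩ : Q) ∈ Subgroup.zpowers g := hg _
    obtain ⟨i, hi⟩ := mem_powers_iff_mem_zpowers.2 h1
    refine ⟨i, (c ^ i)⁻¹ * b, ?_, by rw [mul_inv_cancel_left]⟩
    apply QuotientGroup.eq.1
    show QuotientGroup.mk' E (c ^ i) = QuotientGroup.mk' E b
    rw [map_pow, hc]
    exact congrArg Subtype.val hi
  · rw [← hcardQ', ← QuotientGroup.eq_one_iff]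
    have h1 : QuotientGroup.mk' E (c ^ Nat.card Q) = 1 := by
      rw [map_pow, hc]
      exact congrArg Subtype.val (pow_card_eq_one' (G := Q) (x := g))
    exact h1
  · intro hn4
    have ho : orderOf g = p ^ (n - 3) := by
      rw [← hcardQ']
      exact orderOf_eq_card_of_forall_mem_zpowers hg
    have h1 : c ^ p ^ (n - 4) ∉ E := by
      intro h2
      have h3 : QuotientGroup.mk' E (c ^ p ^ (n - 4)) = 1 := (QuotientGroup.eq_one_iff _).2 h2
      rw [map_pow, hc] at h3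
      have h4 : g ^ p ^ (n - 4) = 1 := Subtype.ext h3
      have h5 := orderOf_dvd_of_pow_eq_one h4
      rw [ho] at h5
      have := (Nat.pow_dvd_pow_iff_le_right hp.out.one_lt).1 h5
      omega
    have h2 : c ^ p ^ (n - 3) = (c ^ p ^ (n - 4)) ^ p := by
      rw [← pow_mul, ← pow_succ]; congr 2; omega
    have h3 : c ^ p ^ (n - 3) ∈ E := by
      rw [← hcardQ', ← QuotientGroup.eq_one_iff]
      have h1 : QuotientGroup.mk' E (c ^ Nat.card Q) = 1 := by
        rw [map_pow, hc]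
        exact congrArg Subtype.val (pow_card_eq_one' (G := Q) (x := g))
      exact h1
    refine ⟨?_, ?_⟩
    · rw [h2]
      exact h.noW hx hxp hz (pow_mem hcC _) (by rw [← h2]; exact h3)
    · intro h4
      exact h1 (h.om _ (pow_mem hcC _) (by rw [← h2]; exact h4))

end Cfg

end cfg

end H56.Rk2
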