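import Mathlib
import Cfsg.Agent.Lib.H56.Rk2c

set_option autoImplicit false

/-! `p`-groups of rank 2, `p` odd: the presentations. -/

namespace H56.Rk2

open Cfsg
open scoped commutatorElement

universe u

section cfg

variable {G : Type u} [Group G] [Finite G] {p : ℕ} [hp : Fact p.Prime] {E C : Subgroup G}

namespace Cfg

/-- Generation. -/
theorem gen (h : Cfg p E C) {x y z₁ c : G} (hx : x ∉ C) (hyE : y ∈ E) (hyc : y ∉ Subgroup.center G)
    (hz1E : z₁ ∈ E) (hz1c : z₁ ∈ Subgroup.center G) (hz1 : z₁ ≠ 1)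
    (hc : ∀ b ∈ C, ∃ i : ℕ, ∃ a ∈ E, b = c ^ i * a) {K : Subgroup G} (hxK : x ∈ K) (hyK : y ∈ K) (hz1K : z₁ ∈ K)
    (hcK : c ∈ K ∨ ∃ t ∈ E, c * t ∈ K) : K = ⊤ := by
  have hC : C ≠ ⊤ := fun hC => hx (hC ▸ Subgroup.mem_top x)
  have hEK : E ≤ K := by
    intro a ha
    obtain ⟨z, hz, i, rfl⟩ := h.exists_E hC hyE hyc ha
    obtain ⟨j, rfl⟩ := h.exists_pow hC hz1E hz1c hz1 (Subgroup.mem_inf.1 hz).1 (Subgroup.mem_inf.1 hz).2
    exact mul_mem (pow_mem hz1K j) (pow_mem hyK i)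
  have hcK' : c ∈ K := by
    rcases hcK with h1 | ⟨t, ht, h1⟩
    · exact h1
    · have := mul_mem h1 (inv_mem (hEK ht))
      rwa [mul_inv_cancel_right] at this
  refine h.G_eq hx ?_ hxK
  intro b hb
  obtain ⟨i, a, ha, rfl⟩ := hc b hb
  exact mul_mem (pow_mem hcK' i) (hEK ha)

theorem final (h : Cfg p E C) {x : G} (hx : x ∉ C) (hxp : x ^ p = 1)
    (hz : p = 3 → ∃ z ∈ C, Commute x z ∧ z ^ p ≠ 1 ∧ z ^ p ∈ E ∧ z ^ p ∈ Subgroup.center G)
    {n : ℕ} (hn : Nat.card G = p ^ n) :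
    (3 ≤ n ∧ ∃ x y z : G, Subgroup.closure ({x, y, z} : Set G) = ⊤ ∧ x ^ p = 1 ∧ y ^ p = 1 ∧ z ^ p ^ (n - 2) = 1 ∧
        x * z = z * x ∧ y * z = z * y ∧ x⁻¹ * y * x = y * z ^ p ^ (n - 3)) ∨
    (4 ≤ n ∧ ∃ (s : ℕ) (x y z : G), (s = 1 ∨ ¬ IsSquare (s : ZMod p)) ∧ Subgroup.closure ({x, y, z} : Set G) = ⊤ ∧
        x ^ p = 1 ∧ y ^ p = 1 ∧ z ^ p ^ (n - 2) = 1 ∧ y * z = z * y ∧ x⁻¹ * y * x = y * z ^ (s * p ^ (n - 3)) ∧
        x⁻¹ * z * x = y * z) := by
  have hC : C ≠ ⊤ := fun hC => hx (hC ▸ Subgroup.mem_top x)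
  obtain ⟨hn3, c, hcC, hcgen, hcE, hc4⟩ := h.cyc hx hxp hz hn
  obtain ⟨y, hyE, hyc⟩ := h.exists_not_mem_center hC
  have hfix : ∀ a ∈ Subgroup.center G, ∀ g : G, g⁻¹ * a * g = a := by
    intro a ha g
    rw [mul_assoc, ← Subgroup.mem_center_iff.1 ha g, inv_mul_cancel_left]
  have hnf : ∀ {a g : G}, a ∈ E → a ∉ Subgroup.center G → g ∉ C → a⁻¹ * (g⁻¹ * a * g) ≠ 1 := by
    intro a g ha hac hg h1
    rw [inv_mul_eq_one] at h1
    exact hg (h.mem_C_of ha hac h1.symm)
  set x₀ := y⁻¹ * (x⁻¹ * y * x) with hx₀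
  have hx₀E : x₀ ∈ E := mul_mem (inv_mem hyE) (h.conj_mem hyE x)
  have hx₀c : x₀ ∈ Subgroup.center G := h.comm_mem_center hyE x
  have hx₀1 : x₀ ≠ 1 := hnf hyE hyc hx
  have hyx : x⁻¹ * y * x = y * x₀ := by rw [hx₀, mul_inv_cancel_left]
  have hcen : ∀ {a : G}, a ∈ Subgroup.center G → ∀ g, Commute a g := fun ha g => (Subgroup.mem_center_iff.1 ha g).symm
  rcases hn3.eq_or_lt with hn3' | hn4
  · -- `n = 3`
    left
    subst hn3'
    refine ⟨le_rfl, x, y, x₀, ?_, hxp, h.pE y hyE, ?_, (hcen hx₀c x).symm.eq, (hcen hx₀c y).symm.eq, ?_⟩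
    · apply h.gen hx hyE hyc hx₀E hx₀c hx₀1 hcgen (Subgroup.subset_closure (by simp)) (Subgroup.subset_closure (by simp))
        (Subgroup.subset_closure (by simp))
      right
      refine ⟨c⁻¹, ?_, by rw [mul_inv_cancel]; exact one_mem _⟩
      rw [Nat.sub_self, pow_zero, pow_one] at hcE
      exact inv_mem hcE
    · show x₀ ^ p ^ 1 = 1
      rw [pow_one]; exact h.pE _ hx₀E
    · show x⁻¹ * y * x = y * x₀ ^ p ^ 0
      rw [pow_zero, pow_one]; exact hyx
  · obtain ⟨hc1c, hc11⟩ := hc4 hn4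
    set c₁ := c ^ p ^ (n - 3) with hc₁
    have hpow : ∀ g : G, g ^ p ^ (n - 2) = (g ^ p ^ (n - 3)) ^ p := by
      intro g; rw [← pow_mul, ← pow_succ]; congr 2; omega
    -- `C` is abelian
    have hCab : ∀ a ∈ C, ∀ b ∈ C, Commute a b := by
      intro a ha b hb
      obtain ⟨i, a', ha', rfl⟩ := hcgen a ha
      obtain ⟨j, b', hb', rfl⟩ := hcgen b hb
      have h1 : Commute c b' := h.commC hcC hb'
      have h2 : Commute c a' := h.commC hcC ha'
      have h3 : Commute a' b' := h.cE a' ha' b' hb'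
      exact ((((Commute.refl c).pow_pow i j)).mul_left (h2.symm.pow_right j)).mul_right ((h1.pow_left i).mul_left h3)
    set b := c⁻¹ * (x⁻¹ * c * x) with hb
    have hbC : b ∈ C := mul_mem (inv_mem hcC) (h.conj_memC hcC x)
    have hbpow : ∀ k : ℕ, b ^ k = (c ^ k)⁻¹ * (x⁻¹ * c ^ k * x) := by
      intro k
      rw [hb, (hCab _ (inv_mem hcC) _ (h.conj_memC hcC x)).mul_pow, inv_pow, pow_conj]
    have hbE : ∀ j, b ^ p ^ j ∈ E → b ∈ E := by
      intro j
      induction j with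
      | zero => intro h1; rwa [pow_zero, pow_one] at h1
      | succ j ih =>
        intro h1
        apply ih
        apply h.om _ (pow_mem hbC _)
        have h2 : b ^ p ^ j = (c ^ p ^ j)⁻¹ * (x⁻¹ * c ^ p ^ j * x) := hbpow _
        have h3 : (b ^ p ^ j) ^ p ∈ E := by rwa [← pow_mul, ← pow_succ]
        have h4 := h.noW hx hxp hz (pow_mem hbC (p ^ j)) h3
        rw [h2] at h3 h4 ⊢
        exact h.step hx hxp hz (pow_mem hcC _) h3 h4
    have hbE' : b ∈ E := by
      apply hbE (n - 3)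
      rw [hbpow, hfix _ hc1c, inv_mul_cancel]
      exact one_mem _
    have hcx : x⁻¹ * c * x = c * b := by rw [hb, mul_inv_cancel_left]
    by_cases hbc : b ∈ Subgroup.center G
    · -- type (b)
      left
      obtain ⟨t, ht⟩ := h.exists_pow hC hx₀E hx₀c hx₀1 (inv_mem hbE') (inv_mem hbc)
      set z := c * y ^ t with hzdef
      have hzC : z ∈ C := mul_mem hcC (pow_mem (h.E_le_C hyE) t)
      have hzx : x⁻¹ * z * x = z := by
        have h1 : x⁻¹ * y ^ t * x = y ^ t * x₀ ^ t := by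
          rw [← pow_conj, hyx, (hcen hx₀c y).symm.mul_pow]
        calc x⁻¹ * z * x = (x⁻¹ * c * x) * (x⁻¹ * y ^ t * x) := by rw [hzdef]; group
          _ = c * b * (y ^ t * b⁻¹) := by rw [hcx, h1, ht]
          _ = c * (b * y ^ t) * b⁻¹ := by group
          _ = c * (y ^ t * b) * b⁻¹ := by rw [(hcen hbc (y ^ t)).eq]
          _ = z := by rw [hzdef]; group
      have hzpow : z ^ p ^ (n - 3) = c₁ := by
        rw [hzdef, (hCab c hcC _ (pow_mem (h.E_le_C hyE) t)).mul_pow, ← hc₁]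
        have h1 : p ^ (n - 3) = p * p ^ (n - 4) := by rw [← pow_succ']; congr 1; omega
        rw [h1, pow_mul, h.pE _ (pow_mem hyE t), one_pow, mul_one]
      obtain ⟨r, hr⟩ := h.exists_pow hC hx₀E hx₀c hx₀1 hcE hc1c
      have hy'E : y ^ r ∈ E := pow_mem hyE r
      have hy'x : x⁻¹ * y ^ r * x = y ^ r * c₁ := by
        rw [← pow_conj, hyx, (hcen hx₀c y).symm.mul_pow, ← hr]
      have hy'c : y ^ r ∉ Subgroup.center G := by
        intro h1
        rw [hfix _ h1, left_eq_mul] at hy'x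
        exact hc11 hy'x
      refine ⟨hn3, x, y ^ r, z, ?_, hxp, h.pE _ hy'E, ?_, ?_, ?_, ?_⟩
      · have hzK : z ∈ Subgroup.closure ({x, y ^ r, z} : Set G) := Subgroup.subset_closure (by simp)
        apply h.gen hx hy'E hy'c hcE hc1c hc11 hcgen (Subgroup.subset_closure (by simp)) (Subgroup.subset_closure (by simp))
        · rw [← hzpow]; exact pow_mem hzK _
        · exact Or.inr ⟨y ^ t, pow_mem hyE t, hzK⟩
      · rw [hpow, hzpow]; exact h.pE _ hcE
      · calc x * z = x * (x⁻¹ * z * x) := by rw [hzx]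
          _ = z * x := by group
      · exact (hCab _ (h.E_le_C hy'E) _ hzC).eq
      · rw [hzpow]; exact hy'x
    · -- type (c)
      right
      clear_value x₀
      set w₀ := b⁻¹ * (x⁻¹ * b * x) with hw₀
      have hw₀E : w₀ ∈ E := mul_mem (inv_mem hbE') (h.conj_mem hbE' x)
      have hw₀c : w₀ ∈ Subgroup.center G := h.comm_mem_center hbE' x
      have hw₀1 : w₀ ≠ 1 := hnf hbE' hbc hx
      have hbx : x⁻¹ * b * x = b * w₀ := by rw [hw₀, mul_inv_cancel_left]
      obtain ⟨s, hs⟩ := h.exists_pow hC hcE hc1c hc11 hw₀E hw₀c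
      have hbc' : Commute c b := hCab c hcC b hbC
      by_cases hsq : IsSquare (s : ZMod p)
      · obtain ⟨r, hr⟩ := hsq
        have hs0 : (s : ZMod p) ≠ 0 := by
          intro h0
          rw [ZMod.natCast_eq_zero_iff] at h0
          obtain ⟨k, rfl⟩ := h0
          apply hw₀1
          rw [hs, pow_mul, h.pE _ hcE, one_pow]
        have hr0 : r ≠ 0 := by
          rintro rfl
          exact hs0 (by rw [hr, mul_zero])
        set ν : ℕ := (r⁻¹ : ZMod p).val with hν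
        have hνr : (ν : ZMod p) = r⁻¹ := by rw [hν]; exact ZMod.natCast_rightInverse _
        have hsν : w₀ ^ (ν * ν) = c₁ := by
          have h1 : ((s * (ν * ν) : ℕ) : ZMod p) = ((1 : ℕ) : ZMod p) := by
            push_cast
            rw [hνr, hr]
            field_simp
          have h2 : s * (ν * ν) ≡ 1 [MOD p] := (ZMod.natCast_eq_natCast_iff _ _ _).1 h1
          rw [hs, ← pow_mul]
          have h3 : orderOf c₁ = p := orderOf_eq_prime (h.pE _ hcE) hc11
          have h4 := (pow_eq_pow_iff_modEq (x := c₁) (n := s * (ν * ν)) (m := 1)).2 (by rw [h3]; exact h2)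
          rw [h4, pow_one]
        have hcx' : (x ^ ν)⁻¹ * c * x ^ ν = c * (b ^ ν * w₀ ^ ν.choose 2) := by
          have := conj_iter (x := x) (w := c) (v := b) (e := w₀) (f := 1) hcx hbx
            (by rw [mul_one]; exact hfix _ hw₀c x) (by simp) (hcen hw₀c b).symm (Commute.one_right _) ν
          rwa [one_pow, mul_one] at this
        have hbx' : (x ^ ν)⁻¹ * b * x ^ ν = b * w₀ ^ ν := by
          have := conj_iter (x := x) (w := b) (v := w₀) (e := 1) (f := 1) hbx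
            (by rw [mul_one]; exact hfix _ hw₀c x) (by simp) (by simp) (Commute.one_right _) (Commute.one_right _) ν
          rwa [one_pow, one_pow, mul_one, mul_one] at this
        set y' := b ^ ν * w₀ ^ ν.choose 2 with hy'
        have hy'E : y' ∈ E := mul_mem (pow_mem hbE' _) (pow_mem hw₀E _)
        have hy'x : (x ^ ν)⁻¹ * y' * x ^ ν = y' * c₁ := by
          have h1 : (x ^ ν)⁻¹ * b ^ ν * x ^ ν = b ^ ν * c₁ := by
            rw [← pow_conj, hbx', ((hcen hw₀c b).symm.pow_right ν).mul_pow, ← pow_mul, hsν]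
          have h2 := hfix _ (pow_mem hw₀c (ν.choose 2)) (x ^ ν)
          calc (x ^ ν)⁻¹ * y' * x ^ ν = ((x ^ ν)⁻¹ * b ^ ν * x ^ ν) * ((x ^ ν)⁻¹ * w₀ ^ ν.choose 2 * x ^ ν) := by
                rw [hy']; group
            _ = b ^ ν * (c₁ * w₀ ^ ν.choose 2) := by rw [h1, h2, mul_assoc]
            _ = y' * c₁ := by rw [(hcen hc1c _).eq, hy', mul_assoc]
        have hy'c : y' ∉ Subgroup.center G := by
          intro h1
          rw [hfix _ h1, left_eq_mul] at hy'x
          exact hc11 hy'x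
        have hx'C : x ^ ν ∉ C := by
          intro h1
          have h2 : (x ^ ν)⁻¹ * y' * x ^ ν = y' := by
            rw [mul_assoc, ← (h.commC h1 hy'E).eq, inv_mul_cancel_left]
          rw [h2, left_eq_mul] at hy'x
          exact hc11 hy'x
        have hy'com : Commute c y' := hCab c hcC y' (h.E_le_C hy'E)
        refine ⟨hn4, 1, x ^ ν, y', c, Or.inl rfl, ?_, ?_, h.pE _ hy'E, ?_, hy'com.symm.eq, ?_, ?_⟩
        · have hcK : c ∈ Subgroup.closure ({x ^ ν, y', c} : Set G) := Subgroup.subset_closure (by simp)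
          apply h.gen hx'C hy'E hy'c hcE hc1c hc11 hcgen (Subgroup.subset_closure (by simp))
            (Subgroup.subset_closure (by simp))
          · exact pow_mem hcK _
          · exact Or.inl hcK
        · rw [← pow_mul, mul_comm, pow_mul, hxp, one_pow]
        · rw [hpow]; exact h.pE _ hcE
        · rw [one_mul]; exact hy'x
        · rw [hcx', hy'com.eq]
      · refine ⟨hn4, s, x, b, c, Or.inr hsq, ?_, hxp, h.pE _ hbE', ?_, hbc'.symm.eq, ?_, ?_⟩
        · have hcK : c ∈ Subgroup.closure ({x, b, c} : Set G) := Subgroup.subset_closure (by simp)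
          apply h.gen hx hbE' hbc hcE hc1c hc11 hcgen (Subgroup.subset_closure (by simp))
            (Subgroup.subset_closure (by simp))
          · exact pow_mem hcK _
          · exact Or.inl hcK
        · rw [hpow]; exact h.pE _ hcE
        · rw [hbx, hs, mul_comm s, pow_mul, ← hc₁]
        · rw [hcx, hbc'.eq]

end Cfg

theorem blackburn (hp2 : p ≠ 2) (n : ℕ) (hG : Nat.card G = p ^ n) (hrk : Cfsg.PRankLE p 2 G) :
    Cfsg.IsMetacyclic G ∨
    (3 ≤ n ∧ ∃ x y z : G, Subgroup.closure ({x, y, z} : Set G) = ⊤ ∧ x ^ p = 1 ∧ y ^ p = 1 ∧ z ^ p ^ (n - 2) = 1 ∧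
        x * z = z * x ∧ y * z = z * y ∧ x⁻¹ * y * x = y * z ^ p ^ (n - 3)) ∨
    (4 ≤ n ∧ ∃ (s : ℕ) (x y z : G), (s = 1 ∨ ¬ IsSquare (s : ZMod p)) ∧ Subgroup.closure ({x, y, z} : Set G) = ⊤ ∧
        x ^ p = 1 ∧ y ^ p = 1 ∧ z ^ p ^ (n - 2) = 1 ∧ y * z = z * y ∧ x⁻¹ * y * x = y * z ^ (s * p ^ (n - 3)) ∧
        x⁻¹ * z * x = y * z) ∨
    (p = 3 ∧ MaxCl G n) := by
  by_cases hm : IsMetacyclic G
  · exact Or.inl hm
  right
  by_cases hnc : IsCyclic G
  · exfalso
    apply hm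
    refine ⟨⊤, inferInstance, ?_, ?_⟩
    · exact Subgroup.topEquiv.isCyclic.2 hnc
    · have : Subsingleton (G ⧸ (⊤ : Subgroup G)) := QuotientGroup.subsingleton_quotient_top
      infer_instance
  obtain ⟨E, C, h⟩ := exists_cfg hp2 (IsPGroup.of_card hG) hrk hnc
  rcases h.exists_order_p hm hG with ⟨x, hx, hxp⟩ | h3
  · by_cases hp3 : p = 3
    · rcases h.maxcl_or hx hxp hG with h4 | h4
      · exact Or.inr (Or.inr ⟨hp3, h4⟩)
      · rcases h.final hx hxp (fun _ => h4) hG with h5 | h5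
        · exact Or.inl h5
        · exact Or.inr (Or.inl h5)
    · rcases h.final hx hxp (fun h5 => absurd h5 hp3) hG with h5 | h5
      · exact Or.inl h5
      · exact Or.inr (Or.inl h5)
  · exact Or.inr (Or.inr h3)

end cfg

end H56.Rk2
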