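import Mathlib
import Cfsg.Agent.Lib.H56.SF1
import Cfsg.Agent.Lib.H56.SF4
import Cfsg.Agent.Lib.H36.AlpGold
import Cfsg.Agent.Lib.H52.ClassTwo
import Cfsg.Agent.Lib.H13.Transport
import Cfsg.Agent.Lib.H5.ZStar

set_option autoImplicit false

/-! Fusion in 3'-groups with Sylow 2-subgroups of class two. -/

namespace H56.SF

open Subgroup Cfsg H26.LocalFitting
open scoped commutatorElement

universe u

variable {G : Type u} [Group G] [Finite G]

theorem not_involves (h3 : ¬ 3 ∣ Nat.card G) : ¬ Involves (Equiv.Perm (Fin 4)) G := by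
  rintro ⟨K, R, hR, ⟨e⟩⟩
  apply h3
  have h1 : Nat.card (K ⧸ R.subgroupOf K) = 24 := by
    rw [Nat.card_congr e.toEquiv, Nat.card_eq_fintype_card, Fintype.card_perm, Fintype.card_fin]
    rfl
  have h2 : Nat.card (K ⧸ R.subgroupOf K) ∣ Nat.card K := Subgroup.card_quotient_dvd_card _
  rw [h1] at h2
  exact (Dvd.dvd.trans (by norm_num) h2).trans (Subgroup.card_subgroup_dvd_card K)

/-- The class-two condition. -/
def C2 (S : Subgroup G) : Prop := ∀ a ∈ S, ∀ b ∈ S, ∀ c ∈ S, ⁅a, b⁆ * c = c * ⁅a, b⁆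

theorem odd_two_elt {x : G} {S T : Subgroup G} (hS : IsPGroup 2 S) (hT : (Nat.card T).Coprime 2) (h1 : x ∈ S)
    (h2 : x ∈ T) : x = 1 := by
  have := H1.Cores.disjoint_of_isPGroup (G := G) (p := 2) (P := S) (Q := T) hS hT
  have h3 : x ∈ S ⊓ T := ⟨h1, h2⟩
  rw [show S ⊓ T = ⊥ from this] at h3
  exact Subgroup.mem_bot.1 h3

omit [Finite G] in
theorem mem_sup_of_comm {A B : Subgroup G} (h : ∀ a ∈ A, ∀ b ∈ B, a * b = b * a) {x : G} (hx : x ∈ A ⊔ B) :
    ∃ a ∈ A, ∃ b ∈ B, x = a * b := by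
  let D : Subgroup G :=
    { carrier := {x | ∃ a ∈ A, ∃ b ∈ B, x = a * b}
      one_mem' := ⟨1, one_mem _, 1, one_mem _, by simp⟩
      mul_mem' := by
        rintro _ _ ⟨a, ha, b, hb, rfl⟩ ⟨a', ha', b', hb', rfl⟩
        refine ⟨a * a', mul_mem ha ha', b * b', mul_mem hb hb', ?_⟩
        calc a * b * (a' * b') = a * (b * a') * b' := by group
          _ = a * (a' * b) * b' := by rw [h a' ha' b hb]
          _ = a * a' * (b * b') := by group
      inv_mem' := by
        rintro _ ⟨a, ha, b, hb, rfl⟩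
        refine ⟨a⁻¹, inv_mem ha, b⁻¹, inv_mem hb, ?_⟩
        rw [h a ha b hb]; group }
  have hle : A ⊔ B ≤ D := sup_le (fun a ha => ⟨a, ha, 1, one_mem _, by simp⟩) (fun b hb => ⟨1, one_mem _, b, hb, by simp⟩)
  exact hle hx

/-- Members of the conjugation family. -/
theorem member (h3 : ¬ 3 ∣ Nat.card G) (S : Sylow 2 G) (hc : C2 (S : Subgroup G)) {U : Subgroup G}
    (hU : U ∈ H36.AlpGold.fam S) {x : G} (hx : x ∈ normalizer (U : Set G)) :
    ∃ m ∈ normalizer (thompsonSubgroupOf 2 (S : Subgroup G) : Set G), ∀ u ∈ U, m * u * m⁻¹ = x * u * x⁻¹ := by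
  have : Fact (Nat.Prime 2) := ⟨Nat.prime_two⟩
  obtain ⟨hUS, hsyl, hC, hint⟩ := hU
  obtain ⟨i1, i2, i3, i4, i5⟩ := hint
  set N := normalizer (U : Set G) with hN
  set O := ppc 2 N with hO
  set X := H36.AlpGold.pppc 2 N with hX
  have hOc : (Nat.card O).Coprime 2 := card_ppc 2 N
  have hUp : IsPGroup 2 U := S.2.to_le hUS
  have hUN : U ≤ N := le_normalizer
  -- centralizer
  have hXU : ∀ y ∈ X, (∃ T : Subgroup G, IsPGroup 2 T ∧ y ∈ T) → y ∈ U := by
    rintro y hy ⟨T, hT, hyT⟩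
    rw [← i5] at hy
    obtain ⟨o, ho, u, hu, rfl⟩ := mem_sup_of_comm i3 hy
    -- `o` has 2-power order as well
    have h1 : IsPGroup 2 (zpowers (o * u)) := hT.to_le (zpowers_le.2 hyT)
    have hcom : Commute (o * u) u := by
      show o * u * u = u * (o * u)
      rw [← mul_assoc, ← i3 o ho u hu]
    obtain ⟨k, hk⟩ := hT ⟨o * u, hyT⟩
    obtain ⟨l, hl⟩ := hUp ⟨u, hu⟩
    have hk' : (o * u) ^ 2 ^ k = 1 := congrArg Subtype.val hk
    have hl' : u ^ 2 ^ l = 1 := congrArg Subtype.val hl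
    have hou : Commute o u := i3 o ho u hu
    have h2 : o ^ 2 ^ (k + l) = 1 := by
      have h3 : (o * u) ^ 2 ^ (k + l) = 1 := by rw [pow_add, pow_mul, hk', one_pow]
      have h4 : u ^ 2 ^ (k + l) = 1 := by rw [pow_add, mul_comm, pow_mul, hl', one_pow]
      rw [hou.mul_pow, h4, mul_one] at h3
      exact h3
    have h3 : (orderOf o).Coprime 2 := coprime_orderOf_of_mem_ppc ho
    have h4 : orderOf o = 1 := by
      apply Nat.Coprime.eq_one_of_dvd (Nat.Coprime.pow_right (k + l) h3)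
      exact orderOf_dvd_of_pow_eq_one h2
    rw [orderOf_eq_one_iff.1 h4, one_mul]
    exact hu
  have hSN : (S : Subgroup G) ≤ N := by
    intro s hs
    rw [hN, mem_normalizer_iff]
    have key : ∀ s ∈ (S : Subgroup G), ∀ u ∈ U, s * u * s⁻¹ ∈ U := by
      intro s hs u hu
      have h1 : ⁅s, u⁆ ∈ (S : Subgroup G) := mul_mem (mul_mem (mul_mem hs (hUS hu)) (inv_mem hs)) (inv_mem (hUS hu))
      have h2 : ⁅s, u⁆ ∈ centralizer (U : Set G) := by
        rw [mem_centralizer_iff]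
        intro v hv
        exact (hc s hs u (hUS hu) v (hUS hv)).symm
      have h3 := hXU _ (hC h2) ⟨(S : Subgroup G), S.2, h1⟩
      have h4 : s * u * s⁻¹ = ⁅s, u⁆ * u := by rw [commutatorElement_def]; group
      rw [h4]
      exact mul_mem h3 hu
    intro u
    constructor
    · exact key s hs u
    · intro h1
      have h2 := key s⁻¹ (inv_mem hs) _ h1
      have e : s⁻¹ * (s * u * s⁻¹) * s⁻¹⁻¹ = u := by group
      rwa [e] at h2
  have hSsylN : H28.RelSyl.IsSyl 2 (S : Subgroup G) N := (H28.RelSyl.isSyl_top S).of_le_of_le hSN le_top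
  -- 2-constrained
  have hcon : IsPConstrained 2 N := by
    intro P y hy
    have hP1 : ((P : Subgroup ↥(pPrimePCore 2 N)).map (pPrimePCore 2 N).subtype).map N.subtype = U := by
      set P2 := ((P : Subgroup ↥(pPrimePCore 2 N)).map (pPrimePCore 2 N).subtype).map N.subtype with hP2
      have hP2p : IsPGroup 2 P2 := (P.2.map _).map _
      have hP2X : P2 ≤ X := by
        rw [hP2, hX]
        exact map_mono (Subgroup.map_subtype_le _)
      have hle : P2 ≤ U := fun y hy => hXU y (hP2X hy) ⟨P2, hP2p, hy⟩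
      refine le_antisymm hle ?_
      -- maximality
      have h1 : ¬ 2 ∣ P2.relIndex X := by
        rw [hP2, hX]
        show ¬ 2 ∣ (((P : Subgroup ↥(pPrimePCore 2 N)).map (pPrimePCore 2 N).subtype).map N.subtype).relIndex
          ((pPrimePCore 2 N).map N.subtype)
        rw [Subgroup.relIndex_map_map_of_injective _ _ N.subtype_injective]
        exact (H28.RelSyl.isSyl_map P).not_dvd
      have h2 : H28.RelSyl.IsSyl 2 P2 X := ⟨hP2X, hP2p, h1⟩
      exact (h2.eq_of_le hUp hle i2).le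
    have hyU : (y : G) ∈ centralizer (U : Set G) := by
      rw [mem_centralizer_iff]
      intro u hu
      rw [← hP1] at hu
      obtain ⟨v, hv, hvu⟩ := hu
      have := mem_centralizer_iff.1 hy v hv
      rw [← hvu]
      exact congrArg Subtype.val this
    have h1 := hC hyU
    obtain ⟨w, hw, hwy⟩ := h1
    have : w = y := Subtype.ext hwy
    rw [← this]; exact hw
  have h3N : ¬ 3 ∣ Nat.card N := fun h => h3 (h.trans (Subgroup.card_subgroup_dvd_card N))
  let SN : Sylow 2 N := hSsylN.toSylow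
  have hSN2 : (SN : Subgroup N) = (S : Subgroup G).subgroupOf N := hSsylN.coe_toSylow
  have hmap : (SN : Subgroup N).map N.subtype = (S : Subgroup G) := by
    rw [hSN2]; exact Subgroup.map_subgroupOf_eq_of_le hSN
  have hcl : ⁅⁅(SN : Subgroup N), (SN : Subgroup N)⁆, (SN : Subgroup N)⁆ = ⊥ := by
    rw [Subgroup.commutator_eq_bot_iff_le_centralizer, Subgroup.commutator_le]
    intro a ha b hb
    rw [mem_centralizer_iff]
    intro c hc'
    rw [hSN2] at ha hb hc'
    apply Subtype.ext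
    exact (hc a ha b hb c hc').symm
  have hmain := H52.ClassTwo.main hcon (not_involves h3N) SN hcl
  have hxN : (⟨x, hx⟩ : N) ∈ normalizer (thompsonSubgroupOf 2 (SN : Subgroup N) : Set N) ⊔ pPrimeCore 2 N := by
    rw [hmain]; trivial
  have hcn : (pPrimeCore 2 N).Normal := H1.Cores.pPrimeCore_normal 2
  rw [Subgroup.mem_sup_of_normal_right] at hxN
  obtain ⟨m, hm, o, ho, hmo⟩ := hxN
  have hJ : (thompsonSubgroupOf 2 (SN : Subgroup N)).map N.subtype = thompsonSubgroupOf 2 (S : Subgroup G) := by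
    rw [H13.Transport.map_thompsonOf _ _ (by rw [Subgroup.ker_subtype, inf_bot_eq]), hmap]
  refine ⟨m, ?_, ?_⟩
  · rw [← hJ]
    rw [mem_normalizer_iff]
    intro y
    constructor
    · rintro ⟨z, hz, rfl⟩
      exact ⟨m * z * m⁻¹, (mem_normalizer_iff.1 hm z).1 hz, rfl⟩
    · rintro ⟨z, hz, hzy⟩
      refine ⟨m⁻¹ * z * m, ?_, ?_⟩
      · have h1 := (mem_normalizer_iff.1 (inv_mem hm) z).1 hz
        rwa [inv_inv] at h1
      · show (m : G)⁻¹ * (z : G) * (m : G) = y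
        have h1 : (z : G) = (m : G) * y * (m : G)⁻¹ := hzy
        rw [h1]; group
  · intro u hu
    have hoO : (o : G) ∈ O := ⟨o, ho, rfl⟩
    have h1 := i3 _ hoO u hu
    have h2 : x = (m : G) * (o : G) := (congrArg Subtype.val hmo).symm
    rw [h2]
    calc (m : G) * u * (m : G)⁻¹ = (m : G) * (u * (o : G)) * (o : G)⁻¹ * (m : G)⁻¹ := by group
      _ = (m : G) * ((o : G) * u) * (o : G)⁻¹ * (m : G)⁻¹ := by rw [h1]
      _ = (m : G) * (o : G) * u * ((m : G) * (o : G))⁻¹ := by group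

/-- Fusion is controlled by the normalizer of `S`. -/
theorem fus_control (h3 : ¬ 3 ∣ Nat.card G) (S : Sylow 2 G) (hc : C2 (S : Subgroup G)) (O' : Subgroup G)
    (hO' : (Nat.card O').Coprime 2) (hSO : (S : Subgroup G) ≤ normalizer (O' : Set G))
    (hM : ∀ m ∈ normalizer (thompsonSubgroupOf 2 (S : Subgroup G) : Set G),
      ∃ o ∈ O', ∃ n ∈ normalizer ((S : Subgroup G) : Set G), m = o * n)
    (A : Set G) (hA : ∀ a ∈ A, a ∈ (S : Subgroup G)) (g : G) (hg : ∀ a ∈ A, g * a * g⁻¹ ∈ (S : Subgroup G)) :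
    ∃ n ∈ normalizer ((S : Subgroup G) : Set G), ∀ a ∈ A, n * a * n⁻¹ = g * a * g⁻¹ := by
  have : Fact (Nat.Prime 2) := ⟨Nat.prime_two⟩
  let R : Set G → G → Prop := fun A g => ∃ n ∈ normalizer ((S : Subgroup G) : Set G), ∀ a ∈ A, n * a * n⁻¹ = g * a * g⁻¹
  have hR : H38.Alperin.IsFusionRel R := by
    refine ⟨?_, ?_, ?_⟩
    · rintro A g h ⟨n, hn, h1⟩ ⟨m, hm, h2⟩
      refine ⟨m * n, mul_mem hm hn, ?_⟩
      intro a ha
      have h4 := h2 (g * a * g⁻¹) ⟨a, ha, rfl⟩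
      calc m * n * a * (m * n)⁻¹ = m * (n * a * n⁻¹) * m⁻¹ := by group
        _ = m * (g * a * g⁻¹) * m⁻¹ := by rw [h1 a ha]
        _ = h * (g * a * g⁻¹) * h⁻¹ := h4
        _ = h * g * a * (h * g)⁻¹ := by group
    · rintro A g ⟨n, hn, h1⟩
      refine ⟨n⁻¹, inv_mem hn, ?_⟩
      rintro _ ⟨a, ha, rfl⟩
      show n⁻¹ * (g * a * g⁻¹) * n⁻¹⁻¹ = g⁻¹ * (g * a * g⁻¹) * g⁻¹⁻¹
      rw [← h1 a ha]; group
      rw [show g ^ (-1 : ℤ) * n * a * n ^ (-1 : ℤ) * g = g⁻¹ * (n * a * n⁻¹) * g by group, h1 a ha]; group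
    · rintro A B g hAB ⟨n, hn, h1⟩
      exact ⟨n, hn, fun a ha => h1 a (hAB ha)⟩
  obtain ⟨k, hk, hkg⟩ := H36.AlpGold.fusion S A hA g (by
    rintro _ ⟨a, ha, rfl⟩
    exact hg a ha)
  have h1 : R A k := by
    refine H38.Alperin.Chain.rel hR (S := (S : Subgroup G)) (fun T hT => hT.1) ?_ ?_ hk hA
    · intro A _
      exact ⟨1, one_mem _, fun a _ => rfl⟩
    · intro T hT x hx
      obtain ⟨m, hm, hmx⟩ := member h3 S hc hT hx
      obtain ⟨o, ho, n, hn, hmo⟩ := hM m hm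
      refine ⟨n, hn, ?_⟩
      intro u hu
      have hTS : T ≤ (S : Subgroup G) := hT.1
      set v := n * u * n⁻¹ with hv
      have hvS : v ∈ (S : Subgroup G) := (mem_normalizer_iff.1 hn u).1 (hTS hu)
      have h4 : o * v * o⁻¹ = x * u * x⁻¹ := by
        rw [← hmx u hu, hmo, hv]; group
      have h5 : x * u * x⁻¹ ∈ (S : Subgroup G) := hTS ((mem_normalizer_iff.1 hx u).1 hu)
      have h6 : o * v * o⁻¹ * v⁻¹ ∈ (S : Subgroup G) := by
        rw [h4]; exact mul_mem h5 (inv_mem hvS)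
      have h7 : o * v * o⁻¹ * v⁻¹ ∈ O' := by
        have e : o * v * o⁻¹ * v⁻¹ = o * (v * o⁻¹ * v⁻¹) := by group
        rw [e]
        exact mul_mem ho ((mem_normalizer_iff.1 (hSO hvS) o⁻¹).1 (inv_mem ho))
      have h8 := odd_two_elt S.2 hO' h6 h7
      rw [← h4]
      exact (mul_inv_eq_one.1 h8).symm
  obtain ⟨n, hn, h4⟩ := h1
  exact ⟨n, hn, fun a ha => (h4 a ha).trans (hkg a ha)⟩

end H56.SF
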