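import Mathlib
import Cfsg.Agent.Lib.H56.SF5
import Cfsg.Agent.S3779
import Cfsg.Agent.S1279
import Cfsg.Agent.S0217

set_option autoImplicit false

/-! The minimal counterexample. -/

namespace H56.SF

open Subgroup Cfsg H26.LocalFitting
open scoped commutatorElement

universe u

/-- The minimal counterexample. -/
structure Ctx {G : Type u} [Group G] [Finite G] (σ : MulAut G) (S : Sylow 2 G) : Prop where
  h : Cl σ
  FT : ∀ (H : Type u) [Group H] [Finite H], Odd (Nat.card H) → Group.IsSolvable H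
  inv : ∀ K : Subgroup G, (∀ x ∈ K, σ x ∈ K) → K ≠ ⊤ → Group.IsSolvable K
  sim : ∀ N : Subgroup G, N.Normal → (∀ x ∈ N, σ x ∈ N) → N = ⊥ ∨ N = ⊤
  ns : ¬ Group.IsSolvable G
  hS : ∀ x ∈ (S : Subgroup G), σ x ∈ (S : Subgroup G)

namespace Ctx

variable {G : Type u} [Group G] [Finite G] {σ : MulAut G} {S : Sylow 2 G} (c : Ctx σ S)
include c

theorem core_bot : pPrimeCore 2 G = ⊥ := by
  rcases c.sim _ (H1.Cores.pPrimeCore_normal 2) (Cl.char_inv (H1.Cores.pPrimeCore_characteristic 2)) with h | h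
  · exact h
  · exfalso
    apply c.ns
    apply c.FT
    have h1 := H1.Cores.coprime_card_pPrimeCore (G := G) 2
    rw [h, Subgroup.card_top] at h1
    exact Nat.coprime_two_right.1 h1

theorem center_bot : center G = ⊥ := by
  rcases c.sim (center G) inferInstance (Cl.char_inv (K := center G) inferInstance) with h | h
  · exact h
  · exfalso
    apply c.ns
    have : ∀ a b : G, a * b = b * a := by
      intro a b
      have h1 : b ∈ center G := by rw [h]; trivial
      exact mem_center_iff.1 h1 a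
    exact Group.isSolvable_of_comm this

theorem S_ne : (S : Subgroup G) ≠ ⊥ := by
  intro h
  apply c.ns
  apply c.FT
  have h1 := S.not_dvd_index
  rw [h, Subgroup.index_bot] at h1
  rw [← Nat.not_even_iff_odd]
  intro h2
  exact h1 (even_iff_two_dvd.1 h2)

/-- Norm relation. -/
theorem norm_rel {a : G} (ha : a ∈ (S : Subgroup G)) (h1 : a * σ a = σ a * a) (h2 : a * σ (σ a) = σ (σ a) * a) :
    a * σ a * σ (σ a) = 1 := by
  apply c.h.eq_one_of_fix _ S.2
    (mul_mem (mul_mem ha (c.hS a ha)) (c.hS _ (c.hS a ha)))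
  rw [map_mul, map_mul, c.h.h3]
  calc σ a * σ (σ a) * a = σ a * (a * σ (σ a)) := by rw [h2]; group
    _ = (a * σ a) * σ (σ a) := by rw [h1]; group

theorem classTwo : C2 (S : Subgroup G) := by
  have : Fact (Nat.Prime 2) := ⟨Nat.prime_two⟩
  obtain ⟨τ, hτ, hτC⟩ := c.h.res (S : Subgroup G) c.hS
  have hfpf : ∀ g : S, τ g = g → g = 1 := by
    intro g hg
    apply Subtype.ext
    apply c.h.eq_one_of_fix _ S.2 g.2
    rw [← hτ, hg]
  have hord : orderOf τ = 3 := by
    apply orderOf_eq_prime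
    · ext g
      exact congrArg Subtype.val (hτC.h3 g)
    · intro h1
      apply c.S_ne
      rw [eq_bot_iff]
      intro x hx
      have := hfpf ⟨x, hx⟩ (by rw [h1]; rfl)
      exact Subgroup.mem_bot.2 (congrArg Subtype.val this)
  have hmain := (Cfsg.Agent.S3779.result (by norm_num : Nat.Prime 3) τ hord hfpf).2.1 rfl
  have h1 : ⁅⁅(⊤ : Subgroup S), (⊤ : Subgroup S)⁆, (⊤ : Subgroup S)⁆ = ⊥ := hmain
  rw [Subgroup.commutator_eq_bot_iff_le_centralizer] at h1
  intro a ha b hb d hd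
  have h2 : ⁅(⟨a, ha⟩ : S), (⟨b, hb⟩ : S)⁆ ∈ centralizer ((⊤ : Subgroup S) : Set S) :=
    h1 (commutator_mem_commutator (mem_top _) (mem_top _))
  have h3 := mem_centralizer_iff.1 h2 ⟨d, hd⟩ (mem_top _)
  exact (congrArg Subtype.val h3).symm

/-- An invariant nontrivial 2-subgroup has proper normalizer. -/
theorem normalizer_ne {K : Subgroup G} (hK : IsPGroup 2 K) (hKσ : ∀ x ∈ K, σ x ∈ K) (hne : K ≠ ⊥) :
    normalizer (K : Set G) ≠ ⊤ := by
  intro h1
  have hn : K.Normal := Subgroup.normalizer_eq_top_iff.1 h1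
  rcases c.sim K hn hKσ with h2 | h2
  · exact hne h2
  · apply c.ns
    have h3 : IsPGroup 2 G := by
      rw [h2] at hK
      intro g
      obtain ⟨k, hk⟩ := hK ⟨g, mem_top g⟩
      exact ⟨k, congrArg Subtype.val hk⟩
    have : Fact (Nat.Prime 2) := ⟨Nat.prime_two⟩
    have : Group.IsNilpotent G := h3.isNilpotent
    infer_instance

theorem normalizer_inv {K : Subgroup G} (hKσ : ∀ x ∈ K, σ x ∈ K) :
    ∀ x ∈ normalizer (K : Set G), σ x ∈ normalizer (K : Set G) := by
  intro x hx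
  rw [mem_normalizer_iff]
  intro y
  have hs := c.h.symm_mem hKσ
  have hk : ∀ z, σ z ∈ K ↔ z ∈ K := fun z => ⟨fun h => by have := hs _ h; rwa [MulEquiv.symm_apply_apply] at this, hKσ z⟩
  obtain ⟨z, rfl⟩ := σ.surjective y
  rw [← map_inv, ← map_mul, ← map_mul, hk, hk]
  exact mem_normalizer_iff.1 hx z

/-- The decomposition in an invariant proper subgroup containing `S`. -/
theorem decomp {K : Subgroup G} (hSK : (S : Subgroup G) ≤ K) (hKσ : ∀ x ∈ K, σ x ∈ K) (hK : K ≠ ⊤) :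
    (∀ g ∈ K, ∃ o ∈ ppc 2 K, ∃ n ∈ normalizer ((S : Subgroup G) : Set G), n ∈ K ∧ g = o * n) ∧
    (∀ g ∈ K, ∃ d, σ d = d ∧ ∃ s ∈ (S : Subgroup G), ∃ o ∈ ppc 2 K, g = d * (s * o)) := by
  have : Fact (Nat.Prime 2) := ⟨Nat.prime_two⟩
  obtain ⟨τ, hτ, hτC⟩ := c.h.res K hKσ
  have hs := c.inv K hKσ hK
  have hsyl : H28.RelSyl.IsSyl 2 ((S : Subgroup G).subgroupOf K) ⊤ := by
    refine ⟨le_top, (H28.RelSyl.isPGroup_subgroupOf hSK).2 S.2, ?_⟩
    rw [relIndex_top_right]
    exact ((H28.RelSyl.isSyl_top S).of_le_of_le hSK le_top).not_dvd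
  constructor
  · intro g hg
    obtain ⟨o, ho, n, hn, hgn⟩ := hτC.exists_core_normalizer hs hsyl ⟨g, hg⟩
    refine ⟨o, ⟨o, ho, rfl⟩, n, ?_, n.2, congrArg Subtype.val hgn⟩
    rw [mem_normalizer_iff]
    intro y
    have h1 := mem_normalizer_iff.1 hn
    constructor
    · intro hy
      exact (h1 ⟨y, hSK hy⟩).1 hy
    · intro hy
      have h2 : y ∈ K := by
        have h3 := mul_mem (mul_mem (inv_mem n.2) (hSK hy)) n.2
        have e : (n : G)⁻¹ * ((n : G) * y * (n : G)⁻¹) * (n : G) = y := by group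
        rwa [e] at h3
      exact (h1 ⟨y, h2⟩).2 hy
  · intro g hg
    obtain ⟨d, hd, s, hs', o, ho, hg'⟩ := hτC.exists_decomp hs hsyl ⟨g, hg⟩
    refine ⟨d, ?_, s, hs', o, ⟨o, ho, rfl⟩, congrArg Subtype.val hg'⟩
    rw [← hτ, hd]

end Ctx

end H56.SF
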