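import Mathlib
import Cfsg.Agent.Lib.H56.SF6
import Cfsg.Agent.Lib.H1.ThompsonNPC

set_option autoImplicit false

/-! The minimal counterexample: fusion and centralizers. -/

namespace H56.SF

open Subgroup Cfsg H26.LocalFitting
open scoped commutatorElement

universe u

/-- `Ω₁(Z(S))`. -/
def omc {G : Type u} [Group G] (S : Subgroup G) : Subgroup G where
  carrier := {a | a ∈ S ∧ (∀ s ∈ S, s * a = a * s) ∧ a * a = 1}
  one_mem' := ⟨one_mem _, fun s _ => by simp, by simp⟩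
  mul_mem' := by
    rintro a b ⟨ha, ha1, ha2⟩ ⟨hb, hb1, hb2⟩
    refine ⟨mul_mem ha hb, ?_, ?_⟩
    · intro s hs
      rw [← mul_assoc, ha1 s hs, mul_assoc, hb1 s hs, mul_assoc]
    · calc a * b * (a * b) = a * (b * a) * b := by group
        _ = a * (a * b) * b := by rw [ha1 b hb]
        _ = (a * a) * (b * b) := by group
        _ = 1 := by rw [ha2, hb2, one_mul]
  inv_mem' := by
    rintro a ⟨ha, ha1, ha2⟩
    have : a⁻¹ = a := inv_eq_of_mul_eq_one_left ha2
    rw [this]; exact ⟨ha, ha1, ha2⟩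

theorem mem_omc {G : Type u} [Group G] {S : Subgroup G} {a : G} :
    a ∈ omc S ↔ a ∈ S ∧ (∀ s ∈ S, s * a = a * s) ∧ a * a = 1 := Iff.rfl

/-- No involution is conjugate to its image. -/
theorem Cl.not_conj {G : Type u} [Group G] [Finite G] {σ : MulAut G} (h : Cl σ) {x : G} (hx : x * x = 1)
    (hx1 : x ≠ 1) (g : G) : g * x * g⁻¹ ≠ σ x := by
  intro hg
  have h1 : ¬ 3 ∣ Nat.card (MulAction.orbit (ConjAct G) x) := by
    intro h2
    apply h.hc
    have h3 : Nat.card (MulAction.orbit (ConjAct G) x) ∣ Nat.card (ConjAct G) := by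
      rw [Nat.card_congr (MulAction.orbitEquivQuotientStabilizer (ConjAct G) x)]
      exact Subgroup.card_quotient_dvd_card _
    exact h2.trans h3
  have hmem : ∀ y : G, y ∈ MulAction.orbit (ConjAct G) x ↔ ∃ k : G, k * x * k⁻¹ = y := by
    intro y
    constructor
    · rintro ⟨k, hk⟩
      exact ⟨ConjAct.ofConjAct k, hk⟩
    · rintro ⟨k, hk⟩
      exact ⟨ConjAct.toConjAct k, hk⟩
  have hσ : ∀ y ∈ MulAction.orbit (ConjAct G) x, σ y ∈ MulAction.orbit (ConjAct G) x := by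
    intro y hy
    rw [hmem] at hy ⊢
    obtain ⟨k, rfl⟩ := hy
    refine ⟨σ k * g, ?_⟩
    rw [map_mul, map_mul, map_inv, ← hg]; group
  obtain ⟨⟨y, hy⟩, hyf⟩ := exists_fix (fun y : MulAction.orbit (ConjAct G) x => (⟨σ y, hσ y y.2⟩ : MulAction.orbit (ConjAct G) x))
    (fun y => Subtype.ext (h.h3 y)) h1
  have hyf' : σ y = y := congrArg Subtype.val hyf
  rw [hmem] at hy
  obtain ⟨k, hk⟩ := hy
  have h4 : y = 1 := by
    apply h.hf y hyf'
    rw [← hk]
    calc k * x * k⁻¹ * (k * x * k⁻¹) = k * (x * x) * k⁻¹ := by group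
      _ = 1 := by rw [hx]; group
  apply hx1
  rw [h4] at hk
  have : x = k⁻¹ * (k * x * k⁻¹) * k := by group
  rw [this, hk]; group

namespace Ctx

variable {G : Type u} [Group G] [Finite G] {σ : MulAut G} {S : Sylow 2 G} (c : Ctx σ S)
include c

omit [Finite G] c in
theorem mem_norm_of_conj {A : Subgroup G} {g : G} [Finite G] (h : ∀ a ∈ A, g * a * g⁻¹ ∈ A) :
    g ∈ normalizer (A : Set G) := by
  have h1 : A.map (MulAut.conj g).toMonoidHom ≤ A := by
    rintro _ ⟨a, ha, rfl⟩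
    exact h a ha
  have h2 : A.map (MulAut.conj g).toMonoidHom = A := by
    apply Subgroup.eq_of_le_of_card_ge h1
    rw [Nat.card_congr (A.equivMapOfInjective _ (MulAut.conj g).injective).symm.toEquiv]
  rw [mem_normalizer_iff]
  intro y
  constructor
  · exact h y
  · intro hy
    have h3 : g * y * g⁻¹ ∈ A.map (MulAut.conj g).toMonoidHom := by rw [h2]; exact hy
    obtain ⟨z, hz, hzy⟩ := h3
    have h4 : g * z * g⁻¹ = g * y * g⁻¹ := hzy
    have h5 : z = y := mul_left_cancel (mul_right_cancel h4)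
    rw [← h5]; exact hz

/-- Fusion is controlled by `N(S)`. -/
theorem fus (A : Set G) (hA : ∀ a ∈ A, a ∈ (S : Subgroup G)) (g : G) (hg : ∀ a ∈ A, g * a * g⁻¹ ∈ (S : Subgroup G)) :
    ∃ n ∈ normalizer ((S : Subgroup G) : Set G), ∀ a ∈ A, n * a * n⁻¹ = g * a * g⁻¹ := by
  have : Fact (Nat.Prime 2) := ⟨Nat.prime_two⟩
  set J := thompsonSubgroupOf 2 (S : Subgroup G) with hJ
  have hJS : J ≤ (S : Subgroup G) := Subgroup.map_subtype_le _
  have hJp : IsPGroup 2 J := S.2.to_le hJS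
  have hJne : J ≠ ⊥ := H1.ThompsonNPC.thompsonOf_ne_bot S.2 c.S_ne
  have hSmap : (S : Subgroup G).map (σ : G →* G) = (S : Subgroup G) := by
    apply le_antisymm
    · rintro _ ⟨x, hx, rfl⟩
      exact c.hS x hx
    · intro x hx
      exact ⟨σ.symm x, c.h.symm_mem c.hS x hx, σ.apply_symm_apply x⟩
  have hJσ : ∀ x ∈ J, σ x ∈ J := by
    intro x hx
    have h1 : J.map (σ : G →* G) = J := by
      rw [hJ, H13.Transport.map_thompsonOf _ _ (by
        rw [(MonoidHom.ker_eq_bot_iff _).2 σ.injective, inf_bot_eq]), hSmap]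
    rw [← h1]
    exact ⟨x, hx, rfl⟩
  have hSJ : (S : Subgroup G) ≤ normalizer (J : Set G) := by
    intro s hs
    apply mem_norm_of_conj
    intro a ha
    have h1 : (S : Subgroup G).map (MulAut.conj s).toMonoidHom = (S : Subgroup G) := by
      apply Subgroup.eq_of_le_of_card_ge
      · rintro _ ⟨x, hx, rfl⟩
        exact mul_mem (mul_mem hs hx) (inv_mem hs)
      · rw [Nat.card_congr ((S : Subgroup G).equivMapOfInjective _ (MulAut.conj s).injective).symm.toEquiv]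
    have h2 : J.map (MulAut.conj s).toMonoidHom = J := by
      rw [hJ, H13.Transport.map_thompsonOf _ _ (by
        rw [(MonoidHom.ker_eq_bot_iff _).2 (MulAut.conj s).injective, inf_bot_eq]), h1]
    rw [← h2]
    exact ⟨a, ha, rfl⟩
  have hK := c.normalizer_ne hJp hJσ hJne
  have hdec := (c.decomp hSJ (c.normalizer_inv hJσ) hK).1
  refine fus_control c.h.hc S c.classTwo (ppc 2 (normalizer (J : Set G))) (card_ppc _ _) ?_ ?_ A hA g hg
  · exact hSJ.trans (le_normalizer_ppc 2 _)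
  · intro m hm
    obtain ⟨o, ho, n, hn, -, hmn⟩ := hdec m hm
    exact ⟨o, ho, n, hn, hmn⟩

/-- Fusion of central elements. -/
theorem fus_cen (A : Set G) (hA : ∀ a ∈ A, a ∈ (S : Subgroup G)) (hAc : ∀ a ∈ A, ∀ s ∈ (S : Subgroup G), s * a = a * s)
    (g : G) (hg : ∀ a ∈ A, g * a * g⁻¹ ∈ (S : Subgroup G)) :
    ∃ d ∈ normalizer ((S : Subgroup G) : Set G), σ d = d ∧ ∀ a ∈ A, d * a * d⁻¹ = g * a * g⁻¹ := by
  have : Fact (Nat.Prime 2) := ⟨Nat.prime_two⟩
  obtain ⟨n, hn, hng⟩ := c.fus A hA g hg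
  have hSN : (S : Subgroup G) ≤ normalizer ((S : Subgroup G) : Set G) := le_normalizer
  obtain ⟨d, hd, s, hs, o, ho, hdo⟩ := (c.decomp hSN (c.normalizer_inv c.hS)
    (c.normalizer_ne S.2 c.hS c.S_ne)).2 n hn
  have ho1 : o ∈ normalizer ((S : Subgroup G) : Set G) := ppc_le _ _ ho
  refine ⟨d, ?_, hd, ?_⟩
  · have : d = n * (s * o)⁻¹ := by rw [hdo]; group
    rw [this]
    exact mul_mem hn (inv_mem (mul_mem (hSN hs) ho1))
  · intro a ha
    have hoa : o * a * o⁻¹ = a := by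
      have h1 : o * a * o⁻¹ * a⁻¹ ∈ (S : Subgroup G) :=
        mul_mem ((mem_normalizer_iff.1 ho1 a).1 (hA a ha)) (inv_mem (hA a ha))
      have h2 : o * a * o⁻¹ * a⁻¹ ∈ ppc 2 (normalizer ((S : Subgroup G) : Set G)) := by
        have e : o * a * o⁻¹ * a⁻¹ = o * (a * o⁻¹ * a⁻¹) := by group
        rw [e]
        exact mul_mem ho ((mem_normalizer_iff.1 (le_normalizer_ppc 2 _ (hSN (hA a ha))) o⁻¹).1 (inv_mem ho))
      exact mul_inv_eq_one.1 (odd_two_elt S.2 (card_ppc _ _) h1 h2)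
    rw [← hng a ha, hdo]
    calc d * a * d⁻¹ = d * (a * s) * s⁻¹ * d⁻¹ := by group
      _ = d * (s * a) * s⁻¹ * d⁻¹ := by rw [hAc a ha s hs]
      _ = d * s * (o * a * o⁻¹) * s⁻¹ * d⁻¹ := by rw [hoa]; group
      _ = d * (s * o) * a * (d * (s * o))⁻¹ := by group

theorem omc_inv : ∀ x ∈ omc (S : Subgroup G), σ x ∈ omc (S : Subgroup G) := by
  rintro x ⟨h1, h2, h3⟩
  refine ⟨c.hS x h1, ?_, ?_⟩
  · intro s hs
    obtain ⟨t, rfl⟩ := σ.surjective s
    have ht : t ∈ (S : Subgroup G) := by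
      have := c.h.symm_mem c.hS _ hs
      rwa [MulEquiv.symm_apply_apply] at this
    rw [← map_mul, h2 t ht, map_mul]
  · rw [← map_mul, h3, map_one]

theorem omc_ne : omc (S : Subgroup G) ≠ ⊥ := by
  have : Fact (Nat.Prime 2) := ⟨Nat.prime_two⟩
  have hn : Nontrivial (S : Subgroup G) := by
    rw [Subgroup.nontrivial_iff_ne_bot]; exact c.S_ne
  have h1 := S.2.center_nontrivial
  have hp : IsPGroup 2 (center (S : Subgroup G)) := S.2.to_subgroup _
  obtain ⟨x, hx⟩ := exists_prime_orderOf_dvd_card' (G := center (S : Subgroup G)) 2 (by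
    obtain ⟨n, hn0, hn⟩ := hp.nontrivial_iff_card.1 h1
    rw [hn]
    exact dvd_pow_self 2 (by omega))
  intro h2
  have hxx : x * x = 1 := by
    have h5 := pow_orderOf_eq_one x
    rw [hx, pow_two] at h5
    exact h5
  have hx1 : x ≠ 1 := by
    rintro rfl
    rw [orderOf_one] at hx; omega
  have h3 : ((x : S) : G) ∈ omc (S : Subgroup G) := by
    refine ⟨x.1.2, ?_, ?_⟩
    · intro s hs
      exact congrArg Subtype.val (mem_center_iff.1 x.2 ⟨s, hs⟩)
    · exact congrArg (fun y : center (S : Subgroup G) => ((y : S) : G)) hxx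
  rw [h2, Subgroup.mem_bot] at h3
  exact hx1 (Subtype.ext (Subtype.ext h3))

/-- Strong closure. -/
theorem omc_scl : ∀ a ∈ omc (S : Subgroup G), ∀ g : G, g * a * g⁻¹ ∈ (S : Subgroup G) →
    g * a * g⁻¹ ∈ omc (S : Subgroup G) := by
  rintro a ⟨h1, h2, h3⟩ g hg
  obtain ⟨d, hd, -, hda⟩ := c.fus_cen {a} (by rintro _ rfl; exact h1) (by rintro _ rfl; exact h2) g
    (by rintro _ rfl; exact hg)
  refine ⟨hg, ?_, ?_⟩
  · intro s hs
    rw [← hda a rfl]
    have h4 : d⁻¹ * s * d ∈ (S : Subgroup G) := by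
      have := (mem_normalizer_iff.1 (inv_mem hd) s).1 hs
      rwa [inv_inv] at this
    calc s * (d * a * d⁻¹) = d * ((d⁻¹ * s * d) * a) * d⁻¹ := by group
      _ = d * (a * (d⁻¹ * s * d)) * d⁻¹ := by rw [h2 _ h4]
      _ = d * a * d⁻¹ * s := by group
  · calc g * a * g⁻¹ * (g * a * g⁻¹) = g * (a * a) * g⁻¹ := by group
      _ = 1 := by rw [h3]; group

end Ctx

end H56.SF
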