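import Mathlib
import Cfsg.Agent.Lib.H56.SF7
import Cfsg.Agent.Lib.H27.Sig

set_option autoImplicit false

/-! The minimal counterexample: centralizers of central involutions. -/

namespace H56.SF

open Subgroup Cfsg H26.LocalFitting
open scoped commutatorElement

universe u

namespace Ctx

variable {G : Type u} [Group G] [Finite G] {σ : MulAut G} {S : Sylow 2 G} (c : Ctx σ S)
include c

theorem fix_image {a : G} (ha : a ∈ omc (S : Subgroup G)) {g : G} (hg : g * a = a * g)
    (hgS : g * σ a * g⁻¹ ∈ (S : Subgroup G)) : g * σ a * g⁻¹ = σ a := by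
  have hb := c.omc_inv a ha
  have hga : g * a * g⁻¹ = a := by rw [hg]; group
  obtain ⟨d, -, hdσ, hd⟩ := c.fus_cen {a, σ a} (by
    intro x hx
    rcases hx with rfl | rfl
    · exact ha.1
    · exact hb.1) (by
    intro x hx
    rcases hx with rfl | rfl
    · exact ha.2.1
    · exact hb.2.1) g (by
    intro x hx
    rcases hx with rfl | rfl
    · rw [hga]; exact ha.1
    · exact hgS)
  have h1 := hd a (by simp)
  have h2 := hd (σ a) (by simp)
  rw [hga] at h1
  rw [← h2]
  have h3 := congrArg σ h1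
  rw [map_mul, map_mul, map_inv, hdσ] at h3
  exact h3

omit [Finite G] c in
theorem le_cent {a : G} (ha : a ∈ omc (S : Subgroup G)) : (S : Subgroup G) ≤ centralizer ({a} : Set G) := by
  intro s hs
  rw [mem_centralizer_singleton_iff]
  exact ha.2.1 s hs

theorem cent_decomp1 {a : G} (ha : a ∈ omc (S : Subgroup G)) {g : G} (hg : g ∈ centralizer ({a} : Set G)) :
    ∃ o ∈ ppc 2 (centralizer ({a} : Set G)), ∃ k ∈ centralizer ({a} : Set G), k ∈ centralizer ({σ a} : Set G) ∧ g = o * k := by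
  have : Fact (Nat.Prime 2) := ⟨Nat.prime_two⟩
  set H := centralizer ({a} : Set G) with hH
  by_cases ha1 : σ a = 1
  · refine ⟨1, one_mem _, g, hg, ?_, by simp⟩
    rw [mem_centralizer_singleton_iff, ha1]; simp
  have hb := c.omc_inv a ha
  have hSH : (S : Subgroup G) ≤ H := le_cent ha
  have hbH : σ a ∈ H := hSH hb.1
  have hsyl : H28.RelSyl.IsSyl 2 (S : Subgroup G) H := (H28.RelSyl.isSyl_top S).of_le_of_le hSH le_top
  let P : Sylow 2 H := hsyl.toSylow
  have hP : (P : Subgroup H) = (S : Subgroup G).subgroupOf H := hsyl.coe_toSylow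
  let u : H := ⟨σ a, hbH⟩
  have huu : u * u = 1 := Subtype.ext hb.2.2
  have hu1 : u ≠ 1 := fun h => ha1 (congrArg Subtype.val h)
  have hu : orderOf u = 2 := H5.Dihedral.orderOf_eq_two huu hu1
  have hmain := H5.ZStar.sylow_form P u hu (by
    intro g hgP
    have h1 : g * u * g⁻¹ ∈ (P : Subgroup H) := hgP
    rw [hP, mem_subgroupOf] at h1
    apply Subtype.ext
    exact c.fix_image ha (mem_centralizer_singleton_iff.1 g.2) h1)
  let g' : H := ⟨g, hg⟩
  set y : H := g' * u * g'⁻¹ with hy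
  have hyy : y * y = 1 := by
    rw [hy]
    calc g' * u * g'⁻¹ * (g' * u * g'⁻¹) = g' * (u * u) * g'⁻¹ := by group
      _ = 1 := by rw [huu]; group
  have huy : u * y ∈ pPrimeCore 2 H := by
    have h1 := hmain g'
    have h2 : u * g' * u⁻¹ * g'⁻¹ = u * y := by
      rw [hy, H5.Dihedral.inv_eq_self hu]; group
    rwa [h2] at h1
  have hodd : Odd (orderOf (u * y)) := Nat.coprime_two_right.1 (coprime_orderOf_of_mem_pPrimeCore huy)
  obtain ⟨m, hm⟩ := hodd
  set d : H := (u * y) ^ (m : ℤ) with hd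
  have hdO : d ∈ pPrimeCore 2 H := Subgroup.zpow_mem _ huy _
  have hdy : d * u * d⁻¹ = y := by
    rw [hd, H5.Dihedral.conj_x_zpow huu hyy]
    conv_rhs => rw [H5.Dihedral.y_eq huu hyy]
    congr 1
    have h3 : (u * y) ^ ((2 * m + 1 : ℕ) : ℤ) = 1 := by
      rw [zpow_natCast, ← hm, pow_orderOf_eq_one]
    have h4 : (2 * (m : ℤ)) = ((2 * m + 1 : ℕ) : ℤ) + (-1) := by push_cast; ring
    rw [h4, zpow_add, h3, one_mul]
  refine ⟨(d : G), ⟨d, hdO, rfl⟩, ((d⁻¹ * g' : H) : G), (d⁻¹ * g').2, ?_, ?_⟩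
  · rw [mem_centralizer_singleton_iff]
    have h5 : d⁻¹ * g' * u = u * (d⁻¹ * g') := by
      have h6 : g' * u * g'⁻¹ = d * u * d⁻¹ := by rw [hdy]
      calc d⁻¹ * g' * u = d⁻¹ * (g' * u * g'⁻¹) * g' := by group
        _ = d⁻¹ * (d * u * d⁻¹) * g' := by rw [h6]
        _ = u * (d⁻¹ * g') := by group
    exact congrArg Subtype.val h5
  · show g = (d : G) * ((d : G)⁻¹ * g)
    group

/-- The invariant part of the centralizer. -/
theorem inf_inv {a : G} (ha : a ∈ omc (S : Subgroup G)) :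
    ∀ x ∈ centralizer ({a} : Set G) ⊓ centralizer ({σ a} : Set G),
      σ x ∈ centralizer ({a} : Set G) ⊓ centralizer ({σ a} : Set G) := by
  intro x hx
  have h1 := mem_centralizer_singleton_iff.1 (mem_inf.1 hx).1
  have h2 := mem_centralizer_singleton_iff.1 (mem_inf.1 hx).2
  have hb := c.omc_inv a ha
  have hb' := c.omc_inv _ hb
  have hrel := c.norm_rel ha.1 (hb.2.1 a ha.1) (hb'.2.1 a ha.1)
  have e1 : σ x * σ a = σ a * σ x := by rw [← map_mul, h1, map_mul]
  have e2 : σ x * σ (σ a) = σ (σ a) * σ x := by rw [← map_mul, h2, map_mul]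
  rw [mem_inf, mem_centralizer_singleton_iff, mem_centralizer_singleton_iff]
  refine ⟨?_, ?_⟩
  · have e3 : a = (σ a * σ (σ a))⁻¹ := by
      rw [mul_assoc] at hrel
      exact eq_inv_of_mul_eq_one_left hrel
    have hcom : Commute (σ x) (σ a * σ (σ a)) := (show Commute (σ x) (σ a) from e1).mul_right e2
    have := hcom.inv_right
    rw [← e3] at this
    exact this
  · exact e1

theorem inf_ne {a : G} (ha1 : a ≠ 1) :
    centralizer ({a} : Set G) ⊓ centralizer ({σ a} : Set G) ≠ ⊤ := by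
  intro h
  apply ha1
  have h1 : a ∈ center G := by
    rw [mem_center_iff]
    intro g
    have : g ∈ centralizer ({a} : Set G) ⊓ centralizer ({σ a} : Set G) := by rw [h]; trivial
    exact mem_centralizer_singleton_iff.1 this.1
  rw [c.center_bot] at h1
  exact Subgroup.mem_bot.1 h1

/-- The centralizers of the involutions of `Ω₁(Z(S))` are solvable. -/
theorem cent_solvable {a : G} (ha : a ∈ omc (S : Subgroup G)) (ha1 : a ≠ 1) :
    Group.IsSolvable (centralizer ({a} : Set G)) := by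
  have : Fact (Nat.Prime 2) := ⟨Nat.prime_two⟩
  set H := centralizer ({a} : Set G) with hH
  set K := H ⊓ centralizer ({σ a} : Set G) with hK
  have hKs : Group.IsSolvable K := c.inv K (c.inf_inv ha) (c.inf_ne ha1)
  have hn : (pPrimeCore 2 H).Normal := H1.Cores.pPrimeCore_normal 2
  rw [Group.isSolvable_iff_subgroup_quotient (pPrimeCore 2 H)]
  constructor
  · apply c.FT
    exact Nat.coprime_two_right.1 (H1.Cores.coprime_card_pPrimeCore 2)
  · let f : K →* H ⧸ pPrimeCore 2 H := (QuotientGroup.mk' (pPrimeCore 2 H)).comp (Subgroup.inclusion inf_le_left)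
    refine Group.isSolvable_of_surjective (f := f) ?_
    intro q
    obtain ⟨g, rfl⟩ := QuotientGroup.mk'_surjective _ q
    obtain ⟨_, ⟨o, ho, rfl⟩, k, hk1, hk2, hgk⟩ := c.cent_decomp1 ha g.2
    refine ⟨⟨k, hk1, hk2⟩, ?_⟩
    show QuotientGroup.mk' (pPrimeCore 2 H) ⟨k, hk1⟩ = QuotientGroup.mk' (pPrimeCore 2 H) g
    have h1 : g = o * ⟨k, hk1⟩ := Subtype.ext hgk
    rw [h1, map_mul, show QuotientGroup.mk' (pPrimeCore 2 H) o = 1 from (QuotientGroup.eq_one_iff o).2 ho, one_mul]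

/-- `O(K) ≤ O(H)`. -/
theorem ppc_inf_le {a : G} (ha : a ∈ omc (S : Subgroup G)) :
    ppc 2 (centralizer ({a} : Set G) ⊓ centralizer ({σ a} : Set G)) ≤ ppc 2 (centralizer ({a} : Set G)) := by
  have : Fact (Nat.Prime 2) := ⟨Nat.prime_two⟩
  set H := centralizer ({a} : Set G) with hH
  set K := H ⊓ centralizer ({σ a} : Set G) with hK
  have hKH : K ≤ H := inf_le_left
  have h1 : ppc 2 K ≤ normalizer (ppc 2 H : Set G) := (ppc_le _ _).trans (hKH.trans (le_normalizer_ppc 2 H))
  have hle : ppc 2 K ⊔ ppc 2 H ≤ ppc 2 H := by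
    apply le_ppc
    · exact sup_le ((ppc_le _ _).trans hKH) (ppc_le _ _)
    · intro g hg
      obtain ⟨o, ho, k, hk1, hk2, rfl⟩ := c.cent_decomp1 ha hg
      apply mul_mem
      · exact le_normalizer ((le_sup_right : ppc 2 H ≤ ppc 2 K ⊔ ppc 2 H) ho)
      · have hk : k ∈ K := ⟨hk1, hk2⟩
        apply mem_norm_of_conj
        have hA : ∀ x ∈ ppc 2 K, k * x * k⁻¹ ∈ ppc 2 K := fun x hx =>
          (mem_normalizer_iff.1 (le_normalizer_ppc 2 K hk) x).1 hx
        have hB : ∀ x ∈ ppc 2 H, k * x * k⁻¹ ∈ ppc 2 H := fun x hx =>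
          (mem_normalizer_iff.1 (le_normalizer_ppc 2 H hk1) x).1 hx
        have h2 : ppc 2 K ⊔ ppc 2 H ≤ (ppc 2 K ⊔ ppc 2 H).comap (MulAut.conj k).toMonoidHom := by
          apply sup_le
          · intro x hx
            exact (le_sup_left : ppc 2 K ≤ ppc 2 K ⊔ ppc 2 H) (hA x hx)
          · intro x hx
            exact (le_sup_right : ppc 2 H ≤ ppc 2 K ⊔ ppc 2 H) (hB x hx)
        intro x hx
        exact h2 hx
    · have h3 : Nat.card (ppc 2 K ⊔ ppc 2 H : Subgroup G) ∣ Nat.card (ppc 2 K) * Nat.card (ppc 2 H) :=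
        H27.Sig.card_sup_dvd_mul h1
      exact Nat.Coprime.coprime_dvd_left h3 (Nat.Coprime.mul_left (card_ppc _ _) (card_ppc _ _))
  exact le_sup_left.trans hle

/-- The decomposition of the centralizers. -/
theorem cent_decomp {a : G} (ha : a ∈ omc (S : Subgroup G)) (ha1 : a ≠ 1) {g : G} (hg : g ∈ centralizer ({a} : Set G)) :
    ∃ o ∈ ppc 2 (centralizer ({a} : Set G)), ∃ n ∈ normalizer ((S : Subgroup G) : Set G), g = o * n := by
  obtain ⟨o, ho, k, hk1, hk2, rfl⟩ := c.cent_decomp1 ha hg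
  have hb := c.omc_inv a ha
  obtain ⟨o', ho', n, hn, -, rfl⟩ := (c.decomp (K := centralizer ({a} : Set G) ⊓ centralizer ({σ a} : Set G))
    (le_inf (le_cent ha) (le_cent hb)) (c.inf_inv ha) (c.inf_ne ha1)).1 k ⟨hk1, hk2⟩
  exact ⟨o * o', mul_mem ho (c.ppc_inf_le ha ho'), n, hn, by group⟩

end Ctx

end H56.SF
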