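import Mathlib
import Cfsg.Agent.Lib.H56.SF8
import Cfsg.Agent.Lib.H27.LayerFree

set_option autoImplicit false

/-! The minimal counterexample: the final contradiction. -/

namespace H56.SF

open Subgroup Cfsg H26.LocalFitting
open scoped commutatorElement

universe u

namespace Ctx

variable {G : Type u} [Group G] [Finite G] {σ : MulAut G} {S : Sylow 2 G} (c : Ctx σ S)
include c

theorem image_ne {a : G} (ha : a ∈ omc (S : Subgroup G)) (ha1 : a ≠ 1) : σ a ≠ a :=
  fun h => ha1 (c.h.hf a h ha.2.2)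

omit [Finite G] c in
theorem image_ne_one {a : G} (ha1 : a ≠ 1) : σ a ≠ 1 := by
  intro h
  apply ha1
  apply σ.injective
  rw [h, map_one]

theorem card_omc : 8 ≤ Nat.card (omc (S : Subgroup G)) := by
  have : Fact (Nat.Prime 2) := ⟨Nat.prime_two⟩
  by_contra hcon
  push Not at hcon
  obtain ⟨⟨a, haA⟩, ha1'⟩ := Subgroup.ne_bot_iff_exists_ne_one.1 c.omc_ne
  have ha1 : a ≠ 1 := fun h => ha1' (Subtype.ext h)
  have hpA : IsPGroup 2 (omc (S : Subgroup G)) := S.2.to_le (fun x hx => hx.1)
  obtain ⟨k, hk⟩ := IsPGroup.iff_card.1 hpA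
  have hk2 : k ≤ 2 := by
    by_contra h
    have : 2 ^ 3 ≤ 2 ^ k := Nat.pow_le_pow_right (by norm_num) (by omega)
    omega
  have hcard : Nat.card (omc (S : Subgroup G)) ≤ 4 := by
    rw [hk]
    calc 2 ^ k ≤ 2 ^ 2 := Nat.pow_le_pow_right (by norm_num) hk2
      _ = 4 := by norm_num
  have hb := c.omc_inv a haA
  have hb' := c.omc_inv _ hb
  have e1 : σ a ≠ a := c.image_ne haA ha1
  have e2 : σ a ≠ 1 := image_ne_one ha1
  have e3 : σ (σ a) ≠ 1 := image_ne_one e2
  have e4 : σ (σ a) ≠ σ a := fun h => e1 (σ.injective h)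
  have e5 : σ (σ a) ≠ a := by
    intro h
    have h1 := congrArg σ h
    rw [c.h.h3] at h1
    exact e1 h1.symm
  have hset : ({1, a, σ a, σ (σ a)} : Set G) = (omc (S : Subgroup G) : Set G) := by
    apply Set.eq_of_subset_of_ncard_le
    · rintro x (rfl | rfl | rfl | rfl)
      · exact one_mem _
      · exact haA
      · exact hb
      · exact hb'
    · have h1 : ({1, a, σ a, σ (σ a)} : Set G).ncard = 4 := by
        rw [Set.ncard_insert_of_notMem, Set.ncard_insert_of_notMem, Set.ncard_pair]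
        · exact e4.symm
        · simp only [Set.mem_insert_iff, Set.mem_singleton_iff, not_or]
          exact ⟨e1.symm, e5.symm⟩
        · simp only [Set.mem_insert_iff, Set.mem_singleton_iff, not_or]
          exact ⟨ha1.symm, e2.symm, e3.symm⟩
      rw [h1]
      exact hcard
    · exact Set.toFinite _
  have haa : a * a = 1 := haA.2.2
  have hmain := H5.ZStar.sylow_form S a (H5.Dihedral.orderOf_eq_two haa ha1) (by
    intro g hg
    have h1 : g * a * g⁻¹ ∈ ({1, a, σ a, σ (σ a)} : Set G) := by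
      rw [hset]
      exact c.omc_scl a haA g hg
    rcases h1 with h1 | h1 | h1 | h1
    · exfalso
      apply ha1
      have : a = g⁻¹ * (g * a * g⁻¹) * g := by group
      rw [this, h1]; group
    · exact h1
    · exact absurd h1 (c.h.not_conj haa ha1 g)
    · exfalso
      have h2 : g * a * g⁻¹ = σ (σ a) := h1
      have h3 := congrArg σ h2
      rw [c.h.h3, map_mul, map_mul, map_inv] at h3
      refine c.h.not_conj haa ha1 (σ g)⁻¹ ?_
      rw [inv_inv]
      calc (σ g)⁻¹ * a * σ g = (σ g)⁻¹ * (σ g * σ a * (σ g)⁻¹) * σ g := by rw [h3]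
        _ = σ a := by group)
  apply ha1
  have h1 : a ∈ center G := by
    rw [mem_center_iff]
    intro g
    have h2 := hmain g
    rw [c.core_bot, Subgroup.mem_bot] at h2
    have h3 : a * g * a⁻¹ = g := mul_inv_eq_one.1 h2
    calc g * a = (a * g * a⁻¹) * a := by rw [h3]
      _ = a * g := by group
  rw [c.center_bot] at h1
  exact Subgroup.mem_bot.1 h1

/-- The final contradiction. -/
theorem false : False := by
  have : Fact (Nat.Prime 2) := ⟨Nat.prime_two⟩
  set A := omc (S : Subgroup G) with hA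
  have hAS : A ≤ (S : Subgroup G) := fun x hx => hx.1
  have hcomm : ∀ a ∈ A, ∀ b ∈ A, a * b = b * a := fun a ha b hb => hb.2.1 a ha.1
  have hexp : ∀ a ∈ A, a ^ 2 = 1 := fun a ha => by rw [pow_two]; exact ha.2.2
  have h8 : 8 ≤ Nat.card A := c.card_omc
  obtain ⟨⟨t1, t2, t3, t4⟩, t5⟩ := Cfsg.Agent.S1279.result 2 A (H27.ElAb.of_comm hcomm hexp)
    (le_trans (by norm_num) h8) (fun a ha ha1 => c.cent_solvable ha ha1)
  obtain ⟨w1, w2⟩ := Cfsg.Agent.S0217.result A hcomm hexp (le_trans (by norm_num) h8)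
    (fun a => centralizerPPrimeCore 2 a) t1 t2 t3 t5 t4
  set W := (⨆ a : {a : G // a ∈ A ∧ a ≠ 1}, (centralizerPPrimeCore 2 (a : G) : Subgroup G)) with hW
  have hNW : normalizer (A : Set G) ≤ normalizer (W : Set G) := by
    intro n hn
    apply mem_norm_of_conj
    intro x hx
    have h1 : W ≤ W.comap (MulAut.conj n).toMonoidHom := by
      rw [hW]
      apply iSup_le
      rintro ⟨a, ha, ha1⟩ y hy
      have h2 : n * a * n⁻¹ ∈ A := (mem_normalizer_iff.1 hn a).1 ha
      have h3 : n * a * n⁻¹ ≠ 1 := by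
        intro h
        apply ha1
        have : a = n⁻¹ * (n * a * n⁻¹) * n := by group
        rw [this, h]; group
      have h4 : n * y * n⁻¹ ∈ centralizerPPrimeCore 2 (n * a * n⁻¹) := by
        rw [H27.LayerFree.core_equiv]
        exact ⟨y, hy, rfl⟩
      exact le_iSup (fun a : {a : G // a ∈ A ∧ a ≠ 1} => (centralizerPPrimeCore 2 (a : G) : Subgroup G)) ⟨_, h2, h3⟩ h4
    exact h1 hx
  set M := normalizer (A : Set G) ⊔ W with hM
  have hWM : W ≤ M := le_sup_right
  have hNM : normalizer (A : Set G) ≤ M := le_sup_left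
  have hAne : A ≠ ⊥ := c.omc_ne
  have hMne : M ≠ ⊤ := by
    intro h
    have h1 : M ≤ normalizer (W : Set G) := sup_le hNW le_normalizer
    have h2 : normalizer (W : Set G) = ⊤ := by
      rw [eq_top_iff, ← h]; exact h1
    have h3 : W.Normal := Subgroup.normalizer_eq_top_iff.1 h2
    have h4 : W ≤ pPrimeCore 2 G := H1.Cores.le_pPrimeCore h3
      ((Nat.Prime.coprime_iff_not_dvd Nat.prime_two).2 w1).symm
    rw [c.core_bot, le_bot_iff] at h4
    rw [hM, h4, sup_bot_eq] at h
    exact c.normalizer_ne (S.2.to_le hAS) c.omc_inv hAne h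
  have hSN : normalizer ((S : Subgroup G) : Set G) ≤ normalizer (A : Set G) := by
    intro n hn
    apply mem_norm_of_conj
    intro a ha
    exact c.omc_scl a ha n ((mem_normalizer_iff.1 hn a).1 (hAS ha))
  have hSC : SC (S : Subgroup G) A M := by
    refine ⟨H28.RelSyl.isSyl_top S, hAS, fun a ha s hs => ha.2.1 s hs, fun a ha => ha.2.2, ?_, ?_, ?_⟩
    · exact c.omc_scl
    · intro g hg
      exact hNM (mem_norm_of_conj hg)
    · intro a ha ha1 g hg
      obtain ⟨o, ho, n, hn, rfl⟩ := c.cent_decomp ha ha1 (mem_centralizer_singleton_iff.2 hg)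
      refine mul_mem (hWM ?_) (hNM (hSN hn))
      exact le_iSup (fun a : {a : G // a ∈ A ∧ a ≠ 1} => (centralizerPPrimeCore 2 (a : G) : Subgroup G)) ⟨a, ha, ha1⟩ ho
  obtain ⟨⟨a, haA⟩, ha1'⟩ := Subgroup.ne_bot_iff_exists_ne_one.1 hAne
  have ha1 : a ≠ 1 := fun h => ha1' (Subtype.ext h)
  obtain ⟨g, hg⟩ := allConj (Nat.card G) G le_rfl (S : Subgroup G) A M hSC hMne a haA (σ a) (c.omc_inv a haA) ha1
    (image_ne_one ha1)
  exact c.h.not_conj haA.2.2 ha1 g hg

end Ctx

/-- Solvability. -/
theorem solvable (FT : ∀ (H : Type u) [Group H] [Finite H], Odd (Nat.card H) → Group.IsSolvable H) (n : ℕ) :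
    ∀ (G : Type u) [Group G] [Finite G], Nat.card G ≤ n → ∀ σ : MulAut G, Cl σ → Group.IsSolvable G := by
  have : Fact (Nat.Prime 2) := ⟨Nat.prime_two⟩
  induction n with
  | zero =>
    intro G _ _ hn
    exact absurd (Nat.le_zero.1 hn) (Nat.card_pos (α := G)).ne'
  | succ n ih =>
    intro G _ _ hn σ h
    by_contra hns
    obtain ⟨S, hS⟩ := h.exists_sylow 2
    have hlt : ∀ K : Subgroup G, K ≠ ⊤ → Nat.card K ≤ n := by
      intro K hK
      have h1 : Nat.card K < Nat.card G := by
        refine lt_of_le_of_ne (Subgroup.card_le_card_group K) ?_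
        intro h2
        exact hK (Subgroup.eq_top_of_card_eq K h2)
      omega
    have hinv : ∀ K : Subgroup G, (∀ x ∈ K, σ x ∈ K) → K ≠ ⊤ → Group.IsSolvable K := by
      intro K hK hK1
      obtain ⟨τ, -, hτ⟩ := h.res K hK
      exact ih K (hlt K hK1) τ hτ
    have hc : Ctx σ S := by
      refine ⟨h, FT, hinv, ?_, hns, hS⟩
      intro N hN hNσ
      by_contra hcon
      push Not at hcon
      apply hns
      rw [Group.isSolvable_iff_subgroup_quotient N]
      refine ⟨hinv N hNσ hcon.2, ?_⟩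
      obtain ⟨τ, -, hτ⟩ := h.quot N hNσ
      refine ih (G ⧸ N) ?_ τ hτ
      have h1 := Subgroup.card_mul_index N
      have h2 : 1 < Nat.card N := by
        rw [← Nat.not_le]
        intro h3
        exact hcon.1 (Subgroup.eq_bot_of_card_le N h3)
      have h3 : 0 < N.index := Nat.pos_of_ne_zero Subgroup.index_ne_zero_of_finite
      have h4 : Nat.card (G ⧸ N) = N.index := rfl
      rw [h4]
      have h5 : N.index * 2 ≤ Nat.card G := by
        rw [← h1, mul_comm]
        exact Nat.mul_le_mul_right _ h2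
      omega
    exact hc.false

end H56.SF
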