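import Mathlib
import Cfsg.Agent.Lib.H56.SF9

set_option autoImplicit false

/-! Fixed-point-free symmetric groups of automorphisms. -/

namespace H56.SF

open Subgroup Cfsg

universe u

set_option maxRecDepth 100000 in
set_option synthInstance.maxHeartbeats 400000 in
set_option synthInstance.maxSize 4000 in
theorem perm3 : ∀ s : Equiv.Perm (Fin 3), s * s * s = 1 → s ≠ 1 →
    ∃ t : Equiv.Perm (Fin 3), t * t = 1 ∧ s * t = t * s⁻¹ ∧
      ∀ u : Equiv.Perm (Fin 3), u = 1 ∨ u = s ∨ u = s⁻¹ ∨ u = t ∨ u = t * s ∨ u = t * s⁻¹ := by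
  decide

theorem perm3' : ∃ s : Equiv.Perm (Fin 3), s * s * s = 1 ∧ s ≠ 1 := by
  decide

theorem cl_of_sig {G : Type u} [Group G] [Finite G] (h3 : ¬ 3 ∣ Nat.card G) (Sig : Subgroup (MulAut G))
    (e : ↥Sig ≃* Equiv.Perm (Fin 3)) (hfpf : ∀ g : G, (∀ σ ∈ Sig, σ g = g) → g = 1)
    (σ : MulAut G) (hσ : σ ∈ Sig) (ho : orderOf σ = 3) : Cl σ := by
  classical
  have hs3 : σ ^ 3 = 1 := by rw [← ho, pow_orderOf_eq_one]
  have hσ3 : σ * σ * σ = 1 := by rw [← hs3]; rw [pow_succ, pow_two]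
  set s : Equiv.Perm (Fin 3) := e ⟨σ, hσ⟩ with hs
  obtain ⟨t, ht, hst, hall⟩ := perm3 s (by
    rw [hs, ← map_mul, ← map_mul]
    have : (⟨σ, hσ⟩ * ⟨σ, hσ⟩ * ⟨σ, hσ⟩ : Sig) = 1 := Subtype.ext hσ3
    rw [this, map_one]) (by
    intro h
    have h1 : (⟨σ, hσ⟩ : Sig) = 1 := by
      apply e.injective
      rw [map_one]; exact h
    have h2 : σ = 1 := congrArg Subtype.val h1
    rw [h2, orderOf_one] at ho
    omega)
  set τ : Sig := e.symm t with hτ
  have heτ : e τ = t := e.apply_symm_apply t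
  have hττ : τ * τ = 1 := by
    apply e.injective
    rw [map_mul, heτ, ht, map_one]
  have hστ : (⟨σ, hσ⟩ : Sig) * τ = τ * (⟨σ, hσ⟩ : Sig)⁻¹ := by
    apply e.injective
    rw [map_mul, map_mul, map_inv, heτ]
    exact hst
  have hττ' : (τ : MulAut G) * (τ : MulAut G) = 1 := congrArg Subtype.val hττ
  have hστ' : σ * (τ : MulAut G) = (τ : MulAut G) * σ⁻¹ := congrArg Subtype.val hστ
  have hinv : ∀ g : G, σ g = g → σ⁻¹ g = g := by
    intro g hg
    have : σ⁻¹ (σ g) = g := by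
      rw [← MulAut.mul_apply, inv_mul_cancel]; rfl
    rwa [hg] at this
  have hfix : ∀ g : G, σ g = g → (τ : MulAut G) g = g → g = 1 := by
    intro g h1 h2
    apply hfpf
    intro u hu
    have key : ∀ v : Sig, e v = e ⟨u, hu⟩ → v.1 g = g → u g = g := by
      intro v hv hvg
      have h4 := e.injective hv
      have h5 : v.1 = u := congrArg Subtype.val h4
      rw [← h5]; exact hvg
    rcases hall (e ⟨u, hu⟩) with h | h | h | h | h | h
    · exact key 1 (by rw [h, map_one]) rfl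
    · exact key ⟨σ, hσ⟩ h.symm h1
    · exact key ⟨σ, hσ⟩⁻¹ (by rw [map_inv]; exact h.symm) (hinv g h1)
    · exact key τ (by rw [heτ]; exact h.symm) h2
    · refine key (τ * ⟨σ, hσ⟩) (by rw [map_mul, heτ]; exact h.symm) ?_
      show (τ : MulAut G) (σ g) = g
      rw [h1, h2]
    · refine key (τ * ⟨σ, hσ⟩⁻¹) (by rw [map_mul, map_inv, heτ]; exact h.symm) ?_
      show (τ : MulAut G) (σ⁻¹ g) = g
      rw [hinv g h1, h2]
  -- the fixed points
  let C : Subgroup G :=
    { carrier := {g | σ g = g}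
      one_mem' := map_one σ
      mul_mem' := by
        intro a b ha hb
        show σ (a * b) = a * b
        rw [map_mul, ha, hb]
      inv_mem' := by
        intro a ha
        show σ a⁻¹ = a⁻¹
        rw [map_inv, ha] }
  have hτC : ∀ g ∈ C, (τ : MulAut G) g ∈ C := by
    intro g hg
    show σ ((τ : MulAut G) g) = (τ : MulAut G) g
    rw [← MulAut.mul_apply, hστ', MulAut.mul_apply, hinv g hg]
  have hodd : Odd (Nat.card C) := by
    have := Fintype.ofFinite C
    have hf2 : Fact (Nat.Prime 2) := ⟨Nat.prime_two⟩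
    let F : Function.End C := fun g => ⟨(τ : MulAut G) g, hτC g g.2⟩
    have hF : F ^ 2 ^ 1 = 1 := by
      funext x
      apply Subtype.ext
      show (τ : MulAut G) ((τ : MulAut G) x) = x
      rw [← MulAut.mul_apply, hττ']; rfl
    have h1 := Equiv.Perm.card_fixedPoints_modEq (p := 2) (n := 1) hF
    have h2 : Fintype.card (F.fixedPoints) = 1 := by
      rw [Fintype.card_eq_one_iff]
      refine ⟨⟨1, ?_⟩, ?_⟩
      · apply Subtype.ext
        show (τ : MulAut G) 1 = 1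
        rw [map_one]
      · rintro ⟨y, hy⟩
        apply Subtype.ext
        apply Subtype.ext
        exact hfix y y.2 (congrArg Subtype.val hy)
    rw [h2] at h1
    rw [Nat.card_eq_fintype_card, Nat.odd_iff]
    exact h1
  refine ⟨?_, h3, ?_⟩
  · intro g
    have := congrArg (fun f : MulAut G => f g) hσ3
    exact this
  · intro g hg hgg
    have h1 : orderOf (⟨g, hg⟩ : C) ∣ 2 := orderOf_dvd_of_pow_eq_one (Subtype.ext (by
      show g ^ 2 = 1
      rw [pow_two, hgg]))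
    have h2 : orderOf (⟨g, hg⟩ : C) ∣ Nat.card C := orderOf_dvd_natCard _
    have h3 : orderOf (⟨g, hg⟩ : C) = 1 :=
      Nat.Coprime.eq_one_of_dvd (Nat.Coprime.coprime_dvd_left h2 (Nat.coprime_two_right.2 hodd)) h1
    exact congrArg Subtype.val (orderOf_eq_one_iff.1 h3)

theorem exists_sig {G : Type u} [Group G] (Sig : Subgroup (MulAut G))
    (e : ↥Sig ≃* Equiv.Perm (Fin 3)) : ∃ σ ∈ Sig, orderOf σ = 3 := by
  obtain ⟨s, hs, hs1⟩ := perm3'
  have hf3 : Fact (Nat.Prime 3) := ⟨Nat.prime_three⟩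
  refine ⟨(e.symm s : MulAut G), (e.symm s).2, ?_⟩
  have h1 : orderOf s = 3 := orderOf_eq_prime (by rw [pow_succ, pow_two, hs]) hs1
  rw [Subgroup.orderOf_coe]
  have := MulEquiv.orderOf_eq e (e.symm s)
  rw [e.apply_symm_apply, h1] at this
  exact this.symm

/-- The main theorem, with the odd order theorem as hypothesis. -/
theorem main {G : Type u} [Group G] [Finite G]
    (FT : ∀ (H : Type u) [Group H] [Finite H], Odd (Nat.card H) → Group.IsSolvable H)
    (h3 : ¬ 3 ∣ Nat.card G)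
    (Sig : Subgroup (MulAut G)) (hS3 : Nonempty (↥Sig ≃* Equiv.Perm (Fin 3))) (hfpf : ∀ g : G, (∀ σ ∈ Sig, σ g = g) → g = 1) :
    Group.IsSolvable G ∧ ¬ 2 ∣ (Cfsg.pPrimePCore 2 G).index ∧ ∀ σ ∈ Sig, orderOf σ = 3 →
      Cfsg.pPrimePCore 2 G ⊔ Subgroup.closure {g : G | σ g = g} = ⊤ := by
  obtain ⟨e⟩ := hS3
  obtain ⟨σ₀, hσ₀, ho₀⟩ := exists_sig Sig e
  have hcl₀ := cl_of_sig h3 Sig e hfpf σ₀ hσ₀ ho₀
  have hs := solvable FT (Nat.card G) G le_rfl σ₀ hcl₀
  refine ⟨hs, hcl₀.index_pPrimePCore hs, ?_⟩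
  intro σ hσ ho
  have hcl := cl_of_sig h3 Sig e hfpf σ hσ ho
  rw [eq_top_iff]
  intro g _
  obtain ⟨w, hw, hgw⟩ := hcl.exists_fix_pPrimePCore hs g
  have h1 : g * w ∈ Subgroup.closure {g : G | σ g = g} := Subgroup.subset_closure hgw
  have h2 : g = (g * w) * w⁻¹ := by group
  rw [h2]
  exact mul_mem ((le_sup_right : _ ≤ Cfsg.pPrimePCore 2 G ⊔ Subgroup.closure {g : G | σ g = g}) h1)
    (inv_mem ((le_sup_left : _ ≤ Cfsg.pPrimePCore 2 G ⊔ Subgroup.closure {g : G | σ g = g}) hw))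

end H56.SF
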