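import Mathlib
import Cfsg.Agent.Lib.H56.ZJD
import Cfsg.Agent.Lib.H38.Section
import Cfsg.Agent.Lib.H29.PGrp

/-! The conjugacy functor attached to a strongly closed subgroup -/

set_option autoImplicit false

namespace H56.ZJDFun

open Cfsg H38.Basic H38.Alperin H38.Functor H38.Control H14.ZJ H14.MaxIn

variable {G : Type*} [Group G] {p : ℕ}

/-- the part of `Q` conjugate into `D` -/
def QD (D Q : Subgroup G) : Subgroup G := Subgroup.closure {x | x ∈ Q ∧ ∃ g : G, g * x * g⁻¹ ∈ D}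

theorem QD_le (D Q : Subgroup G) : QD D Q ≤ Q := (Subgroup.closure_le _).2 fun _ hx => hx.1

theorem QD_conj (D Q : Subgroup G) (g : G) :
    QD D (Q.map (MulAut.conj g).toMonoidHom) = (QD D Q).map (MulAut.conj g).toMonoidHom := by
  rw [QD, QD, MonoidHom.map_closure]
  congr 1
  ext x
  constructor
  · rintro ⟨hx, h, hh⟩
    obtain ⟨y, hy, rfl⟩ := hx
    refine ⟨y, ⟨hy, h * g, ?_⟩, rfl⟩
    have e : h * g * y * (h * g)⁻¹ = h * ((MulAut.conj g).toMonoidHom y) * h⁻¹ := by
      simp only [MulEquiv.toMonoidHom_eq_coe, MonoidHom.coe_coe, MulAut.conj_apply]; group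
    rw [e]; exact hh
  · rintro ⟨y, ⟨hy, h, hh⟩, rfl⟩
    refine ⟨⟨y, hy, rfl⟩, h * g⁻¹, ?_⟩
    have e : h * g⁻¹ * ((MulAut.conj g).toMonoidHom y) * (h * g⁻¹)⁻¹ = h * y * h⁻¹ := by
      simp only [MulEquiv.toMonoidHom_eq_coe, MonoidHom.coe_coe, MulAut.conj_apply]; group
    rw [e]; exact hh

theorem QD_eq {D S Q : Subgroup G} (hD : IsStronglyClosed D S) (hQ : Q ≤ S) : QD D Q = D ⊓ Q := by
  apply le_antisymm
  · rw [QD, Subgroup.closure_le]
    rintro x ⟨hx, g, hg⟩
    refine Subgroup.mem_inf.2 ⟨?_, hx⟩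
    have h1 := hD.2 _ hg g⁻¹ (by
      have e : g⁻¹ * (g * x * g⁻¹) * g⁻¹⁻¹ = x := by group
      rw [e]; exact hQ hx)
    have e : g⁻¹ * (g * x * g⁻¹) * g⁻¹⁻¹ = x := by group
    rwa [e] at h1
  · intro x hx
    exact Subgroup.subset_closure ⟨(Subgroup.mem_inf.1 hx).2, 1, by simpa using (Subgroup.mem_inf.1 hx).1⟩

open Classical in
/-- the functor -/
noncomputable def WD (e : Bool) (p : ℕ) (D Q : Subgroup G) : Subgroup G :=
  if QD D Q = ⊥ then Q else WW e p (QD D Q)

theorem WD_isConjugacyFunctor [Finite G] [Fact p.Prime] (e : Bool) (D : Subgroup G) : IsConjugacyFunctor p (WD e p D) := by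
  intro P hP
  refine ⟨?_, ?_, ?_⟩
  · unfold WD
    split_ifs
    · exact le_rfl
    · exact (WW_le e p _).trans (QD_le D P)
  · intro h
    unfold WD
    split_ifs with h1
    · exact h
    · exact H14.ZJ4.WW_ne_bot e (hP.to_le (QD_le D P)) h1
  · intro g
    have h2 : QD D (P.map (MulAut.conj g).toMonoidHom) = ⊥ ↔ QD D P = ⊥ := by
      rw [QD_conj, Subgroup.map_eq_bot_iff_of_injective _ (MulAut.conj g).injective]
    unfold WD
    by_cases h1 : QD D P = ⊥
    · rw [if_pos h1, if_pos (h2.2 h1)]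
    · rw [if_neg h1, if_neg (fun h => h1 (h2.1 h)), QD_conj, WW_map e p (MulAut.conj g).injective]

theorem WD_eq {D S Q : Subgroup G} (e : Bool) (hD : IsStronglyClosed D S) (hQ : Q ≤ S) (hne : D ⊓ Q ≠ ⊥) :
    WD e p D Q = WW e p (D ⊓ Q) := by
  unfold WD
  rw [QD_eq hD hQ, if_neg hne]

theorem exists_central [Finite G] [Fact p.Prime] {S D : Subgroup G} (hS : IsPGroup p S) (hDS : D ≤ S)
    (hDn : S ≤ Subgroup.normalizer (D : Set G)) (hne : D ≠ ⊥) :
    ∃ z ∈ D, z ≠ 1 ∧ ∀ s ∈ S, s * z = z * s := by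
  obtain ⟨z, hz⟩ := Subgroup.ne_bot_iff_exists_ne_one.1 (H29.PGrp.inf_center_ne_bot hS hDS hDn hne)
  obtain ⟨hz2, hz3⟩ := Subgroup.mem_inf.1 z.2
  exact ⟨z, hz2, fun h => hz (Subtype.ext h), fun s hs => Subgroup.mem_centralizer_iff.1 hz3 s hs⟩

theorem scl_subgroupOf {D S : Subgroup G} (hD : IsStronglyClosed D S) (H : Subgroup G) :
    IsStronglyClosed ((D ⊓ H).subgroupOf H) ((S ⊓ H).subgroupOf H) := by
  constructor
  · intro x hx
    exact ⟨hD.1 hx.1, hx.2⟩
  · intro x hx g hg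
    exact ⟨hD.2 _ hx.1 g hg.1, (g * x * g⁻¹).2⟩

theorem scl_of_le {D S : Subgroup G} (hD : IsStronglyClosed D S) (H : Subgroup G) :
    IsStronglyClosed (D.subgroupOf H) (S.subgroupOf H) := by
  constructor
  · intro x hx
    exact hD.1 hx
  · intro x hx g hg
    exact hD.2 _ hx g hg

theorem scl_map [Finite G] [Fact p.Prime] (S : Sylow p G) {D : Subgroup G} (hD : IsStronglyClosed D (S : Subgroup G)) (N : Subgroup G)
    [N.Normal] : IsStronglyClosed (D.map (QuotientGroup.mk' N)) ((S : Subgroup G).map (QuotientGroup.mk' N)) := by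
  refine ⟨Subgroup.map_mono hD.1, ?_⟩
  rintro _ ⟨x, hx, rfl⟩ g hg
  obtain ⟨g, rfl⟩ := QuotientGroup.mk'_surjective N g
  rw [← map_inv, ← map_mul, ← map_mul] at hg ⊢
  -- `g x g⁻¹ ∈ S N`
  have h1 : g * x * g⁻¹ ∈ (S : Subgroup G) ⊔ N := by
    have : g * x * g⁻¹ ∈ ((S : Subgroup G).map (QuotientGroup.mk' N)).comap (QuotientGroup.mk' N) := hg
    rwa [Subgroup.comap_map_eq, QuotientGroup.ker_mk'] at this
  have h2 : IsPGroup p (Subgroup.zpowers (g * x * g⁻¹)) := by
    have h3 : Subgroup.zpowers (g * x * g⁻¹) ≤ (S : Subgroup G).map (MulAut.conj g).toMonoidHom := by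
      rw [Subgroup.zpowers_le]
      exact ⟨x, hD.1 hx, rfl⟩
    exact (isPGroup_conj S.2 g).to_le h3
  obtain ⟨y, hy, hyS⟩ := ((isSyl_sylow S).of_le (le_sup_left : (S : Subgroup G) ≤ (S : Subgroup G) ⊔ N) le_top).exists_conj_le
    h2 (by rw [Subgroup.zpowers_le]; exact h1)
  obtain ⟨s, hs, n, hn, rfl⟩ := Subgroup.mem_sup_of_normal_right.1 hy
  have h4 : s * n * (g * x * g⁻¹) * (s * n)⁻¹ ∈ (S : Subgroup G) := hyS ⟨_, Subgroup.mem_zpowers _, rfl⟩
  have h5 : n * g * x * (n * g)⁻¹ ∈ (S : Subgroup G) := by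
    have e : n * g * x * (n * g)⁻¹ = s⁻¹ * (s * n * (g * x * g⁻¹) * (s * n)⁻¹) * s := by group
    rw [e]
    exact mul_mem (mul_mem (inv_mem hs) h4) hs
  refine ⟨_, hD.2 x hx (n * g) h5, ?_⟩
  have h6 : QuotientGroup.mk' N n = 1 := (QuotientGroup.eq_one_iff n).2 hn
  simp only [map_mul, map_inv, h6, one_mul]

/-- lifting control of fusion through `p'`-quotients -/
theorem strongIn_of_quotient [Finite G] [Fact p.Prime] (S : Sylow p G) {Y : Subgroup G} (hSY : (S : Subgroup G) ≤ Y) (R : Subgroup G)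
    [R.Normal] (hR : (Nat.card R).Coprime p)
    (h : StrongIn (Y.map (QuotientGroup.mk' R)) ((S : Subgroup G).map (QuotientGroup.mk' R)) ⊤) :
    StrongIn Y (S : Subgroup G) ⊤ := by
  set f := QuotientGroup.mk' R with hf
  intro A g _ hA hgA
  obtain ⟨x, ⟨n, hn, rfl⟩, hx⟩ := h (f '' A) (f g) trivial (by rw [Subgroup.coe_map]; exact Set.image_mono hA) (by
    rw [Subgroup.coe_map]
    rintro _ ⟨_, ⟨a, ha, rfl⟩, rfl⟩
    exact ⟨_, hgA (mem_cj ha), by simp⟩)
  have hdisj : (S : Subgroup G) ⊓ R = ⊥ := H1.Cores.disjoint_of_isPGroup S.2 hR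
  have hinj : ∀ a ∈ (S : Subgroup G), ∀ b ∈ (S : Subgroup G), f a = f b → a = b := by
    intro a ha b hb hab
    have h1 : a⁻¹ * b ∈ R := (QuotientGroup.eq).1 hab
    have h2 : a⁻¹ * b ∈ (S : Subgroup G) ⊓ R := Subgroup.mem_inf.2 ⟨mul_mem (inv_mem ha) hb, h1⟩
    rw [hdisj] at h2
    exact inv_mul_eq_one.1 h2
  -- `n a n⁻¹ = (g a g⁻¹) r`
  set L := (S : Subgroup G) ⊔ (R ⊓ Y) with hL
  have hLY : L ≤ Y := sup_le hSY inf_le_right
  have hnA : (Subgroup.closure A).map (MulAut.conj n).toMonoidHom ≤ L := by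
    apply closure_conj_le
    intro a ha
    have h1 : f (n * a * n⁻¹) = f (g * a * g⁻¹) := by
      have := hx (f a) ⟨a, ha, rfl⟩
      simpa only [map_mul, map_inv] using this
    have h2 : (g * a * g⁻¹)⁻¹ * (n * a * n⁻¹) ∈ R := QuotientGroup.eq.1 h1.symm
    have h3 : g * a * g⁻¹ ∈ (S : Subgroup G) := hgA (mem_cj ha)
    have h4 : (g * a * g⁻¹)⁻¹ * (n * a * n⁻¹) ∈ Y :=
      mul_mem (inv_mem (hSY h3)) (mul_mem (mul_mem hn (hSY (hA ha))) (inv_mem hn))
    have h5 : n * a * n⁻¹ = (g * a * g⁻¹) * ((g * a * g⁻¹)⁻¹ * (n * a * n⁻¹)) := by group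
    rw [h5]
    exact mul_mem (Subgroup.mem_sup_left h3) (Subgroup.mem_sup_right (Subgroup.mem_inf.2 ⟨h2, h4⟩))
  have hAp : IsPGroup p (Subgroup.closure A) := S.2.to_le ((Subgroup.closure_le _).2 hA)
  obtain ⟨y, hy, hyA⟩ := ((isSyl_sylow S).of_le (le_sup_left : (S : Subgroup G) ≤ L) le_top).exists_conj_le
    (isPGroup_conj hAp n) hnA
  have hRY : (S : Subgroup G) ≤ Subgroup.normalizer ((R ⊓ Y : Subgroup G) : Set G) := by
    intro s hs
    rw [Subgroup.mem_normalizer_iff]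
    intro z
    rw [Subgroup.mem_inf, Subgroup.mem_inf]
    constructor
    · rintro ⟨h1, h2⟩
      exact ⟨(inferInstance : R.Normal).conj_mem z h1 s, mul_mem (mul_mem (hSY hs) h2) (inv_mem (hSY hs))⟩
    · rintro ⟨h1, h2⟩
      have e : z = s⁻¹ * (s * z * s⁻¹) * s⁻¹⁻¹ := by group
      rw [e]
      exact ⟨(inferInstance : R.Normal).conj_mem _ h1 s⁻¹, mul_mem (mul_mem (inv_mem (hSY hs)) h2) (inv_mem (inv_mem (hSY hs)))⟩
  obtain ⟨s, hs, r, hr, rfl⟩ : ∃ s ∈ (S : Subgroup G), ∃ r ∈ R ⊓ Y, s * r = y := H39.SFMin.mem_sup_of_norm hRY hy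
  have hrA : (Subgroup.closure A).map (MulAut.conj (r * n)).toMonoidHom ≤ (S : Subgroup G) := by
    rw [← conj_conj, conj_le_iff, conj_eq_of_mem (inv_mem hs), conj_conj] at hyA
    exact hyA
  refine ⟨r * n, mul_mem (Subgroup.mem_inf.1 hr).2 hn, fun a ha => ?_⟩
  apply hinj _ (hrA (conj_mem_conj.2 (Subgroup.subset_closure ha))) _ (hgA (mem_cj ha))
  have h6 : f r = 1 := (QuotientGroup.eq_one_iff r).2 (Subgroup.mem_inf.1 hr).1
  have := hx (f a) ⟨a, ha, rfl⟩
  simp only [map_mul, map_inv, h6, one_mul] at this ⊢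
  rw [← this]

theorem WW_map_quotient [Finite G] [Fact p.Prime] (e : Bool) {D : Subgroup G} (hDp : IsPGroup p D) {K : Subgroup G} [K.Normal]
    (hKc : (Nat.card K).Coprime p) :
    WW e p (D.map (QuotientGroup.mk' K)) = (WW e p D).map (QuotientGroup.mk' K) := by
  have hDK : D ⊓ K = ⊥ := H1.Cores.disjoint_of_isPGroup hDp hKc
  set f : D →* G ⧸ K := (QuotientGroup.mk' K).comp D.subtype with hf
  have hinj : Function.Injective f := by
    rw [injective_iff_map_eq_one]
    intro x hx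
    have h1 : (x : G) ∈ D ⊓ K := Subgroup.mem_inf.mpr ⟨x.2, (QuotientGroup.eq_one_iff _).mp hx⟩
    rw [hDK, Subgroup.mem_bot] at h1
    exact Subtype.ext h1
  have h1 : D.map (QuotientGroup.mk' K) = (⊤ : Subgroup D).map f := by
    rw [hf, ← Subgroup.map_map, ← MonoidHom.range_eq_map, Subgroup.range_subtype]
  have h2 : (⊤ : Subgroup D).map D.subtype = D := by
    rw [← MonoidHom.range_eq_map, Subgroup.range_subtype]
  have h3 := WW_map e p D.subtype_injective (⊤ : Subgroup D)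
  rw [h2] at h3
  rw [h1, WW_map e p hinj, hf, ← Subgroup.map_map, ← h3]

theorem normalizer_map_mk'_of [Finite G] [Fact p.Prime] {W : Subgroup G} (hW : IsPGroup p W) {K : Subgroup G} [K.Normal]
    (hKc : (Nat.card K).Coprime p) :
    Subgroup.normalizer ((W.map (QuotientGroup.mk' K) : Subgroup (G ⧸ K)) : Set (G ⧸ K)) =
      (Subgroup.normalizer (W : Set G)).map (QuotientGroup.mk' K) := by
  exact H66.CoprimeConj.normalizer_map_mk' K hKc W hW

/-- normalizer `p`-stability passes to subgroups -/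
theorem nps_subgroup [Finite G] [Fact p.Prime] (h : IsNormalizerPStable p G) (H : Subgroup G) : IsNormalizerPStable p ↥H := by
  rw [H39.PStab.pstab_iff] at h ⊢
  intro P hP g hg hq
  have hN : ∀ x : ↥H, x ∈ Subgroup.normalizer (P : Set ↥H) ↔ (x : G) ∈ Subgroup.normalizer ((P.map H.subtype : Subgroup G) : Set G) := by
    intro x
    have h1 := H38.Witness.map_normalizer P
    constructor
    · intro hx
      have : (x : G) ∈ (Subgroup.normalizer (P : Set ↥H)).map H.subtype := ⟨x, hx, rfl⟩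
      rw [h1] at this
      exact this.2
    · intro hx
      have : (x : G) ∈ (Subgroup.normalizer (P : Set ↥H)).map H.subtype := by rw [h1]; exact ⟨x.2, hx⟩
      obtain ⟨y, hy, hyx⟩ := this
      rwa [← Subtype.ext hyx]
  obtain ⟨K, hK1, hK2, hK3, hK4⟩ := h (P.map H.subtype) (hP.map _) g ((hN g).1 hg) (by
    have e : Subgroup.zpowers (g : G) = (Subgroup.zpowers g).map H.subtype := by
      rw [MonoidHom.map_zpowers]; rfl
    rw [e, ← Subgroup.map_commutator, ← Subgroup.map_commutator, hq, Subgroup.map_bot])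
  refine ⟨K.subgroupOf H, hK1, fun k hk => (hN k).2 (hK2 hk), ?_, ?_⟩
  · intro x hx
    have h1 := hK3 ((hN x).1 hx)
    rw [Subgroup.mem_normalizer_iff] at h1 ⊢
    intro y
    exact h1 y
  · intro k hk
    obtain ⟨j, hj⟩ := hK4 k hk
    refine ⟨j, ?_⟩
    rw [Subgroup.mem_centralizer_iff] at hj ⊢
    intro y hy
    exact Subtype.ext (hj y ⟨y, hy, rfl⟩)

/-- the key hypothesis for stability of the quotient by `O_{p'}` -/
theorem hs_of_nps [Finite G] [Fact p.Prime] (h : IsNormalizerPStable p G) (A P : Subgroup G) (hP : IsPGroup p P)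
    (hAP : ∀ a ∈ A, ∀ x ∈ P, a * x * a⁻¹ ∈ P) (hq : ⁅⁅P, A⁆, A⁆ = ⊥) :
      (A.subgroupOf (Subgroup.normalizer (P : Set G))).map
          (QuotientGroup.mk' ((Subgroup.centralizer (P : Set G)).subgroupOf
            (Subgroup.normalizer (P : Set G))))
        ≤ pCore p _ := by
  rintro _ ⟨⟨a, haN⟩, ha, rfl⟩
  apply h P hP a haN
  rw [eq_bot_iff, ← hq]
  have h1 : Subgroup.zpowers a ≤ A := by rw [Subgroup.zpowers_le]; exact ha
  exact Subgroup.commutator_mono (Subgroup.commutator_mono le_rfl h1) h1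

/-- the local statement -/
theorem local_constrained [Finite G] [Fact p.Prime] (hp : p ≠ 2) (e : Bool) (S : Sylow p G) {D : Subgroup G}
    (hD : IsStronglyClosed D (S : Subgroup G)) (hst : IsNormalizerPStable p G) (hc : IsPConstrained p G) :
    StrongIn (Subgroup.normalizer (WW e p D : Set G)) (S : Subgroup G) ⊤ := by
  have hDp : IsPGroup p D := S.2.to_le hD.1
  have hKc : (Nat.card (pPrimeCore p G)).Coprime p := H1.Cores.coprime_card_pPrimeCore p
  have hSY : (S : Subgroup G) ≤ Subgroup.normalizer (WW e p D : Set G) :=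
    (ZJD.le_normalizer_of_scl hD).trans (normalizer_le_normalizer_WW e p D)
  apply strongIn_of_quotient S hSY (pPrimeCore p G) hKc
  have h1 := ZJD.zjd_normal hp e (S.mapSurjective (f := QuotientGroup.mk' (pPrimeCore p G))
    (QuotientGroup.mk'_surjective _)) (scl_map S hD (pPrimeCore p G))
    (fun V hV hVp => H14.ZJ3.stab_quotient (fun A P _ hP hAP _ _ hq => hs_of_nps hst A P hP hAP hq) S V hVp)
    (H14.ZJ3.constraint_quotient hc S)
  rw [WW_map_quotient e hDp hKc] at h1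
  have h2 : (Subgroup.normalizer (WW e p D : Set G)).map (QuotientGroup.mk' (pPrimeCore p G)) = ⊤ := by
    rw [← normalizer_map_mk'_of (hDp.to_le (WW_le e p D)) hKc, Subgroup.normalizer_eq_top_iff]
    exact h1
  rw [h2]
  intro A g _ _ _
  exact ⟨g, trivial, fun _ _ => rfl⟩

theorem WW_bot [Finite G] (e : Bool) : WW e p (⊥ : Subgroup G) = ⊥ := le_bot_iff.1 (WW_le e p _)

/-- reduction to normalizers of `p`-subgroups -/
theorem global_of_local [Finite G] [Fact p.Prime] (e : Bool) (S : Sylow p G) {D : Subgroup G}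
    (hD : IsStronglyClosed D (S : Subgroup G))
    (hloc : ∀ U : Subgroup G, U ≤ (S : Subgroup G) → U ≠ ⊥ → ∀ T : Sylow p ↥(Subgroup.normalizer (U : Set G)),
      (T : Subgroup ↥(Subgroup.normalizer (U : Set G))) = ((S : Subgroup G) ⊓ Subgroup.normalizer (U : Set G)).subgroupOf _ →
      StrongIn (Subgroup.normalizer ((WW e p ((D ⊓ Subgroup.normalizer (U : Set G)).subgroupOf (Subgroup.normalizer (U : Set G))) :
        Subgroup ↥(Subgroup.normalizer (U : Set G))) : Set ↥(Subgroup.normalizer (U : Set G)))) (T : Subgroup _) ⊤) :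
    StrongIn (Subgroup.normalizer (WW e p D : Set G)) (S : Subgroup G) ⊤ := by
  rcases eq_or_ne D ⊥ with rfl | hne
  · have : Subgroup.normalizer (WW e p (⊥ : Subgroup G) : Set G) = ⊤ := by
      rw [WW_bot, Subgroup.normalizer_eq_top_iff]; infer_instance
    rw [this]
    intro A g _ _ _
    exact ⟨g, trivial, fun _ _ => rfl⟩
  have hW := WD_isConjugacyFunctor (p := p) e D
  have hDS : D ⊓ (S : Subgroup G) = D := inf_eq_left.2 hD.1
  obtain ⟨z, hzD, hz1, hz⟩ := exists_central S.2 hD.1 (ZJD.le_normalizer_of_scl hD) hne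
  have h1 := strongFusion_of_wellPlaced hW S (fun U hU hUw => by
    have hUw' := (isWellPlaced_iff S.2).1 hUw
    have hUS : U ≤ (S : Subgroup G) := hUw.1
    have hT : IsSyl p ((S : Subgroup G) ⊓ Subgroup.normalizer (U : Set G)) (Subgroup.normalizer (U : Set G)) := by
      have := hUw'.2 0
      exact this
    rw [controlsStrongFusionIn_iff hW hT]
    set N := Subgroup.normalizer (U : Set G) with hN
    set T := (S : Subgroup G) ⊓ N with hTdef
    have hzT : z ∈ D ⊓ N := by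
      refine Subgroup.mem_inf.2 ⟨hzD, ?_⟩
      rw [hN]
      apply Subgroup.centralizer_le_normalizer
      rw [Subgroup.mem_centralizer_iff]
      intro u hu
      exact hz u (hUS hu)
    have hDT : D ⊓ T = D ⊓ N := by
      rw [hTdef, ← inf_assoc, hDS]
    rw [WD_eq e hD (inf_le_left : T ≤ (S : Subgroup G)) (by
      rw [hDT]
      intro h
      rw [h] at hzT
      exact hz1 hzT), hDT]
    have h2 := hloc U hUS hU hT.toSylow hT.coe_toSylow
    have h3 := H38.Section.strongIn_map h2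
    rw [hT.map_toSylow, H38.Witness.map_normalizer, ← WW_map e p N.subtype_injective] at h3
    have h4 : ((D ⊓ N).subgroupOf N).map N.subtype = D ⊓ N := by
      rw [Subgroup.subgroupOf_map_subtype, inf_eq_left]; exact inf_le_right
    rw [h4] at h3
    exact h3)
  rw [controlsStrongFusionIn_top_iff hW S, WD_eq e hD le_rfl (by rw [hDS]; exact hne), hDS] at h1
  exact h1

/-- Glauberman: control of strong fusion for strongly closed subgroups, constrained normalizers -/
theorem main_constrained [Finite G] [Fact p.Prime] (hp : p ≠ 2) (e : Bool) (S : Sylow p G) {D : Subgroup G}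
    (hD : IsStronglyClosed D (S : Subgroup G)) (hst : IsNormalizerPStable p G)
    (hc : ∀ U : Subgroup G, U ≤ (S : Subgroup G) → U ≠ ⊥ → IsPConstrained p ↥(Subgroup.normalizer (U : Set G))) :
    StrongIn (Subgroup.normalizer (WW e p D : Set G)) (S : Subgroup G) ⊤ := by
  apply global_of_local e S hD
  intro U hUS hU T hT
  apply local_constrained hp e T _ (nps_subgroup hst _) (hc U hUS hU)
  rw [hT]
  exact scl_subgroupOf hD _

theorem controls_of_strongIn {X S : Subgroup G} (h : StrongIn X S ⊤) (A : Set G) (hA : A ⊆ (S : Set G)) :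
    ControlsStrongFusionOf X S A := by
  refine ⟨hA, fun g hg => ?_⟩
  obtain ⟨x, hx, hxa⟩ := h A g trivial hA hg
  exact ⟨x, hx, fun a ha => (hxa a ha).symm⟩

end H56.ZJDFun
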