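import Mathlib
import Cfsg.Agent.Lib.H56.ZJDFun
import Cfsg.Agent.Lib.H51.QdStab2
import Cfsg.Agent.Lib.H39.SFMin

/-! Control of strong fusion for strongly closed subgroups in `Qd(p)`-free groups -/

set_option autoImplicit false

namespace H56.ZJDInd

open Cfsg H38.Basic H38.Alperin H38.Functor H38.Control H38.FamilyControl H14.ZJ H14.MaxIn H56.ZJDFun

universe u

section

variable {G : Type u} [Group G] [Finite G] {p : ℕ} [hpf : Fact p.Prime]

/-- the hypothesis that proper subgroups containing `S` are fine -/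
theorem sub_rel (e : Bool) (S : Sylow p G) {D : Subgroup G} (hDS : D ≤ (S : Subgroup G)) {K : Subgroup G}
    (hSK : (S : Subgroup G) ≤ K)
    (h : ∀ T : Sylow p ↥K, (T : Subgroup ↥K) = (S : Subgroup G).subgroupOf K →
      StrongIn (Subgroup.normalizer (WW e p (D.subgroupOf K) : Set ↥K)) (T : Subgroup ↥K) ⊤)
    {A : Set G} {x : G} (hx : x ∈ K)
    (hA : A ⊆ ((S : Subgroup G) : Set G)) (hxA : cj x A ⊆ ((S : Subgroup G) : Set G)) :
    ActRel (Subgroup.normalizer (WW e p D : Set G)) A x := by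
  have hT : IsSyl p (S : Subgroup G) K := (isSyl_sylow S).of_le hSK le_top
  have h2 := H38.Section.strongIn_map (h hT.toSylow hT.coe_toSylow)
  rw [hT.map_toSylow, H38.Witness.map_normalizer, ← WW_map e p K.subtype_injective] at h2
  have h4 : (D.subgroupOf K).map K.subtype = D := by
    rw [Subgroup.subgroupOf_map_subtype, inf_eq_left]; exact hDS.trans hSK
  rw [h4] at h2
  obtain ⟨y, hy, hya⟩ := h2 A x hx hA hxA
  exact ⟨y, hy.2, hya⟩

theorem ActRel.congr {Y : Subgroup G} {A : Set G} {g h : G}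
    (hg : ActRel Y A g) (hgh : ∀ a ∈ A, h * a * h⁻¹ = g * a * g⁻¹) : ActRel Y A h := by
  obtain ⟨k, hk, hka⟩ := hg
  exact ⟨k, hk, fun a ha => (hka a ha).trans (hgh a ha).symm⟩

theorem strongIn_of_normalizer_top (e : Bool) {S D : Subgroup G} (h : (WW e p D).Normal) :
    StrongIn (Subgroup.normalizer (WW e p D : Set G)) S ⊤ := by
  rw [Subgroup.normalizer_eq_top_iff.2 h]
  intro A g _ _ _
  exact ⟨g, trivial, fun _ _ => rfl⟩

/-- the case `G = S C(O_p(G))` -/
theorem sc_case (e : Bool) (S : Sylow p G) {D : Subgroup G} (hD : IsStronglyClosed D (S : Subgroup G))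
    (hDH : ¬ D ≤ pCore p G) (hHne : pCore p G ≠ ⊥)
    (hsub : ∀ K : Subgroup G, (S : Subgroup G) ≤ K → K ≠ ⊤ → ∀ T : Sylow p ↥K, (T : Subgroup ↥K) = (S : Subgroup G).subgroupOf K →
      StrongIn (Subgroup.normalizer (WW e p (D.subgroupOf K) : Set ↥K)) (T : Subgroup ↥K) ⊤)
    (hquo : StrongIn (Subgroup.normalizer (WW e p (D.map (QuotientGroup.mk' (pCore p G))) : Set (G ⧸ pCore p G)))
      ((S : Subgroup G).map (QuotientGroup.mk' (pCore p G))) ⊤)
    (hSC : (S : Subgroup G) ⊔ Subgroup.centralizer ((pCore p G : Subgroup G) : Set G) = ⊤) :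
    StrongIn (Subgroup.normalizer (WW e p D : Set G)) (S : Subgroup G) ⊤ := by
  set H := pCore p G with hH
  have hHn : H.Normal := inferInstance
  have hHp : IsPGroup p H := H52.PCore.isPGroup_pCore
  have hHS : H ≤ (S : Subgroup G) := H52.PCore.pCore_le_sylow S
  set C := Subgroup.centralizer (H : Set G) with hC
  have hCn : C.Normal := inferInstance
  set Y := Subgroup.normalizer (WW e p D : Set G) with hY
  have hSY : (S : Subgroup G) ≤ Y :=
    (ZJD.le_normalizer_of_scl hD).trans (normalizer_le_normalizer_WW e p D)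
  have hR := actRel_isFusionRel Y
  set f := QuotientGroup.mk' H with hf
  have hsurj : Function.Surjective f := QuotientGroup.mk'_surjective H
  have hS'p : IsPGroup p ((S : Subgroup G).map f) := S.2.map f
  have hHbot : pCore p (G ⧸ H) = ⊥ := by
    rw [H52.PCore.pCore_eq_bot_iff]
    intro N hN hNp
    have h1 : N.comap f ≤ H := by
      apply H52.PCore.le_pCore inferInstance
      exact hNp.comap_of_ker_isPGroup f (by rw [hf, QuotientGroup.ker_mk']; exact H52.PCore.isPGroup_pCore)
    rw [← Subgroup.map_comap_eq_self_of_surjective hsurj N, Subgroup.map_eq_bot_iff, hf, QuotientGroup.ker_mk']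
    exact h1
  have hmemS : ∀ x : G, f x ∈ (S : Subgroup G).map f ↔ x ∈ (S : Subgroup G) := by
    intro x
    rw [← Subgroup.mem_comap, Subgroup.comap_map_eq, hf, QuotientGroup.ker_mk', sup_eq_left.2 hHS]
  have hD'ne : D.map f ≠ ⊥ := by
    rw [Ne, Subgroup.map_eq_bot_iff, hf, QuotientGroup.ker_mk']
    exact hDH
  have hD'p : IsPGroup p (D.map f) := hS'p.to_le (Subgroup.map_mono hD.1)
  have hW'ne := H14.ZJ4.WW_ne_bot e hD'p hD'ne
  set L := (Subgroup.normalizer (WW e p (D.map f) : Set (G ⧸ H))).comap f with hL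
  have hLtop : L ≠ ⊤ := by
    intro htop
    have h1 : Subgroup.normalizer (WW e p (D.map f) : Set (G ⧸ H)) = ⊤ := by
      rw [← Subgroup.map_comap_eq_self_of_surjective hsurj (Subgroup.normalizer _), ← hL, htop,
        Subgroup.map_top_of_surjective _ hsurj]
    have h2 : WW e p (D.map f) ≤ ⊥ := by
      rw [← hHbot]
      exact H52.PCore.le_pCore (Subgroup.normalizer_eq_top_iff.1 h1) (hD'p.to_le (WW_le e p _))
    exact hW'ne (le_bot_iff.1 h2)
  have hSL : (S : Subgroup G) ≤ L := by
    rw [hL, ← Subgroup.map_le_iff_le_comap]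
    exact (ZJD.le_normalizer_of_scl (scl_map S hD H)).trans (normalizer_le_normalizer_WW e p _)
  -- lifting modulo `H`
  have hlift : ∀ (A : Set G) (g : G), A ⊆ ((S : Subgroup G) : Set G) → cj g A ⊆ ((S : Subgroup G) : Set G) →
      ∃ y : G, ActRel Y A y ∧ ∀ a ∈ A, f (y * a * y⁻¹) = f (g * a * g⁻¹) := by
    intro A g hA hgA
    obtain ⟨x, hx, hxa⟩ := hquo (f '' A) (f g) trivial (by rw [Subgroup.coe_map]; exact Set.image_mono hA) (by
      rw [Subgroup.coe_map]
      rintro _ ⟨_, ⟨a, ha, rfl⟩, rfl⟩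
      exact ⟨_, hgA (mem_cj ha), by simp⟩)
    obtain ⟨y, rfl⟩ := hsurj x
    have hya : ∀ a ∈ A, f (y * a * y⁻¹) = f (g * a * g⁻¹) := by
      intro a ha
      have := hxa (f a) ⟨a, ha, rfl⟩
      simpa only [map_mul, map_inv] using this
    refine ⟨y, ?_, hya⟩
    refine sub_rel e S hD.1 hSL (hsub L hSL hLtop) hx hA ?_
    rintro _ ⟨a, ha, rfl⟩
    show _ ∈ (S : Subgroup G)
    rw [← hmemS]
    show f (y * a * y⁻¹) ∈ _
    rw [hya a ha, hmemS]
    exact hgA (mem_cj ha)
  -- `p'`-elements lie in `C`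
  have hCmem : ∀ y : G, (orderOf y).Coprime p → y ∈ C := by
    intro y hy
    have hy' : y ∈ (S : Subgroup G) ⊔ C := by rw [hSC]; trivial
    obtain ⟨s, hs, c, hc, rfl⟩ := Subgroup.mem_sup_of_normal_right.1 hy'
    rw [← QuotientGroup.eq_one_iff]
    have h1 : ((s * c : G) : G ⧸ C) = (s : G ⧸ C) := by
      rw [QuotientGroup.mk_mul, (QuotientGroup.eq_one_iff c).2 hc, mul_one]
    obtain ⟨k, hk⟩ := S.2 ⟨s, hs⟩
    have h2 : s ^ p ^ k = 1 := congrArg Subtype.val hk
    have h3 : ((s * c : G) : G ⧸ C) ^ p ^ k = 1 := by rw [h1, ← QuotientGroup.mk_pow, h2]; rfl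
    have h4 : ((s * c : G) : G ⧸ C) ^ orderOf (s * c) = 1 := by
      rw [← QuotientGroup.mk_pow, pow_orderOf_eq_one]; rfl
    have h5 : orderOf ((s * c : G) : G ⧸ C) ∣ 1 := by
      have hc' : (p ^ k).Coprime (orderOf (s * c)) := Nat.Coprime.pow_left k hy.symm
      rw [← hc'.gcd_eq_one]
      exact Nat.dvd_gcd (orderOf_dvd_of_pow_eq_one h3) (orderOf_dvd_of_pow_eq_one h4)
    exact orderOf_eq_one_iff.1 (Nat.dvd_one.1 h5)
  have hfam : Cfsg.IsConjugationFamily {U : Subgroup G | U ≤ (S : Subgroup G) ∧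
      IsSyl p ((S : Subgroup G) ⊓ Subgroup.normalizer (U : Set G)) (Subgroup.normalizer (U : Set G))} (S : Subgroup G) := by
    refine H38.Functor.conjFamily_of_criterion S _ (fun U hU => hU.1) ?_
    intro T hT
    obtain ⟨g, h1, h2, _⟩ := exists_fullyNormalized S hT
    exact ⟨_, ⟨h1, h2⟩, ⟨g, rfl⟩, h2.2.2⟩
  rw [isConjugationFamily_iff] at hfam
  intro A g _ hA hgA
  -- enlarge `A` by `H`
  suffices hmain : ActRel Y (A ∪ (H : Set G)) g from hR.mono Set.subset_union_left hmain
  have hA' : A ∪ (H : Set G) ⊆ ((S : Subgroup G) : Set G) := Set.union_subset hA hHS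
  have hgA' : cj g (A ∪ (H : Set G)) ⊆ ((S : Subgroup G) : Set G) := by
    have e : cj g (A ∪ (H : Set G)) = cj g A ∪ cj g (H : Set G) := Set.image_union _ _ _
    rw [e, cj_coe, conj_normal]
    exact Set.union_subset hgA hHS
  have hchain := (hfam.2 (A ∪ (H : Set G)) g ⟨1, Set.mem_union_right _ (one_mem H)⟩ hA' hgA').of_normal_subset
    (Q := H) Set.subset_union_right
  refine hchain.rel hR (fun T hT => hT.1.1) (fun A _ => actRel_one Y A) ?_ hA'
  rintro U ⟨⟨hUS, hUsyl⟩, hHU⟩ x hx
  have hxU : cj x (U : Set G) = U := by rw [cj_coe, mem_normalizer_iff'.1 hx]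
  obtain ⟨c, hc, hcx⟩ := hlift (U : Set G) x hUS (by rw [hxU]; exact hUS)
  have hmemU : ∀ y : G, f y ∈ U.map f ↔ y ∈ U := by
    intro y
    rw [← Subgroup.mem_comap, Subgroup.comap_map_eq, hf, QuotientGroup.ker_mk', sup_eq_left.2 hHU]
  have hcN : c ∈ Subgroup.normalizer (U : Set G) := by
    rw [mem_normalizer_iff']
    apply Subgroup.eq_of_le_of_card_ge
    · rintro _ ⟨a, ha, rfl⟩
      show c * a * c⁻¹ ∈ U
      rw [← hmemU, hcx a ha]
      exact ⟨_, (Subgroup.mem_normalizer_iff.1 hx a).1 ha, rfl⟩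
    · rw [card_conj]
  set y := x * c⁻¹ with hy
  have hyN : y ∈ Subgroup.normalizer (U : Set G) := mul_mem hx (inv_mem hcN)
  let E₀ : Subgroup G :=
    { carrier := {y | y ∈ Subgroup.normalizer (U : Set G) ∧ ∀ a ∈ U, f (y * a * y⁻¹) = f a}
      one_mem' := ⟨one_mem _, fun a _ => by simp⟩
      mul_mem' := by
        rintro y z ⟨hy1, hy2⟩ ⟨hz1, hz2⟩
        refine ⟨mul_mem hy1 hz1, fun a ha => ?_⟩
        have e : y * z * a * (y * z)⁻¹ = y * (z * a * z⁻¹) * y⁻¹ := by group
        rw [e, hy2 _ ((Subgroup.mem_normalizer_iff.1 hz1 a).1 ha), hz2 a ha]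
      inv_mem' := by
        rintro y ⟨hy1, hy2⟩
        refine ⟨inv_mem hy1, fun a ha => ?_⟩
        have h1 := hy2 _ ((Subgroup.mem_normalizer_iff.1 (inv_mem hy1) a).1 ha)
        have e : y * (y⁻¹ * a * y⁻¹⁻¹) * y⁻¹ = a := by group
        rw [e] at h1
        exact h1.symm }
  have hyD : y ∈ E₀ := by
    refine ⟨hyN, fun a ha => ?_⟩
    have ha' : c⁻¹ * a * c ∈ U := by
      have := (Subgroup.mem_normalizer_iff.1 (inv_mem hcN) a).1 ha
      rwa [inv_inv] at this
    have h1 := hcx _ ha'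
    have e1 : c * (c⁻¹ * a * c) * c⁻¹ = a := by group
    have e2 : x * (c⁻¹ * a * c) * x⁻¹ = y * a * y⁻¹ := by rw [hy]; group
    rw [e1, e2] at h1
    exact h1.symm
  have hDN : E₀ ≤ Subgroup.normalizer (U : Set G) := fun z hz => hz.1
  have hND : Subgroup.normalizer (U : Set G) ≤ Subgroup.normalizer (E₀ : Set G) := by
    intro n hn
    rw [mem_normalizer_iff']
    apply Subgroup.eq_of_le_of_card_ge
    · rintro _ ⟨z, hz, rfl⟩
      refine ⟨mul_mem (mul_mem hn hz.1) (inv_mem hn), fun a ha => ?_⟩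
      have ha' : n⁻¹ * a * n ∈ U := by
        have := (Subgroup.mem_normalizer_iff.1 (inv_mem hn) a).1 ha
        rwa [inv_inv] at this
      have h1 := hz.2 _ ha'
      have e : n * z * n⁻¹ * a * (n * z * n⁻¹)⁻¹ = n * (z * (n⁻¹ * a * n) * z⁻¹) * n⁻¹ := by group
      show f (n * z * n⁻¹ * a * (n * z * n⁻¹)⁻¹) = f a
      rw [e]
      simp only [map_mul, map_inv] at h1 ⊢
      rw [h1]; group
    · rw [card_conj]
  have hDsyl : IsSyl p (((S : Subgroup G) ⊓ Subgroup.normalizer (U : Set G)) ⊓ E₀) E₀ := hUsyl.inf_normal hDN hND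
  -- `p'`-elements centralize `U`
  have hDp' : ∀ z ∈ E₀, (orderOf z).Coprime p → z ∈ Subgroup.centralizer (U : Set G) := by
    intro z hz hzo
    rw [Subgroup.mem_centralizer_iff]
    intro a ha
    have h1 : a⁻¹ * (z * a * z⁻¹) ∈ H := (QuotientGroup.eq).1 (hz.2 a ha).symm
    set b := a⁻¹ * (z * a * z⁻¹) with hb
    have hzb : z * b * z⁻¹ = b := by
      have := Subgroup.mem_centralizer_iff.1 (hCmem z hzo) b h1
      rw [← this]; group
    have hpow : ∀ n : ℕ, z ^ n * a * (z ^ n)⁻¹ = a * b ^ n := by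
      intro n
      induction n with
      | zero => simp
      | succ n ih =>
        have e : z ^ (n + 1) * a * (z ^ (n + 1))⁻¹ = z * (z ^ n * a * (z ^ n)⁻¹) * z⁻¹ := by rw [pow_succ']; group
        rw [e, ih]
        have e2 : z * (a * b ^ n) * z⁻¹ = (z * a * z⁻¹) * (z * b * z⁻¹) ^ n := by rw [conj_pow]; group
        rw [e2, hzb]
        have e3 : z * a * z⁻¹ = a * b := by rw [hb]; group
        rw [e3, pow_succ']; group
    have h2 := hpow (orderOf z)
    rw [pow_orderOf_eq_one] at h2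
    have h3 : b ^ orderOf z = 1 := by
      have : a * b ^ orderOf z = a * 1 := by rw [← h2]; group
      exact mul_left_cancel this
    have h4 : b = 1 := H38.PPrime.eq_one_of_coprime_of_isPGroup hHp h1
      (Nat.Coprime.coprime_dvd_left (orderOf_dvd_of_pow_eq_one h3) hzo)
    rw [hb] at h4
    have h5 : z * a * z⁻¹ = a := (inv_mul_eq_one.1 h4).symm
    calc a * z = z * a * z⁻¹ * z := by rw [h5]
      _ = z * a := by group
  obtain ⟨s, hs, z, hz, hyz⟩ : ∃ s ∈ (S : Subgroup G), ∃ z ∈ Subgroup.centralizer (U : Set G), s * z = y := by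
    set E := E₀ ⊓ Subgroup.centralizer (U : Set G) with hE
    have hED : E ≤ E₀ := inf_le_left
    have hDE : E₀ ≤ Subgroup.normalizer (E : Set G) := by
      refine le_trans ?_ (H39.Comm.inf_normalizer_le _ _)
      refine le_inf Subgroup.le_normalizer (hDN.trans (H39.Comm.normalizer_le_normalizer_centralizer U))
    have hidx : ∃ k, E.relIndex E₀ = p ^ k := by
      refine H38.PPrime.relIndex_eq_pow hDE ?_
      intro z hz
      obtain ⟨k, hk⟩ := H39.SylowAux.exists_ppart hpf.out z
      exact ⟨k, Subgroup.mem_inf.2 ⟨E₀.pow_mem hz _, hDp' _ (E₀.pow_mem hz _) hk⟩⟩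
    obtain ⟨k, hk⟩ := hidx
    set P := ((S : Subgroup G) ⊓ Subgroup.normalizer (U : Set G)) ⊓ E₀ with hP
    have hsup : E₀ ≤ P ⊔ E := by
      have h1 : (P ⊔ E).relIndex E₀ ∣ p ^ k := hk ▸ Subgroup.relIndex_dvd_of_le_left E₀ le_sup_right
      have h2 : (P ⊔ E).relIndex E₀ ∣ P.relIndex E₀ := Subgroup.relIndex_dvd_of_le_left E₀ le_sup_left
      obtain ⟨j, _, hj⟩ := (Nat.dvd_prime_pow hpf.out).1 h1
      rcases j with _ | j
      · rw [pow_zero] at hj
        exact Subgroup.relIndex_eq_one.1 hj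
      · exfalso
        apply hDsyl.2.2
        refine dvd_trans ?_ h2
        rw [hj]; exact dvd_pow_self p (Nat.succ_ne_zero j)
    obtain ⟨s, hs, z, hz, hyz⟩ := H39.SFMin.mem_sup_of_norm (inf_le_right.trans hDE) (hsup hyD)
    exact ⟨s, (Subgroup.mem_inf.1 (Subgroup.mem_inf.1 hs).1).1, z, (Subgroup.mem_inf.1 hz).2, hyz⟩
  have hUc : cj c (U : Set G) = U := by rw [cj_coe, mem_normalizer_iff'.1 hcN]
  have hrs : ActRel Y (U : Set G) s := ⟨s, hSY hs, fun _ _ => rfl⟩
  have hry : ActRel Y (U : Set G) y := by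
    refine ActRel.congr hrs fun a ha => ?_
    rw [← hyz]
    have := Subgroup.mem_centralizer_iff.1 hz a ha
    calc s * z * a * (s * z)⁻¹ = s * (z * a * z⁻¹) * s⁻¹ := by group
      _ = s * (a * z * z⁻¹) * s⁻¹ := by rw [this]
      _ = s * a * s⁻¹ := by group
  have := hR.trans hc (by rw [hUc]; exact hry)
  have e : y * c = x := by rw [hy]; group
  rwa [e] at this

end

/-- control of strong fusion in `Qd(p)`-free groups -/
theorem main_aux {p : ℕ} [hpf : Fact p.Prime] (hp : p ≠ 2) (e : Bool) : ∀ (n : ℕ) (G : Type u) [Group G] [Finite G],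
    Nat.card G ≤ n → ¬ Involves ↥(qd p) G → ∀ (S : Sylow p G) (D : Subgroup G),
      IsStronglyClosed D (S : Subgroup G) → StrongIn (Subgroup.normalizer (WW e p D : Set G)) (S : Subgroup G) ⊤ := by
  intro n
  induction n with
  | zero =>
    intro G _ _ hn
    have := Nat.card_pos (α := G)
    omega
  | succ n ih =>
    intro G _ _ hn hqd S D hD
    have hsub : ∀ (K : Subgroup G), K ≠ ⊤ → ∀ (T : Sylow p ↥K) (E : Subgroup ↥K), IsStronglyClosed E (T : Subgroup ↥K) →
        StrongIn (Subgroup.normalizer (WW e p E : Set ↥K)) (T : Subgroup ↥K) ⊤ := by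
      intro K hK T E hE
      refine ih K ?_ (fun h => hqd (H51.Involves.involves_of_injective K.subtype K.subtype_injective h)) T E hE
      have h1 : Nat.card K < Nat.card G := by
        have h2 := Subgroup.card_le_card_group K
        rcases h2.lt_or_eq with h | h
        · exact h
        · exact absurd ((Subgroup.card_eq_iff_eq_top K).1 h) hK
      omega
    have hquo : ∀ (R : Subgroup G) [R.Normal], R ≠ ⊥ →
        StrongIn (Subgroup.normalizer (WW e p (D.map (QuotientGroup.mk' R)) : Set (G ⧸ R)))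
          ((S : Subgroup G).map (QuotientGroup.mk' R)) ⊤ := by
      intro R hRn hR
      refine ih (G ⧸ R) ?_ (fun h => hqd (H51.Involves.involves_of_hom (QuotientGroup.mk' R) (QuotientGroup.mk'_surjective R) h))
        (S.mapSurjective (QuotientGroup.mk'_surjective R)) _ (scl_map S hD R)
      have h1 : Nat.card (G ⧸ R) < Nat.card G := by
        have h2 := Subgroup.card_eq_card_quotient_mul_card_subgroup R
        have h3 : 1 < Nat.card R := by
          have : Nontrivial R := (Subgroup.nontrivial_iff_ne_bot R).2 hR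
          exact Finite.one_lt_card
        have h4 : 0 < Nat.card (G ⧸ R) := Nat.card_pos
        rw [h2]
        nlinarith
      omega
    have hst := H51.QdStab2.stable hp hqd
    by_cases hO : pCore p G = ⊥
    · -- reduction to normalizers
      apply global_of_local e S hD
      intro U hUS hU T hT
      apply hsub _ _ T
      · rw [hT]
        exact scl_subgroupOf hD _
      · intro htop
        apply hU
        have h1 : U ≤ pCore p G := H52.PCore.le_pCore (Subgroup.normalizer_eq_top_iff.1 htop) (S.2.to_le hUS)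
        rw [hO] at h1
        exact le_bot_iff.1 h1
    by_cases hR : pPrimeCore p G = ⊥
    swap
    · -- `O_{p'}`
      have hDp : IsPGroup p D := S.2.to_le hD.1
      have hKc : (Nat.card (pPrimeCore p G)).Coprime p := H1.Cores.coprime_card_pPrimeCore p
      have hSY : (S : Subgroup G) ≤ Subgroup.normalizer (WW e p D : Set G) :=
        (ZJD.le_normalizer_of_scl hD).trans (normalizer_le_normalizer_WW e p D)
      apply strongIn_of_quotient S hSY (pPrimeCore p G) hKc
      have h1 := hquo (pPrimeCore p G) hR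
      rw [WW_map_quotient e hDp hKc, normalizer_map_mk'_of (hDp.to_le (WW_le e p D)) hKc] at h1
      exact h1
    have hHn : (pCore p G).Normal := inferInstance
    have hHp : IsPGroup p (pCore p G) := H52.PCore.isPGroup_pCore
    have hHS : pCore p G ≤ (S : Subgroup G) := H52.PCore.pCore_le_sylow S
    by_cases hDH : D ≤ pCore p G
    · apply strongIn_of_normalizer_top
      have hDn : D.Normal := ⟨fun x hx g => hD.2 x hx g (hHS (hHn.conj_mem x (hDH hx) g))⟩
      rw [← Subgroup.normalizer_eq_top_iff, eq_top_iff]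
      rw [← Subgroup.normalizer_eq_top_iff.2 hDn]
      exact normalizer_le_normalizer_WW e p D
    set C := Subgroup.centralizer ((pCore p G : Subgroup G) : Set G) with hC
    have hCn : C.Normal := inferInstance
    by_cases hNS : Subgroup.normalizer (((S : Subgroup G) ⊓ C : Subgroup G) : Set G) = ⊤
    · -- `C ≤ O_p(G)`
      have hQH : (S : Subgroup G) ⊓ C ≤ pCore p G :=
        H52.PCore.le_pCore (Subgroup.normalizer_eq_top_iff.1 hNS) (S.2.to_le inf_le_left)
      have hQC : IsSyl p ((S : Subgroup G) ⊓ C) C := (isSyl_sylow S).inf_normal le_top (by rw [Subgroup.normalizer_eq_top])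
      have hcent : C ≤ Subgroup.centralizer (((S : Subgroup G) ⊓ C : Subgroup G) : Set G) := by
        rw [hC]
        exact Subgroup.centralizer_le hQH
      obtain ⟨K, hK1, hK2, hK3⟩ := H38.PPrime.exists_complement_of_central hQC hcent
      have hKn : K.Normal := by
        refine ⟨fun x hx g => ?_⟩
        rw [hK1] at hx ⊢
        exact ⟨hCn.conj_mem x hx.1 g, by rw [H38.PPrime.orderOf_conj]; exact hx.2⟩
      have hKbot : K = ⊥ := by
        rw [← le_bot_iff, ← hR]
        exact H1.Cores.le_pPrimeCore hKn hK2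
      have hCH : C ≤ pCore p G := by
        intro x hx
        obtain ⟨t, ht, k, hk, rfl⟩ := hK3 x hx
        rw [hKbot] at hk
        have : k = 1 := hk
        rw [this, mul_one]
        exact hQH ht
      apply strongIn_of_normalizer_top
      exact ZJD.zjd_normal hp e S hD (fun V hV hVp => ZJD.stab_of_nps hst S V hVp) hCH
    have hsub' : ∀ K : Subgroup G, (S : Subgroup G) ≤ K → K ≠ ⊤ → ∀ T : Sylow p ↥K, (T : Subgroup ↥K) = (S : Subgroup G).subgroupOf K →
        StrongIn (Subgroup.normalizer (WW e p (D.subgroupOf K) : Set ↥K)) (T : Subgroup ↥K) ⊤ := by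
      intro K hSK hK T hT
      apply hsub K hK T
      rw [hT]
      exact scl_of_le hD K
    by_cases hSC : (S : Subgroup G) ⊔ C = ⊤
    · exact sc_case e S hD hDH hO hsub' (hquo _ hO) hSC
    · intro A g _ hA hgA
      have hSN : (S : Subgroup G) ≤ Subgroup.normalizer (((S : Subgroup G) ⊓ C : Subgroup G) : Set G) := by
        intro s hs
        rw [mem_normalizer_iff', conj_inf, conj_eq_of_mem hs, conj_normal]
      obtain ⟨x, hx, y, hy, rfl, hxA⟩ := H39.SFMin.exists_decomp S C hA hgA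
      have h1 := sub_rel e S hD.1 le_sup_left (hsub' _ le_sup_left hSC) (Subgroup.mem_sup_right hx) hA hxA
      have h2 := sub_rel e S hD.1 hSN (hsub' _ hSN hNS) hy hxA (by rw [cj_cj]; exact hgA)
      exact (actRel_isFusionRel _).trans h1 h2

theorem main {p : ℕ} [hpf : Fact p.Prime] (hp : p ≠ 2) (e : Bool) {G : Type u} [Group G] [Finite G]
    (hqd : ¬ Involves ↥(qd p) G) (S : Sylow p G) {D : Subgroup G}
      (hD : IsStronglyClosed D (S : Subgroup G)) : StrongIn (Subgroup.normalizer (WW e p D : Set G)) (S : Subgroup G) ⊤ :=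
  main_aux hp e _ G le_rfl hqd S D hD

end H56.ZJDInd
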