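import Mathlib
import Cfsg.Agent.Lib.H14.GlNPC2
import Cfsg.Agent.Lib.H56.ZJDFun

/-! The normal `p`-complement criterion for strongly closed subgroups (adapted from the proof for `D = P`) -/

set_option autoImplicit false

namespace H56.ZJDNpc

open Subgroup H14.MaxIn H14.ZJ H14.ZJ3 H14.ZJ4 H14.GlNPC H14.GlNPC2 Cfsg H38.Basic H56.ZJDFun
open scoped commutatorElement

/-- the induction hypothesis for proper subgroups -/
def IHs (e : Bool) (p : ℕ) (G : Type*) [Group G] : Prop :=
  ∀ M : Subgroup G, M ≠ ⊤ → ∀ T : Sylow p M, ∀ E : Subgroup M, IsStronglyClosed E (T : Subgroup M) →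
    HasNormalPComplement p (normalizer (WW e p E : Set M)) → HasNormalPComplement p M

variable {G : Type*} [Group G] [Finite G] {p : ℕ} [Fact p.Prime]

theorem IHs.use {e : Bool} (h : IHs e p G) {M T D : Subgroup G} (hM : M ≠ ⊤) (hT : IsSyl p T M) (hDT : D ≤ T)
    (hD : IsStronglyClosed (D.subgroupOf M) (T.subgroupOf M))
    (hN : HasNormalPComplement p (normalizer (WW e p D : Set G))) : HasNormalPComplement p M := by
  apply h M hM hT.toSylow (D.subgroupOf M) (by rw [hT.coe_toSylow]; exact hD)
  have h2 := WW_map e p M.subtype_injective (D.subgroupOf M)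
  have h5 : (D.subgroupOf M).map M.subtype = D := by
    rw [subgroupOf_map_subtype, inf_eq_left]; exact hDT.trans hT.1
  rw [h5] at h2
  have h3 : (normalizer (WW e p (D.subgroupOf M) : Set M)).map M.subtype ≤
      normalizer (WW e p D : Set G) := by
    rw [h2]; exact le_normalizer_map _
  have h4 := npc_mono h3 hN
  exact H2.NPC.of_mulEquiv ((normalizer (WW e p (D.subgroupOf M) : Set M)).equivMapOfInjective _
    M.subtype_injective).symm h4

/-- use for subgroups containing the Sylow subgroup -/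
theorem IHs.use' {e : Bool} (h : IHs e p G) {M : Subgroup G} (hM : M ≠ ⊤) (P : Sylow p G) (hPM : (P : Subgroup G) ≤ M) {D : Subgroup G}
    (hD : IsStronglyClosed D (P : Subgroup G))
    (hN : HasNormalPComplement p (normalizer (WW e p D : Set G))) : HasNormalPComplement p M :=
  h.use hM ((isSyl_sylow P).of_le hPM le_top) hD.1 (scl_of_le hD M) hN

/-- In a minimal counterexample `O_p(G) ≠ 1`. -/
theorem pCore_ne_bot {e : Bool} (hIH : IHs e p G) (P : Sylow p G) {D : Subgroup G}
    (hD : IsStronglyClosed D (P : Subgroup G)) (hD1 : D ≠ ⊥) (h : ¬ HasNormalPComplement p G)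
    (hN : HasNormalPComplement p (normalizer (WW e p D : Set G))) : pCore p G ≠ ⊥ := by
  classical
  have hPD := ZJD.le_normalizer_of_scl hD
  obtain ⟨z, hzD, hz1, hz⟩ := exists_central P.2 hD.1 hPD hD1
  obtain ⟨Q, hQP, hQ1, hcon⟩ := exists_bad h P
  obtain ⟨Q, ⟨hQP, hQ1, hQ⟩, hmax⟩ := Set.exists_max_image
    {Q : Subgroup G | Q ≤ (P : Subgroup G) ∧ Q ≠ ⊥ ∧ ¬ HasNormalPComplement p (normalizer (Q : Set G))}
    (fun Q => Nat.card ((P : Subgroup G) ⊓ normalizer (Q : Set G) : Subgroup G)) (Set.toFinite _)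
    ⟨Q, hQP, hQ1, hcon⟩
  set R := (P : Subgroup G) ⊓ normalizer (Q : Set G) with hR
  have hQR : Q ≤ R := le_inf hQP le_normalizer
  have hR1 : R ≠ ⊥ := fun h => hQ1 (le_bot_iff.mp (h ▸ hQR))
  have hRp : IsPGroup p R := P.2.to_le inf_le_left
  obtain ⟨T, hT, hRT⟩ := exists_isSyl_ge hRp (inf_le_right : R ≤ normalizer (Q : Set G))
  suffices htop : normalizer (Q : Set G) = ⊤ by
    have hQn : Q.Normal := normalizer_eq_top_iff.mp htop
    intro hbot
    exact hQ1 (le_bot_iff.mp (hbot ▸ H1.Cores.le_pCore hQn (P.2.to_le hQP)))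
  by_contra htop
  by_cases hRP : R = (P : Subgroup G)
  · have h1 : (P : Subgroup G) ≤ T := hRP ▸ hRT
    have h2 : (P : Subgroup G) = T := (isSyl_sylow P).eq_of_le hT.2.1 le_top h1
    rw [← h2] at hT
    exact hQ (hIH.use htop hT hD.1 (scl_of_le hD _) hN)
  have hRlt : R < (P : Subgroup G) := lt_of_le_of_ne inf_le_left hRP
  have hnR := inf_normalizer_lt P.2 hRlt
  -- `D ∩ R ≠ 1`
  have hDR : D ⊓ R ≠ ⊥ := by
    intro h
    apply hz1
    have : z ∈ D ⊓ R := by
      refine mem_inf.2 ⟨hzD, mem_inf.2 ⟨hD.1 hzD, ?_⟩⟩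
      apply centralizer_le_normalizer
      rw [mem_centralizer_iff]
      exact fun u hu => hz u (hQP hu)
    rw [h] at this
    exact this
  by_cases hRT' : R = T
  · have hDRp : IsPGroup p (D ⊓ R : Subgroup G) := hRp.to_le inf_le_right
    have h1 : (P : Subgroup G) ⊓ normalizer (R : Set G) ≤ normalizer (WW e p (D ⊓ R) : Set G) := by
      refine le_trans ?_ (normalizer_le_normalizer_WW e p (D ⊓ R))
      exact H1.Coprime2.le_normalizer_inf (inf_le_left.trans hPD) inf_le_right
    have h2 : HasNormalPComplement p (normalizer (WW e p (D ⊓ R) : Set G)) := by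
      by_contra h
      have h3 := hmax (WW e p (D ⊓ R)) ⟨(WW_le e p _).trans (inf_le_left.trans hD.1), WW_ne_bot e hDRp hDR, h⟩
      have h4 : Nat.card ((P : Subgroup G) ⊓ normalizer (R : Set G) : Subgroup G) ≤
          Nat.card ((P : Subgroup G) ⊓ normalizer (WW e p (D ⊓ R) : Set G) : Subgroup G) :=
        Subgroup.card_le_of_le (le_inf inf_le_left h1)
      exact absurd (hnR.trans_le h4) (not_lt_of_ge h3)
    have h5 : D ⊓ R = D ⊓ normalizer (Q : Set G) := by
      rw [hR, ← inf_assoc, inf_eq_left.2 hD.1]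
    have h6 : IsStronglyClosed ((D ⊓ R).subgroupOf (normalizer (Q : Set G))) (R.subgroupOf (normalizer (Q : Set G))) := by
      rw [h5]; exact scl_subgroupOf hD _
    rw [← hRT'] at hT
    exact hQ (hIH.use htop hT inf_le_right h6 h2)
  · have hRT2 : R < T := lt_of_le_of_ne hRT hRT'
    obtain ⟨n, hn, hnT⟩ := (isSyl_sylow P).exists_conj_le hT.2.1 le_top
    have hQT : Q ≤ T := hQR.trans hRT
    have h4 := hmax (Q.map (MulAut.conj n).toMonoidHom) ⟨(conj_mono hQT n).trans hnT, ?_, ?_⟩
    · have h5 : T.map (MulAut.conj n).toMonoidHom ≤ (P : Subgroup G) ⊓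
          normalizer ((Q.map (MulAut.conj n).toMonoidHom : Subgroup G) : Set G) := by
        refine le_inf hnT ?_
        rw [← conj_normalizer]
        exact conj_mono hT.1 n
      have h6 := Subgroup.card_le_of_le h5
      rw [card_conj] at h6
      exact absurd ((card_lt_of_lt hRT2).trans_le h6) (not_lt_of_ge h4)
    · intro h
      apply hQ1
      rwa [conj_eq_iff, conj_bot] at h
    · intro h
      apply hQ
      rw [← conj_normalizer, npc_conj] at h
      exact h

/-- the induction hypothesis for quotients -/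
def IHq (e : Bool) (p : ℕ) [Fact p.Prime] (G : Type*) [Group G] : Prop :=
  ∀ (N : Subgroup G) [N.Normal], N ≠ ⊥ → ∀ P : Sylow p (G ⧸ N), ∀ E : Subgroup (G ⧸ N), IsStronglyClosed E (P : Subgroup (G ⧸ N)) →
    HasNormalPComplement p (normalizer (WW e p E : Set (G ⧸ N))) →
      HasNormalPComplement p (G ⧸ N)

theorem npc_quotient {e : Bool} (hIH : IHs e p G) (hIHq : IHq e p G) (P : Sylow p G) {D : Subgroup G}
    (hD : IsStronglyClosed D (P : Subgroup G)) (hD1 : D ≠ ⊥) (hDH : ¬ D ≤ pCore p G)
    (h : ¬ HasNormalPComplement p G)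
    (hN : HasNormalPComplement p (normalizer (WW e p D : Set G))) :
    HasNormalPComplement p (G ⧸ pCore p G) := by
  have hH1 := pCore_ne_bot hIH P hD hD1 h hN
  set H := pCore p G with hH
  haveI : H.Normal := H1.Cores.pCore_normal p
  have hHP : H ≤ (P : Subgroup G) := H1.Cores.pCore_le_sylow P
  set π := QuotientGroup.mk' H with hπ
  have hπs : Function.Surjective π := QuotientGroup.mk'_surjective H
  have hker : π.ker = H := QuotientGroup.ker_mk' H
  set P' := P.mapSurjective hπs with hP'
  have hP'c : (P' : Subgroup (G ⧸ H)) = (P : Subgroup G).map π := rfl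
  set D' := D.map π with hD'
  have hD'c : IsStronglyClosed D' (P' : Subgroup (G ⧸ H)) := scl_map P hD H
  have hbot : D' ≠ ⊥ := by
    rw [hD', Ne, Subgroup.map_eq_bot_iff, hker]
    exact hDH
  have hD'p : IsPGroup p D' := P'.2.to_le hD'c.1
  apply hIHq H hH1 P' D' hD'c
  set X' := WW e p D' with hX'
  have hX'1 : X' ≠ ⊥ := WW_ne_bot e hD'p hbot
  set X := X'.comap π with hX
  have hXP : X ≤ (P : Subgroup G) := comap_le_of_surj _ ((WW_le e p _).trans hD'c.1) (by rw [hker]; exact hHP)
  have hnX : (normalizer (X' : Set (G ⧸ H))).comap π = normalizer (X : Set G) :=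
    comap_normalizer_eq_of_surjective X' hπs
  have hPX : (P : Subgroup G) ≤ normalizer (X : Set G) := by
    rw [← hnX, ← map_le_iff_le_comap]
    exact (ZJD.le_normalizer_of_scl hD'c).trans (normalizer_le_normalizer_WW e p D')
  have htop : normalizer (X : Set G) ≠ ⊤ := by
    intro h1
    have h2 : X ≤ H := H1.Cores.le_pCore (normalizer_eq_top_iff.mp h1) (P.2.to_le hXP)
    apply hX'1
    have h3 : X.map π = X' := map_comap_eq_self_of_surjective hπs X'
    rw [← h3, Subgroup.map_eq_bot_iff, hker]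
    exact h2
  have h4 := hIH.use' htop P hPX hD hN
  rw [← hnX] at h4
  exact of_surjective (π.subgroupComap _) (MonoidHom.subgroupComap_surjective_of_surjective _ _ hπs) h4

theorem pPrimeCore_eq_bot {e : Bool} (hIHq : IHq e p G) (P : Sylow p G) {D : Subgroup G}
    (hD : IsStronglyClosed D (P : Subgroup G))
    (h : ¬ HasNormalPComplement p G)
    (hN : HasNormalPComplement p (normalizer (WW e p D : Set G))) :
    pPrimeCore p G = ⊥ := by
  by_contra hY1
  apply h
  have hYc : (Nat.card (pPrimeCore p G)).Coprime p := H1.Cores.coprime_card_pPrimeCore p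
  have hYd : ¬ p ∣ Nat.card (pPrimeCore p G) := fun hd => by
    have := Nat.Coprime.eq_one_of_dvd hYc.symm hd
    exact (Fact.out : p.Prime).one_lt.ne' this
  have hDp : IsPGroup p D := P.2.to_le hD.1
  apply H2.NPC.of_quotient (pPrimeCore p G) hYd
  set Y := pPrimeCore p G with hY
  set π := QuotientGroup.mk' Y with hπ
  have hπs : Function.Surjective π := QuotientGroup.mk'_surjective Y
  have hker : π.ker = Y := QuotientGroup.ker_mk' Y
  apply hIHq Y hY1 (P.mapSurjective hπs) (D.map π) (scl_map P hD Y)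
  rw [WW_map_quotient e hDp hYc, normalizer_map_mk'_of (hDp.to_le (WW_le e p D)) hYc]
  exact of_surjective (π.subgroupMap _) (π.subgroupMap_surjective _) hN

/-- The final step: a minimal counterexample does not exist. -/
theorem final (hp2 : p ≠ 2) {e : Bool} (hIH : IHs e p G) (hIHq : IHq e p G) (P : Sylow p G) {D : Subgroup G}
    (hD : IsStronglyClosed D (P : Subgroup G))
    (hN : HasNormalPComplement p (normalizer (WW e p D : Set G))) :
    HasNormalPComplement p G := by
  classical
  by_contra h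
  have hp : p.Prime := Fact.out
  have hDnn : ¬ D.Normal := by
    intro hDn
    have h1 : normalizer (WW e p D : Set G) = ⊤ := by
      rw [eq_top_iff, ← normalizer_eq_top_iff.2 hDn]
      exact normalizer_le_normalizer_WW e p D
    rw [h1] at hN
    exact h (H2.NPC.of_mulEquiv topEquiv hN)
  have hD1 : D ≠ ⊥ := by
    rintro rfl
    exact hDnn inferInstance
  have hDH : ¬ D ≤ pCore p G := by
    intro hle
    apply hDnn
    haveI : (pCore p G).Normal := H1.Cores.pCore_normal p
    exact ⟨fun x hx g => hD.2 x hx g (H1.Cores.pCore_le_sylow P ((inferInstance : (pCore p G).Normal).conj_mem x (hle hx) g))⟩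
  have hH1 := pCore_ne_bot hIH P hD hD1 h hN
  have hq := npc_quotient hIH hIHq P hD hD1 hDH h hN
  have hO := pPrimeCore_eq_bot hIHq P hD h hN
  have hC := H37.PSolv.centralizer_pCore_le (isPSolvable_of_quotient hq) hO
  set H := pCore p G with hH
  haveI : H.Normal := H1.Cores.pCore_normal p
  have hHp : IsPGroup p H := H1.Cores.isPGroup_pCore p
  have hHP : H ≤ (P : Subgroup G) := H1.Cores.pCore_le_sylow P
  set π := QuotientGroup.mk' H with hπ
  have hπs : Function.Surjective π := QuotientGroup.mk'_surjective H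
  have hker : π.ker = H := QuotientGroup.ker_mk' H
  have hker' : ∀ x, π x = 1 ↔ x ∈ H := fun x => by rw [← MonoidHom.mem_ker, hker]
  set P' := P.mapSurjective hπs with hP'
  have hP'c : (P' : Subgroup (G ⧸ H)) = (P : Subgroup G).map π := rfl
  have h1 := (H2.NPC.iff_not_dvd_card_residual).mp hq
  obtain ⟨k, hk⟩ := H2.Residual.exists_index_residual (G := G ⧸ H) (p := p)
  set R := pResidual p (G ⧸ H) with hR
  haveI : R.Normal := by rw [hR]; infer_instance
  have hR1 : R ≠ ⊥ := by
    intro hb
    apply h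
    apply of_isPGroup
    rw [hb, index_bot] at hk
    obtain ⟨m, hm⟩ := hHp.exists_card_eq
    apply IsPGroup.of_card (n := m + k)
    rw [← H.card_mul_index, index_eq_card, hk, hm, pow_add]
  -- minimal invariant subgroup
  obtain ⟨S, ⟨hS1, hSR, hPS⟩, hmin⟩ := Set.exists_min_image
    {S : Subgroup (G ⧸ H) | S ≠ ⊥ ∧ S ≤ R ∧ (P' : Subgroup (G ⧸ H)) ≤ normalizer (S : Set (G ⧸ H))}
    (fun S => Nat.card S) (Set.toFinite _) ⟨R, hR1, le_rfl, by rw [normalizer_eq_top R]; exact le_top⟩
  have hSc : ¬ p ∣ Nat.card S := fun hd => h1 (hd.trans (Subgroup.card_dvd_of_le hSR))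
  have hmin' : ∀ T : Subgroup (G ⧸ H), T ≠ ⊥ → T ≤ S → (P' : Subgroup (G ⧸ H)) ≤ normalizer (T : Set (G ⧸ H)) →
      T = S := by
    intro T hT hTS hn
    exact Subgroup.eq_of_le_of_card_ge hTS (hmin T ⟨hT, hTS.trans hSR, hn⟩)
  have hScomm : ∀ a ∈ S, ∀ b ∈ S, a * b = b * a := by
    -- S is a q-group
    have hScard : Nat.card S ≠ 1 := fun h => hS1 (Subgroup.card_eq_one.mp h)
    set q := (Nat.card S).minFac with hqdef
    haveI : Fact q.Prime := ⟨Nat.minFac_prime hScard⟩
    have hcop : (Nat.card (P' : Subgroup (G ⧸ H))).Coprime (Nat.card S) := by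
      obtain ⟨m, hm⟩ := P'.2.exists_card_eq
      rw [hm]
      exact ((Nat.Prime.coprime_iff_not_dvd hp).mpr hSc).pow_left m
    have hsolv : Group.IsSolvable (P' : Subgroup (G ⧸ H)) := by
      haveI : Group.IsNilpotent (P' : Subgroup (G ⧸ H)) := P'.2.isNilpotent
      infer_instance
    obtain ⟨T, hT, hPT⟩ := H1.Coprime2.exists_invariant_sylow (P' : Subgroup (G ⧸ H)) S hPS hcop
      (Or.inl hsolv) q
    have hT1 : T ≠ ⊥ := by
      intro hb
      have h2 := hT.2
      rw [hb, Subgroup.card_bot] at h2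
      have h3 : (Nat.card S).factorization q ≠ 0 := by
        exact (Nat.Prime.factorization_pos_of_dvd Fact.out Nat.card_pos.ne' (Nat.minFac_dvd _)).ne'
      have h4 : 1 < q ^ (Nat.card S).factorization q := Nat.one_lt_pow h3 (Fact.out : q.Prime).one_lt
      omega
    have hTS := hmin' T hT1 hT.1 hPT
    have hSq : IsPGroup q S := by
      rw [← hTS]
      exact IsPGroup.of_card hT.2
    by_contra hcon
    have h2 : ⁅S, S⁆ ≠ ⊥ := by
      intro hb
      apply hcon
      intro a ha b hb'
      have := commutator_mem_commutator ha hb'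
      rw [hb, mem_bot, commutatorElement_eq_one_iff_mul_comm] at this
      exact this
    have h3 := commutator_lt_of_isPGroup hSq hS1
    have h4 := hmin' ⁅S, S⁆ h2 h3.le (H1.Coprime2.le_normalizer_commutator hPS hPS)
    exact h3.ne h4
  -- G = P S
  have hPSn : (P' : Subgroup (G ⧸ H)) ⊔ S ≤ normalizer (S : Set (G ⧸ H)) := sup_le hPS le_normalizer
  have htop : (P' : Subgroup (G ⧸ H)) ⊔ S = ⊤ := by
    by_contra hne
    set G₁ := ((P' : Subgroup (G ⧸ H)) ⊔ S).comap π with hG₁
    have hG₁t : G₁ ≠ ⊤ := by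
      intro ht
      apply hne
      have h2 : G₁.map π = (P' : Subgroup (G ⧸ H)) ⊔ S := map_comap_eq_self_of_surjective hπs _
      rw [← h2, ht, ← MonoidHom.range_eq_map, MonoidHom.range_eq_top.mpr hπs]
    have hPG₁ : (P : Subgroup G) ≤ G₁ := by
      rw [hG₁, ← map_le_iff_le_comap]
      exact le_sup_left
    have h3 := hIH.use' hG₁t P hPG₁ hD hN
    have h4 : ∀ y ∈ G₁, (orderOf y).Coprime p → y = 1 := by
      intro y hy hyo
      have h5 := H2.Frobenius.local_of_hasNPC h3 (H.subgroupOf G₁) (hHp.comap_subtype) ⟨y, hy⟩ (by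
        haveI : (H.subgroupOf G₁).Normal := inferInstance
        rw [normalizer_eq_top (H.subgroupOf G₁)]; trivial) (by rwa [orderOf_mk])
      have h6 : y ∈ centralizer (H : Set G) := by
        rw [mem_centralizer_iff] at h5 ⊢
        intro v hv
        exact congrArg Subtype.val (h5 ⟨v, hPG₁ (hHP hv)⟩ hv)
      have h7 := hC h6
      exact H38.PPrime.eq_one_of_coprime_of_isPGroup hHp h7 hyo
    obtain ⟨⟨s', hs'⟩, hs1'⟩ := Subgroup.ne_bot_iff_exists_ne_one.mp hS1
    have hs1 : s' ≠ 1 := fun h => hs1' (Subtype.ext h)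
    obtain ⟨s, rfl⟩ := hπs s'
    have hsG : s ∈ G₁ := by rw [hG₁, mem_comap]; exact mem_sup_right hs'
    have hm : ∃ m, ¬ p ∣ m ∧ s ^ m ∈ H := ⟨Nat.card S, hSc, by
      rw [← hker', map_pow]
      exact congrArg Subtype.val (pow_card_eq_one' (x := (⟨π s, hs'⟩ : S)))⟩
    obtain ⟨y, hy1, hy2, hy3⟩ := exists_pprime_power (p := p) (fun h => hs1 ((hker' s).mpr h)) hm
    apply hy3
    rw [h4 y ((zpowers_le.mpr hsG) hy1) hy2]
    exact one_mem _
  haveI hSn : S.Normal := by
    rw [← normalizer_eq_top_iff, eq_top_iff, ← htop]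
    exact hPSn
  set K := S.comap π with hK
  haveI : K.Normal := by rw [hK]; infer_instance
  have hKK : ∀ a ∈ K, ∀ b ∈ K, ⁅a, b⁆ ∈ H := by
    intro a ha b hb
    rw [← hker', map_commutatorElement, commutatorElement_eq_one_iff_mul_comm]
    exact hScomm _ ha _ hb
  have hKm : ∀ a ∈ K, ∃ m, ¬ p ∣ m ∧ a ^ m ∈ H := by
    intro a ha
    refine ⟨Nat.card S, hSc, ?_⟩
    rw [← hker', map_pow]
    exact congrArg Subtype.val (pow_card_eq_one' (x := (⟨π a, ha⟩ : S)))
  have hHK : H ≤ K := fun x hx => by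
    rw [hK, mem_comap, (hker' x).mpr hx]; exact one_mem _
  have hPK : (P : Subgroup G) ⊔ K = ⊤ := by
    have h2 : ((P : Subgroup G) ⊔ K).map π = ⊤ := by
      rw [Subgroup.map_sup, map_comap_eq_self_of_surjective hπs]; exact htop
    have h3 := congrArg (fun X => Subgroup.comap π X) h2
    simp only [comap_top] at h3
    rw [comap_map_eq, hker, sup_eq_left.mpr (hHK.trans le_sup_right)] at h3
    exact h3
  have hstab : ∀ V : Subgroup G, V.Normal → IsPGroup p V → Stab (P : Subgroup G) V := by
    intro V hVn hV A hAP hq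
    have hVH : V ≤ H := H1.Cores.le_pCore hVn hV
    by_cases hcase : ∀ a ∈ A, ∀ k ∈ K, k⁻¹ * (a * k * a⁻¹) ∈ H
    · refine ⟨H, inferInstance, ?_, hHP.trans le_sup_right⟩
      -- A ≤ H
      set Z := (P' : Subgroup (G ⧸ H)) ⊓ centralizer (S : Set (G ⧸ H)) with hZ
      have hZn : Z.Normal := by
        rw [← normalizer_eq_top_iff, eq_top_iff, ← htop]
        refine sup_le ?_ ?_
        · exact H1.Coprime2.le_normalizer_inf le_normalizer (H1.Coprime2.le_normalizer_centralizer hPS)
        · intro s hs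
          refine centralizer_le_normalizer _ ?_
          rw [mem_centralizer_iff]
          intro z hz
          exact (mem_centralizer_iff.mp (mem_inf.mp hz).2 s hs).symm
      have hZb : Z = ⊥ := by
        have h2 : Z ≤ pCore p (G ⧸ H) := H1.Cores.le_pCore hZn (P'.2.to_le inf_le_left)
        exact le_bot_iff.mp (h2.trans (H1.Cores.pCore_quotient_pCore (G := G) p).le)
      intro a ha
      rw [← hker', ← mem_bot, ← hZb]
      refine mem_inf.mpr ⟨mem_map_of_mem π (hAP ha), ?_⟩
      rw [mem_centralizer_iff]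
      intro s hs
      obtain ⟨k, rfl⟩ := hπs s
      have h3 := (hker' _).mpr (hcase a ha k hs)
      rw [map_mul, map_mul, map_mul, map_inv, map_inv, inv_mul_eq_one] at h3
      nth_rw 1 [h3]; group
    · push Not at hcase
      obtain ⟨a, ha, k, hk, hr⟩ := hcase
      refine ⟨⊤, inferInstance, le_top, ?_⟩
      have hrK : k⁻¹ * (a * k * a⁻¹) ∈ K :=
        mul_mem (inv_mem hk) ((inferInstance : K.Normal).conj_mem k hk a)
      obtain ⟨y, hy1, hy2, hy3⟩ := exists_pprime_power (p := p) hr (hKm _ hrK)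
      have hyK : y ∈ K := (zpowers_le.mpr hrK) hy1
      obtain ⟨j, hj⟩ := P.2 ⟨a, hAP ha⟩
      have haj : a ^ (p ^ j) = 1 := congrArg Subtype.val hj
      have hquad : ∀ v ∈ V, ⁅a, ⁅a, v⁆⁆ = 1 := by
        intro v hv
        have h2 : ⁅a, ⁅a, v⁆⁆ ∈ ⁅⁅V, A⁆, A⁆ := by
          rw [commutator_comm, commutator_comm V A]
          exact commutator_mem_commutator ha (commutator_mem_commutator ha hv)
        rw [hq, mem_bot] at h2
        exact h2
      have hyC := H14.QuadStab.mem_centralizer_of_quadratic hp2 H hHp K hKK hKm a ⟨j, haj⟩ _ V hVn hVH le_rfl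
        hquad k hk y hy1 hy2
      set C := centralizer (V : Set G) with hCdef
      haveI := hVn
      have hCK : (C ⊓ K).map π = S := by
        apply hmin'
        · intro hb
          apply hy3
          rw [Subgroup.map_eq_bot_iff, hker] at hb
          exact hb (mem_inf.mpr ⟨hyC, hyK⟩)
        · rintro _ ⟨x, hx, rfl⟩
          exact (mem_inf.mp hx).2
        · have : ((C ⊓ K).map π).Normal := Normal.map inferInstance π hπs
          rw [normalizer_eq_top]; exact le_top
      have h2 : K ≤ C ⊔ (P : Subgroup G) := by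
        intro x hx
        have h3 : π x ∈ (C ⊓ K).map π := by rw [hCK]; exact hx
        obtain ⟨c, hc, hcx⟩ := h3
        have h4 : c⁻¹ * x ∈ H := by rw [← hker', map_mul, map_inv, hcx, inv_mul_cancel]
        have h5 : x = c * (c⁻¹ * x) := by group
        rw [h5]
        exact mul_mem (mem_sup_left (mem_inf.mp hc).1) (mem_sup_right (hHP h4))
      rw [← hPK]
      exact sup_le le_sup_right h2
  have hW := ZJD.zjd_normal hp2 e P hD hstab hC
  rw [normalizer_eq_top] at hN
  exact h (H2.NPC.of_mulEquiv topEquiv hN)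

theorem npc_aux {p : ℕ} [Fact p.Prime] (hp2 : p ≠ 2) (e : Bool) : ∀ (n : ℕ) (G : Type*) [Group G] [Finite G]
    (P : Sylow p G) (D : Subgroup G), IsStronglyClosed D (P : Subgroup G) → Nat.card G ≤ n →
    HasNormalPComplement p (normalizer (WW e p D : Set G)) → HasNormalPComplement p G := by
  intro n
  induction n with
  | zero =>
    intro G _ _ P D _ hn
    have := Nat.card_pos (α := G)
    omega
  | succ n ih =>
    intro G _ _ P D hD hn hN
    refine final hp2 (e := e) ?_ ?_ P hD hN
    · intro M hM T E hE hT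
      refine ih M T E hE ?_ hT
      have h1 := card_lt_of_lt (lt_top_iff_ne_top.mpr hM)
      rw [card_top] at h1
      omega
    · intro N _ hN1 T E hE hT
      refine ih (G ⧸ N) T E hE ?_ hT
      have h1 := N.card_mul_index
      rw [index_eq_card] at h1
      have h2 : 1 < Nat.card N := by
        have h3 : Nat.card N ≠ 1 := fun h => hN1 (Subgroup.card_eq_one.mp h)
        have h4 := Nat.card_pos (α := N)
        omega
      have h3 : 0 < Nat.card (G ⧸ N) := Nat.card_pos
      nlinarith

/-- the normal `p`-complement criterion for strongly closed subgroups -/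
theorem npc {p : ℕ} [Fact p.Prime] (hp2 : p ≠ 2) (e : Bool) {G : Type*} [Group G] [Finite G] (P : Sylow p G) {D : Subgroup G}
    (hD : IsStronglyClosed D (P : Subgroup G))
    (h : HasNormalPComplement p (normalizer (WW e p D : Set G))) :
    HasNormalPComplement p G := npc_aux hp2 e _ G P D hD le_rfl h

end H56.ZJDNpc
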