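import Mathlib
import Cfsg.Agent.Lib.H56.ZJDInd
import Cfsg.Agent.Lib.H51.QdStab3
import Cfsg.Agent.Lib.H38.Goldschmidt

/-! `Z(J(S))` and fusion when the normalizers of the subgroups containing `Z(S)` have no `SL₂(p)` sections -/

set_option autoImplicit false

namespace H56.ZJSl2

open Cfsg H38.Basic H38.Alperin H38.Functor H38.Control H14.ZJ H14.MaxIn H56.ZJDFun Subgroup

universe u

theorem isConjugacyFunctor_WW {G : Type*} [Group G] [Finite G] {p : ℕ} [Fact p.Prime] (e : Bool) :
    IsConjugacyFunctor p (WW e p : Subgroup G → Subgroup G) := by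
  intro P hP
  refine ⟨WW_le e p P, fun h => H14.ZJ4.WW_ne_bot e hP h, fun g => ?_⟩
  rw [WW_map e p (MulAut.conj g).injective]

/-- central elements lie in `Z(J(Q))` -/
theorem central_le_WW {G : Type*} [Group G] [Finite G] {p : ℕ} (Q : Subgroup G) {x : G} (hx : x ∈ Q)
    (hc : ∀ y ∈ Q, y * x = x * y) : x ∈ WW false p Q := by
  rw [mem_WW]
  intro A hA
  have hcomm : ∀ a ∈ A, a * x = x * a := fun a ha => hc a (hA.1 ha)
  have h1 := H14.PBasic.isMulCommutative_closure_insert hA.2.1.1 (x := x) (by
    intro a ha; first | exact hcomm a ha | exact (hcomm a ha).symm)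
  have h2 := hA.2.2 _ ?_ (prE_false.mpr h1)
  · have h3 := Subgroup.eq_of_le_of_card_ge (H14.PBasic.le_closure_insert A x) h2
    rw [h3]
    exact H14.PBasic.mem_closure_insert A x
  · rw [closure_le]
    rintro y (rfl | hy)
    · exact hx
    · exact hA.1 hy

/-- sections -/
theorem exists_section {G : Type u} [Group G] {N : Subgroup G} {X : Type*} [Group X] (h : Involves X ↥N) :
    ∃ (H K : Subgroup G) (_ : (K.subgroupOf H).Normal), H ≤ N ∧ Nonempty ((H ⧸ K.subgroupOf H) ≃* X) := by
  obtain ⟨K', f, hf⟩ := H51.Involves.exists_surjective h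
  set H := K'.map N.subtype with hH
  let e := K'.equivMapOfInjective N.subtype N.subtype_injective
  let f' : H →* X := f.comp e.symm.toMonoidHom
  have hf' : Function.Surjective f' := hf.comp e.symm.surjective
  have h1 : (f'.ker.map H.subtype).subgroupOf H = f'.ker := by
    rw [← Subgroup.comap_subtype, Subgroup.comap_map_eq_self_of_injective H.subtype_injective]
  have hn : ((f'.ker.map H.subtype).subgroupOf H).Normal := by rw [h1]; infer_instance
  refine ⟨H, f'.ker.map H.subtype, hn, Subgroup.map_subtype_le _, ⟨?_⟩⟩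
  exact (QuotientGroup.quotientMulEquivOfEq h1).trans (QuotientGroup.quotientKerEquivOfSurjective f' hf')

variable {G : Type u} [Group G] [Finite G] {p : ℕ} [Fact p.Prime]

/-- local control of strong fusion -/
theorem local_control (hp : p ≠ 2) (S : Sylow p G) {U : Subgroup G} 
    (hU : IsSyl p ((S : Subgroup G) ⊓ normalizer (U : Set G)) (normalizer (U : Set G)))
    (hqd : ¬ Involves ↥(qd p) ↥(normalizer (U : Set G))) :
    ControlsStrongFusionIn p (WW false p) (normalizer (U : Set G)) := by
  rw [controlsStrongFusionIn_iff (isConjugacyFunctor_WW false) hU]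
  set N := normalizer (U : Set G) with hN
  have h2 := H56.ZJDInd.main hp false hqd hU.toSylow (D := (hU.toSylow : Subgroup ↥N)) ⟨le_rfl, fun x _ g hg => hg⟩
  have h3 := H38.Section.strongIn_map h2
  rw [hU.map_toSylow, H38.Witness.map_normalizer, ← WW_map false p N.subtype_injective, hU.map_toSylow] at h3
  exact h3

theorem main (hp : p ≠ 2) (S : Sylow p G)
    (hqd : ∀ U : Subgroup G, (S : Subgroup G) ⊓ centralizer ((S : Subgroup G) : Set G) ≤ U → U ≤ (S : Subgroup G) →
      ¬ Involves ↥(qd p) ↥(normalizer (U : Set G))) :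
    StrongIn (normalizer (WW false p (S : Subgroup G) : Set G)) (S : Subgroup G) ⊤ := by
  have hW := isConjugacyFunctor_WW (G := G) (p := p) false
  set Z := (S : Subgroup G) ⊓ centralizer ((S : Subgroup G) : Set G) with hZ
  set Y := normalizer (WW false p (S : Subgroup G) : Set G) with hY
  have hNSY : normalizer ((S : Subgroup G) : Set G) ≤ Y := normalizer_le_normalizer_WW false p _
  have hR := actRel_isFusionRel Y
  -- `Z(S) ≤ W(S ∩ N(T))` for `T ≤ S`
  have hZtower : ∀ T : Subgroup G, T ≤ (S : Subgroup G) → Z ≤ WW false p ((S : Subgroup G) ⊓ normalizer (T : Set G)) := by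
    intro T hT z hz
    obtain ⟨hz1, hz2⟩ := mem_inf.1 hz
    rw [mem_centralizer_iff] at hz2
    apply central_le_WW
    · refine mem_inf.2 ⟨hz1, ?_⟩
      apply centralizer_le_normalizer
      rw [mem_centralizer_iff]
      exact fun t ht => hz2 t (hT ht)
    · exact fun y hy => hz2 y (mem_inf.1 hy).1
  -- elements of `N(T)` for `T` well placed containing `Z(S)`
  have hwp : ∀ T : Subgroup G, IsWellPlaced p (WW false p) (S : Subgroup G) T → Z ≤ T → ∀ x ∈ normalizer (T : Set G),
      ActRel Y (T : Set G) x := by
    intro T hT hZT x hx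
    have hT' := (isWellPlaced_iff S.2).1 hT
    have htS : ∀ i, functorTower (WW false p) (S : Subgroup G) T i ≤ (S : Subgroup G) := tower_le hW S.2 hT.1
    have hZi : ∀ i, Z ≤ functorTower (WW false p) (S : Subgroup G) T i := by
      intro i
      cases i with
      | zero => exact hZT
      | succ i => exact hZtower _ (htS i)
    have key : ∀ i, ActRel (normalizer ((functorTower (WW false p) (S : Subgroup G) T i : Subgroup G) : Set G))
        (T : Set G) x := by
      intro i
      induction i with
      | zero => exact ⟨x, hx, fun _ _ => rfl⟩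
      | succ i ih =>
        obtain ⟨y, hy, hya⟩ := ih
        have h1 := local_control hp S (hT'.2 i) (hqd _ (hZi i) (htS i))
        rw [controlsStrongFusionIn_iff hW (hT'.2 i)] at h1
        have h0 : T ≤ towerNorm (WW false p) (S : Subgroup G) T 0 := tower_le_towerNorm hW S.2 hT.1 0
        have h2 : T ≤ towerNorm (WW false p) (S : Subgroup G) T i := h0.trans (towerNorm_mono hW S.2 (Nat.zero_le i))
        obtain ⟨z, hz, hza⟩ := h1 (T : Set G) y hy h2 (by
          rintro _ ⟨a, ha, rfl⟩
          simp only [hya a ha]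
          exact h2 ((Subgroup.mem_normalizer_iff.1 hx a).1 ha))
        exact ⟨z, hz.2, fun a ha => (hza a ha).trans (hya a ha)⟩
    obtain ⟨n, hn⟩ := exists_towerNorm_eq (S := (S : Subgroup G)) (T := T) hW S.2
    have := key (n + 1)
    rwa [tower_succ, hn n le_rfl] at this
  -- downward induction
  have main : ∀ d k : ℕ, Nat.card (S : Subgroup G) ≤ d + k → ∀ T : Subgroup G, T ≤ (S : Subgroup G) → k ≤ Nat.card T →
      ∀ x : G, T.map (MulAut.conj x).toMonoidHom ≤ (S : Subgroup G) → ActRel Y (T : Set G) x := by
    intro d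
    induction d with
    | zero =>
      intro k hk T hT hkT x hx
      have hTS : T = (S : Subgroup G) := Subgroup.eq_of_le_of_card_ge hT (by omega)
      subst hTS
      refine ⟨x, hNSY ?_, fun _ _ => rfl⟩
      rw [H38.Basic.mem_normalizer_iff']
      exact Subgroup.eq_of_le_of_card_ge hx (by rw [card_conj])
    | succ d ih =>
      intro k hk T hT hkT x hx
      refine alperin_abs S hR k (fun x hx => ⟨x, hNSY hx, fun _ _ => rfl⟩) ?_ T hT hkT x hx
      intro Q hQ hkQ
      obtain ⟨g, hg⟩ := exists_wellPlaced S hW Q hQ.le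
      set U := Q.map (MulAut.conj g).toMonoidHom with hU
      have hUw := (isWellPlaced_iff S.2).1 hg
      have hUS : U ≤ (S : Subgroup G) := hUw.1
      have hUsyl : IsSyl p ((S : Subgroup G) ⊓ normalizer (U : Set G)) (normalizer (U : Set G)) := hUw.2 0
      have hcU : Nat.card U = Nat.card Q := card_conj Q g
      refine ⟨U, ⟨g, rfl⟩, hUsyl, ?_⟩
      intro x hx
      by_cases hZU : Z ≤ U
      · exact hwp U hg hZU x hx
      · set C := centralizer (U : Set G) with hC
        have hCN : C ≤ normalizer (U : Set G) := centralizer_le_normalizer _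
        have hNC : normalizer (U : Set G) ≤ normalizer (C : Set G) := H39.Comm.normalizer_le_normalizer_centralizer U
        have h1 := hUsyl.inf_normal hCN hNC
        obtain ⟨m, hm, n, hn, rfl⟩ := H38.Goldschmidt.frattini h1 hNC hx hCN
        have h2 : (S : Subgroup G) ⊓ normalizer (U : Set G) ⊓ C = (S : Subgroup G) ⊓ C := by
          rw [inf_assoc, inf_eq_right.2 hCN]
        rw [h2] at hn
        obtain ⟨hn1, hn2⟩ := mem_inf.1 hn
        set U' := U ⊔ ((S : Subgroup G) ⊓ C) with hU'
        have hU'S : U' ≤ (S : Subgroup G) := sup_le hUS inf_le_left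
        have hUU' : U < U' := by
          refine lt_of_le_of_ne le_sup_left fun h => hZU ?_
          rw [h]
          refine le_trans ?_ le_sup_right
          exact le_inf inf_le_left (inf_le_right.trans (centralizer_le hUS))
        have hnU' : n ∈ normalizer (U' : Set G) := by
          rw [H38.Basic.mem_normalizer_iff'] at hn1 hn2 ⊢
          rw [hU', conj_sup, hn1, hn2]
        have hlt : Nat.card U < Nat.card U' := by
          have h3 := Subgroup.card_le_of_le hUU'.le
          rcases h3.lt_or_eq with h4 | h4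
          · exact h4
          · exact absurd (Subgroup.eq_of_le_of_card_ge hUU'.le h4.ge) hUU'.ne
        have h4 := ih (k + 1) (by omega) U' hU'S (by omega) n (by rw [H38.Basic.mem_normalizer_iff'.1 hnU']; exact hU'S)
        have h5 := hR.mono (show (U : Set G) ⊆ U' from hUU'.le) h4
        refine H56.ZJDInd.ActRel.congr h5 fun a ha => ?_
        have h6 : n * a * n⁻¹ ∈ U := (Subgroup.mem_normalizer_iff.1 hn1 a).1 ha
        have h7 := mem_centralizer_iff.1 hm _ h6
        calc m * n * a * (m * n)⁻¹ = m * (n * a * n⁻¹) * m⁻¹ := by group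
          _ = (n * a * n⁻¹) * m * m⁻¹ := by rw [h7]
          _ = n * a * n⁻¹ := by group
  rw [strongIn_top_iff]
  intro T g hT hg
  obtain ⟨y, hy, hya⟩ := main (Nat.card (S : Subgroup G)) 0 (by omega) T hT (Nat.zero_le _) g hg
  refine ⟨y, hy, y⁻¹ * g, ?_, by group⟩
  rw [mem_centralizer_iff]
  intro a ha
  have := hya a ha
  calc a * (y⁻¹ * g) = y⁻¹ * (y * a * y⁻¹) * g := by group
    _ = y⁻¹ * (g * a * g⁻¹) * g := by rw [this]
    _ = y⁻¹ * g * a := by group

end H56.ZJSl2
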